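import Mathlib.LinearAlgebra.BilinearForm.Orthogonal
import Mathlib.FieldTheory.Finite.Basic
import Mathlib.RingTheory.Nilpotent.Basic
import Mathlib.Algebra.Ring.GeomSum
import Mathlib.Tactic.Module
import Mathlib.Algebra.Polynomial.Degree.SmallDegree

/-!
# S5177: linear algebra on a symplectic space
-/

set_option autoImplicit false
set_option linter.unusedSectionVars false
set_option linter.unusedVariables false

namespace Cfsg.Agent.EX

variable {p : ℕ} [hp : Fact p.Prime] {V : Type*} [AddCommGroup V] [Module (ZMod p) V] [Finite V]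
  {B : V →ₗ[ZMod p] V →ₗ[ZMod p] ZMod p} {w : Module.End (ZMod p) V}

theorem two_ne_zero' (hp2 : p ≠ 2) : (2 : ZMod p) ≠ 0 := by
  intro h
  have : ((2 : ℕ) : ZMod p) = 0 := by exact_mod_cast h
  rw [ZMod.natCast_eq_zero_iff] at this
  exact hp2 ((Nat.prime_dvd_prime_iff_eq hp.out Nat.prime_two).1 this)

theorem sub_one_pow_char (w : Module.End (ZMod p) V) (k : ℕ) : (w - 1) ^ p ^ k = w ^ p ^ k - 1 := by
  rcases subsingleton_or_nontrivial (Module.End (ZMod p) V) with h | h
  · exact Subsingleton.elim _ _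
  · have : CharP (Module.End (ZMod p) V) p :=
      charP_of_injective_algebraMap (algebraMap (ZMod p) _).injective p
    rw [sub_pow_char_pow_of_commute _ _ (Commute.one_right w), one_pow]

theorem sub_one_pow_eq_zero (h : w ^ p = 1) : (w - 1) ^ p = 0 := by
  have := sub_one_pow_char w 1
  rwa [pow_one, h, sub_self] at this

theorem isNilpotent_sub_one {k : ℕ} (h : w ^ p ^ k = 1) : IsNilpotent (w - 1) :=
  ⟨p ^ k, by rw [sub_one_pow_char, h, sub_self]⟩

/-- Every linear functional is represented by the form. -/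
theorem exists_rep (skew : ∀ u v, B u v = -B v u) (nondeg : ∀ v, (∀ u, B u v = 0) → v = 0)
    (f : V →ₗ[ZMod p] ZMod p) : ∃ a, ∀ v, f v = B v a := by
  have hB : LinearMap.BilinForm.Nondegenerate B :=
    ⟨fun v hv => nondeg v fun u => by rw [skew, hv, neg_zero], fun v hv => nondeg v hv⟩
  refine ⟨-(LinearMap.BilinForm.toDual B hB).symm f, fun v => ?_⟩
  rw [map_neg, skew, neg_neg, LinearMap.BilinForm.apply_toDual_symm_apply]

/-- `im (w - 1) = (ker (w - 1))^⊥` for an isometry `w`. -/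
theorem mem_range_iff (skew : ∀ u v, B u v = -B v u) (nondeg : ∀ v, (∀ u, B u v = 0) → v = 0)
    (hw : ∀ u v, B (w u) (w v) = B u v) {v : V} :
    (∃ u, w u - u = v) ↔ ∀ a, w a = a → B a v = 0 := by
  constructor
  · rintro ⟨u, rfl⟩ a ha
    rw [map_sub, ← hw a u, ha, sub_self]
  · intro h
    by_contra hv
    have hv' : v ∉ LinearMap.range (w - 1) := fun ⟨u, hu⟩ => hv ⟨u, hu⟩
    obtain ⟨f, hf, hf'⟩ := Submodule.exists_dual_map_eq_bot_of_notMem hv' inferInstance
    obtain ⟨a, ha⟩ := exists_rep skew nondeg f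
    have hinj : Function.Injective w := (injective_iff_map_eq_zero w).2 fun x hx =>
      nondeg x fun u => by rw [← hw, hx, map_zero]
    have hsurj := Finite.surjective_of_injective hinj
    have : w a = a := by
      rw [← sub_eq_zero]
      refine nondeg _ fun u => ?_
      obtain ⟨u, rfl⟩ := hsurj u
      have h1 : f (w u - u) = 0 := by
        have : f (w u - u) ∈ (LinearMap.range (w - 1)).map f := ⟨_, ⟨u, rfl⟩, rfl⟩
        rwa [hf', Submodule.mem_bot] at this
      rw [ha, map_sub, LinearMap.sub_apply, sub_eq_zero] at h1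
      rw [map_sub, hw, h1, sub_self]
    exact hf (by rw [ha, skew, h a this, neg_zero])

/-- Lemma W: one non-trivial Jordan block, of size `j + 1`. -/
theorem lemW (hp2 : p ≠ 2) (skew : ∀ u v, B u v = -B v u)
    (nondeg : ∀ v, (∀ u, B u v = 0) → v = 0) (hw : ∀ u v, B (w u) (w v) = B u v)
    (hnil : IsNilpotent (w - 1)) {a : V} (ha : a ≠ 0) (ha1 : w a = a) (ha2 : ∃ u, w u - u = a)
    (huniq : ∀ u, w (w u - u) = w u - u → ∃ c : ZMod p, w u - u = c • a) :
    ∃ j : ℕ, Odd j ∧ (w - 1) ^ (j + 1) = 0 ∧ ∃ v, ((w - 1) ^ j) v = a ∧ B v a ≠ 0 ∧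
      (∀ u, ((w - 1) ^ j) u = 0 ↔ B u a = 0) ∧
      ∀ (σ : Module.End (ZMod p) V) (μ β : ZMod p) (m : ℕ), (∀ u u', B (σ u) (σ u') = μ * B u u') →
        σ * w = w ^ m * σ → σ a = β • a →
        ∃ γ : ZMod p, ((w - 1) ^ j) (σ v - γ • v) = 0 ∧ β = (m : ZMod p) ^ j * γ ∧ μ = γ * β := by
  classical
  set δ := w - 1 with hδ
  have hδa : ∀ u, δ u = w u - u := fun u => rfl
  have hex : ∃ n, δ ^ n = 0 := hnil
  have hN := Nat.find_spec hex
  obtain ⟨u1, hu1⟩ := ha2
  have hN2 : 2 ≤ Nat.find hex := by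
    by_contra hlt
    have : δ ^ 1 = 0 := pow_eq_zero_of_le (by omega) hN
    rw [pow_one] at this
    exact ha (by rw [← hu1, ← hδa, this]; rfl)
  obtain ⟨i, hi⟩ : ∃ i, Nat.find hex = i + 1 + 1 := ⟨Nat.find hex - 2, by omega⟩
  have hj : δ ^ (i + 1) ≠ 0 := Nat.find_min hex (by omega)
  rw [hi] at hN
  have hcomm : Commute w δ := by
    rw [hδ]; exact (Commute.refl w).sub_right (Commute.one_right w)
  have hfix : ∀ u, w ((δ ^ (i + 1)) u) = (δ ^ (i + 1)) u := fun u => by
    rw [← sub_eq_zero, ← hδa, ← Module.End.mul_apply, ← pow_succ', hN]; rfl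
  have hline : ∀ u, ∃ c : ZMod p, (δ ^ (i + 1)) u = c • a := fun u => by
    have := huniq ((δ ^ i) u) (by
      rw [← hδa, ← Module.End.mul_apply δ (δ ^ i), ← pow_succ']; exact hfix u)
    rwa [← hδa, ← Module.End.mul_apply, ← pow_succ'] at this
  have id1 : ∀ k u v, B ((δ ^ k) u) ((w ^ k) v) = (-1) ^ k * B u ((δ ^ k) v) := fun k => by
    induction k with
    | zero => simp
    | succ k ih =>
      intro u v
      have h1 : ∀ u v, B (δ u) (w v) = -B u (δ v) := fun u v => by
        rw [hδa, hδa, map_sub, map_sub, LinearMap.sub_apply, hw]; ring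
      rw [pow_succ' δ, pow_succ' w, Module.End.mul_apply, Module.End.mul_apply, h1,
        ← Module.End.mul_apply δ (w ^ k), ← (hcomm.pow_left k).eq, Module.End.mul_apply, ih,
        ← Module.End.mul_apply (δ ^ k) δ, ← pow_succ, ← pow_succ']
      ring
  have hwk : ∀ k u v, B ((w ^ k) u) ((w ^ k) v) = B u v := fun k => by
    induction k with
    | zero => simp
    | succ k ih => intro u v; rw [pow_succ', Module.End.mul_apply, Module.End.mul_apply, hw, ih]
  have hfixk : ∀ (k : ℕ) y, w y = y → (w ^ k) y = y := fun k y hy => by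
    induction k with
    | zero => simp
    | succ k ih => rw [pow_succ, Module.End.mul_apply, hy, ih]
  have id2 : ∀ u v, B ((δ ^ (i + 1)) u) v = (-1) ^ (i + 1) * B u ((δ ^ (i + 1)) v) := fun u v => by
    rw [← id1, ← hwk (i + 1) _ v, hfixk _ _ (hfix u)]
  obtain ⟨u0, hu0⟩ : ∃ u0, (δ ^ (i + 1)) u0 ≠ 0 := by
    by_contra hcon
    push Not at hcon
    exact hj (LinearMap.ext hcon)
  obtain ⟨c, hc⟩ := hline u0
  have hc0 : c ≠ 0 := by rintro rfl; exact hu0 (by rw [hc, zero_smul])
  have hv : (δ ^ (i + 1)) (c⁻¹ • u0) = a := by rw [map_smul, hc, smul_smul, inv_mul_cancel₀ hc0, one_smul]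
  generalize c⁻¹ • u0 = v at hv
  have hm1 : ((-1 : ZMod p) ^ (i + 1)) ≠ 0 := pow_ne_zero _ (neg_ne_zero.2 one_ne_zero)
  have hav : B a v ≠ 0 := fun h0 => ha (nondeg a fun u => by
    obtain ⟨c, hc⟩ := hline u
    have := id2 u v
    rw [hc, hv, map_smul, LinearMap.smul_apply, h0, smul_zero] at this
    exact (mul_eq_zero.1 this.symm).resolve_left hm1)
  have hker : ∀ u, (δ ^ (i + 1)) u = 0 ↔ B u a = 0 := fun u => by
    obtain ⟨c, hc⟩ := hline u
    have := id2 u v
    rw [hc, hv, map_smul, LinearMap.smul_apply, smul_eq_mul] at this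
    rw [hc]
    constructor
    · intro h
      rw [(smul_eq_zero.1 h).resolve_right ha, zero_mul] at this
      exact (mul_eq_zero.1 this.symm).resolve_left hm1
    · intro h
      rw [h, mul_zero] at this
      rw [(mul_eq_zero.1 this).resolve_right hav, zero_smul]
  have hva : B v a ≠ 0 := by rw [skew]; exact neg_ne_zero.2 hav
  refine ⟨i + 1, ?_, hN, v, hv, hva, hker, fun σ μ β m h1 h2 h3 => ?_⟩
  · by_contra hodd
    have := id2 v v
    rw [hv, (Nat.not_odd_iff_even.1 hodd).neg_one_pow, one_mul, skew] at this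
    exact hva ((mul_eq_zero.1 (by linear_combination -this : 2 * B v a = 0)).resolve_left
      (two_ne_zero' hp2))
  · obtain ⟨γ, hγ⟩ := hline (σ v)
    have hz : (δ ^ (i + 1)) (σ v - γ • v) = 0 := by rw [map_sub, map_smul, hγ, hv, sub_self]
    refine ⟨γ, hz, ?_, ?_⟩
    · set T := ∑ k ∈ Finset.range m, w ^ k with hT
      have e1 : σ * δ = (T * δ) * σ := by
        rw [hT, hδ, geom_sum_mul, mul_sub, sub_mul, h2, mul_one, one_mul]
      have e2 : ∀ k, σ * δ ^ k = (T * δ) ^ k * σ := fun k => by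
        induction k with
        | zero => simp
        | succ k ih => rw [pow_succ, ← mul_assoc, ih, mul_assoc, e1, ← mul_assoc, ← pow_succ]
      have hTδ : Commute T δ := Commute.sum_left _ _ _ fun k _ => hcomm.pow_left k
      have hTa : T a = (m : ZMod p) • a := by
        rw [hT, LinearMap.sum_apply, Finset.sum_congr rfl fun k _ => hfixk k a ha1]
        simp [Nat.cast_smul_eq_nsmul]
      have hTk : ∀ k, (T ^ k) a = (m : ZMod p) ^ k • a := fun k => by
        induction k with
        | zero => simp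
        | succ k ih => rw [pow_succ, Module.End.mul_apply, hTa, map_smul, ih, smul_smul, pow_succ']
      have e3 : β • a = ((m : ZMod p) ^ (i + 1) * γ) • a := by
        rw [← h3, ← hv, ← Module.End.mul_apply, e2, hTδ.mul_pow, Module.End.mul_apply,
          Module.End.mul_apply, hγ, map_smul, hTk, hv, smul_smul, mul_comm]
      exact smul_left_injective _ ha e3
    · have e4 := (hker _).1 hz
      have e5 := h1 v a
      rw [map_sub, map_smul, LinearMap.sub_apply, LinearMap.smul_apply, sub_eq_zero, smul_eq_mul] at e4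
      rw [h3, map_smul, e4, smul_eq_mul] at e5
      exact mul_right_cancel₀ hva (by linear_combination -e5)

/-- The linear algebra of case II.2 (B). -/
theorem lemB (skew : ∀ u v, B u v = -B v u) (nondeg : ∀ v, (∀ u, B u v = 0) → v = 0)
    (hw : ∀ u v, B (w u) (w v) = B u v) (hnil : IsNilpotent (w - 1)) {U : Submodule (ZMod p) V}
    (hU : ∀ u ∈ U, ∀ u' ∈ U, B u u' = 0) (hU1 : ∀ u ∈ U, w u = u) {t : V} (ht : t ∉ U)
    (hpre : ∀ v, w v - v ∈ U ↔ ∃ c : ZMod p, v - c • t ∈ U) (htt : B t (w t - t) = 0)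
    (hne : ∃ v, w v - v ∉ U) :
    (∀ u ∈ U, B t u = 0) ∧ (w t = t → U = ⊥) := by
  have hδ : ∀ v (c : ZMod p), v - c • t ∈ U → w v - v = c • (w t - t) := fun v c h => by
    have := hU1 _ h
    rw [map_sub, map_smul] at this
    linear_combination (norm := module) this
  have h1 : ∀ u ∈ U, B t u = 0 := by
    by_contra hcon
    push Not at hcon
    obtain ⟨u0, hu0, hB0⟩ := hcon
    by_cases hwt : w t = t
    · obtain ⟨v, hv⟩ := hne
      have hex : ∃ n : ℕ, ((w - 1 : Module.End (ZMod p) V) ^ n) v = 0 := hnil.imp fun n hn => by rw [hn]; rfl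
      classical
      have hN := Nat.find_spec hex
      have hN2 : 2 ≤ Nat.find hex := by
        by_contra hlt
        have h3 : Nat.find hex = 0 ∨ Nat.find hex = 1 := by omega
        rcases h3 with h3 | h3 <;> rw [h3] at hN
        · exact hv (by rw [show v = 0 from hN]; simp)
        · exact hv (by rw [show w v - v = 0 from by simpa using hN]; simp)
      obtain ⟨i, hi⟩ : ∃ i, Nat.find hex = i + 1 + 1 := ⟨Nat.find hex - 2, by omega⟩
      have hj : ((w - 1 : Module.End (ZMod p) V) ^ (i + 1)) v ≠ 0 := Nat.find_min hex (by omega)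
      rw [hi, pow_succ', Module.End.mul_apply] at hN
      rw [pow_succ', Module.End.mul_apply] at hj
      rw [pow_succ', Module.End.mul_apply] at hN
      generalize ((w - 1 : Module.End (ZMod p) V) ^ i) v = x at hN hj
      change w x - x ≠ 0 at hj
      change w (w x - x) - (w x - x) = 0 at hN
      obtain ⟨c, hc⟩ := (hpre (w x - x)).1 (by rw [hN]; exact U.zero_mem)
      have h4 := (mem_range_iff skew nondeg hw).1 ⟨x, rfl⟩ u0 (hU1 u0 hu0)
      have h5 := hU u0 hu0 _ hc
      rw [map_sub, h4, map_smul, skew, zero_sub, smul_eq_mul, mul_neg, neg_neg] at h5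
      rw [(mul_eq_zero.1 h5).resolve_right hB0, zero_smul, sub_zero] at hc
      obtain ⟨c', hc'⟩ := (hpre x).1 hc
      exact hj (by rw [hδ x c' hc', hwt, sub_self, smul_zero])
    · obtain ⟨v, hv⟩ := (mem_range_iff skew nondeg hw (v := u0)).2 fun a ha => by
        obtain ⟨c, hc⟩ := (hpre a).1 (by rw [ha, sub_self]; exact U.zero_mem)
        have h3 := hδ a c hc
        rw [ha, sub_self] at h3
        rw [(smul_eq_zero.1 h3.symm).resolve_right (sub_ne_zero.2 hwt), zero_smul, sub_zero] at hc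
        exact hU a hc u0 hu0
      obtain ⟨c, hc⟩ := (hpre v).1 (hv ▸ hu0)
      exact hB0 (by rw [← hv, hδ v c hc, map_smul, htt, smul_zero])
  refine ⟨h1, fun hwt => (Submodule.eq_bot_iff U).2 fun u hu => ?_⟩
  obtain ⟨v, hv⟩ := (mem_range_iff skew nondeg hw (v := u)).2 fun a ha => by
    obtain ⟨c, hc⟩ := (hpre a).1 (by rw [ha, sub_self]; exact U.zero_mem)
    have h3 := hU _ hc u hu
    rwa [map_sub, map_smul, LinearMap.sub_apply, LinearMap.smul_apply, h1 u hu, smul_zero,
      sub_zero] at h3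
  obtain ⟨c, hc⟩ := (hpre v).1 (hv ▸ hu)
  rw [← hv, hδ v c hc, hwt, sub_self, smul_zero]

/-- An anisotropic symmetric form on `V / U` forces `|V / U| ≤ p ^ 2`. -/
theorem card_le_of_aniso (hp2 : p ≠ 2) {κ : V →ₗ[ZMod p] V →ₗ[ZMod p] ZMod p}
    (symm : ∀ u v, κ u v = κ v u) {U : Submodule (ZMod p) V} (hU : ∀ u ∈ U, ∀ v, κ u v = 0)
    (han : ∀ v, κ v v = 0 → v ∈ U) : Nat.card V ≤ p ^ 2 * Nat.card U := by
  have key : ∀ f : V →ₗ[ZMod p] ZMod p × ZMod p, LinearMap.ker f ≤ U →
      Nat.card V ≤ p ^ 2 * Nat.card U := fun f hf => by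
    have h1 := Submodule.card_eq_card_quotient_mul_card (LinearMap.ker f)
    have h2 : Nat.card (V ⧸ LinearMap.ker f) ≤ p ^ 2 := by
      rw [Nat.card_congr f.quotKerEquivRange.toEquiv]
      refine (Nat.card_le_card_of_injective _ (LinearMap.range f).subtype_injective).trans ?_
      simp [sq]
    have h3 : Nat.card (LinearMap.ker f) ≤ Nat.card U :=
      Nat.card_le_card_of_injective _ (Submodule.inclusion_injective hf)
    rw [h1, mul_comm]
    exact Nat.mul_le_mul h2 h3
  by_cases h0 : ∀ x, x ∈ U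
  · exact key 0 fun x _ => h0 x
  push Not at h0
  obtain ⟨x, hx⟩ := h0
  by_cases h1 : ∀ y, κ x y = 0 → y ∈ U
  · exact key ((κ x).prod 0) fun y hy => h1 y (congrArg Prod.fst hy)
  push Not at h1
  obtain ⟨y, hxy, hy⟩ := h1
  refine key ((κ x).prod (κ y)) fun u hu => ?_
  have hxu : κ x u = 0 := congrArg Prod.fst hu
  have hyu : κ y u = 0 := congrArg Prod.snd hu
  have hxx : κ x x ≠ 0 := fun h => hx (han x h)
  have hyy : κ y y ≠ 0 := fun h => hy (han y h)
  obtain ⟨a, b, hab⟩ := FiniteField.exists_root_sum_quadratic (R := ZMod p)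
    (f := Polynomial.C (κ x x) * Polynomial.X ^ 2)
    (g := Polynomial.C (κ y y) * Polynomial.X ^ 2 + Polynomial.C 0 * Polynomial.X + Polynomial.C (κ u u))
    (Polynomial.degree_C_mul_X_pow 2 hxx) (Polynomial.degree_quadratic hyy)
    (by rw [ZMod.card]; exact Nat.odd_iff.1 (hp.out.odd_of_ne_two hp2))
  simp only [Polynomial.eval_mul, Polynomial.eval_C, Polynomial.eval_pow, Polynomial.eval_X,
    Polynomial.eval_add] at hab
  have hv : a • x + b • y + u ∈ U := han _ (by
    simp only [map_add, map_smul, LinearMap.add_apply, LinearMap.smul_apply, smul_eq_mul, hxu, hyu,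
      hxy, symm y x, symm u x, symm u y]
    linear_combination hab)
  have ha := hU _ hv x
  have hb := hU _ hv y
  simp only [map_add, map_smul, LinearMap.add_apply, LinearMap.smul_apply, smul_eq_mul, hxu, hyu,
    hxy, symm y x, symm u x, symm u y, mul_zero, add_zero, zero_add] at ha hb
  rw [(mul_eq_zero.1 ha).resolve_right hxx, (mul_eq_zero.1 hb).resolve_right hyy] at hv
  simpa using hv

/-- The dichotomy of case II.2: `b (s t) = b s + b t + κ s t`, `b` vanishing exactly on `K`. -/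
theorem dichotomy (hp2 : p ≠ 2) {G : Type*} [Group G] {H K : Subgroup G} {b : G → ZMod p}
    {κ : G → G → ZMod p} (hb : ∀ s ∈ H, ∀ t ∈ H, b (s * t) = b s + b t + κ s t)
    (hκ : ∀ s ∈ H, ∀ s' ∈ H, ∀ t ∈ H, κ (s * s') t = κ s t + κ s' t)
    (symm : ∀ s ∈ H, ∀ t ∈ H, κ s t = κ t s) (hK : ∀ t ∈ H, (b t = 0 ↔ t ∈ K))
    (hroot : ∀ t ∈ H, ∀ n : ℕ, ¬ p ∣ n → t ^ n ∈ K → t ∈ K) :
    (∀ t ∈ H, κ t t = 2 * b t) ∨ ∀ s ∈ H, ∀ t ∈ H, κ s t = 0 := by
  have h2 := two_ne_zero' hp2
  have κ1 : ∀ t ∈ H, κ 1 t = 0 := fun t ht => by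
    have := hκ 1 H.one_mem 1 H.one_mem t ht
    rw [mul_one] at this
    simpa using this
  have b1 : b 1 = 0 := (hK 1 H.one_mem).2 K.one_mem
  have hq : ∀ s ∈ H, ∀ t ∈ H, κ (s * t) (s * t) = κ s s + 2 * κ s t + κ t t := fun s hs t ht => by
    rw [hκ s hs t ht _ (H.mul_mem hs ht), symm s hs _ (H.mul_mem hs ht),
      symm t ht _ (H.mul_mem hs ht), hκ s hs t ht s hs, hκ s hs t ht t ht, symm t ht s hs]
    ring
  have hd : ∀ t ∈ H, κ t t = 0 ∨ κ t t = 2 * b t := fun t ht => by
    by_contra hcon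
    push Not at hcon
    have e1 : ∀ n : ℕ, κ (t ^ n) t = n * κ t t ∧
        2 * b (t ^ n) = n * (2 * b t + (n - 1) * κ t t) := fun n => by
      induction n with
      | zero => simp [κ1 t ht, b1]
      | succ n ih =>
        rw [pow_succ, hκ _ (H.pow_mem ht n) t ht t ht, hb _ (H.pow_mem ht n) t ht, ih.1]
        push_cast
        exact ⟨by ring, by linear_combination ih.2⟩
    have e2 := (e1 (1 - 2 * b t / κ t t).val).2
    rw [ZMod.natCast_zmod_val, show 2 * b t + (1 - 2 * b t / κ t t - 1) * κ t t = 0 by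
      have := hcon.1; field_simp; ring, mul_zero] at e2
    have e3 := hroot t ht _ (fun hdvd => hcon.2 (by
      have h3 := (ZMod.natCast_eq_zero_iff _ _).2 hdvd
      rw [ZMod.natCast_zmod_val] at h3
      have := hcon.1
      field_simp at h3
      linear_combination h3))
      ((hK _ (H.pow_mem ht _)).1 ((mul_eq_zero.1 e2).resolve_left h2))
    have e4 := hb t ht t ht
    rw [(hK _ (H.mul_mem ht ht)).2 (K.mul_mem e3 e3), (hK t ht).2 e3] at e4
    exact hcon.1 (by simpa using e4.symm)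
  by_cases hl : ∀ t ∈ H, κ t t = 2 * b t
  · exact Or.inl hl
  right
  push Not at hl
  obtain ⟨t0, ht0, hl⟩ := hl
  have hq0 := (hd t0 ht0).resolve_right hl
  have hall : ∀ t ∈ H, κ t t = 0 := fun t ht => by
    refine (hd t ht).elim id fun h => ?_
    have a1 := H.mul_mem ht0 ht
    have a2 := H.mul_mem a1 ht
    have e1 : κ (t0 * t) (t0 * t) = 0 := (hd _ a1).resolve_right fun e => hl (by
      rw [hq _ ht0 _ ht, hb _ ht0 _ ht] at e
      linear_combination e - h)
    have e2 : κ (t0 * t * t) (t0 * t * t) = 0 := (hd _ a2).resolve_right fun e => hl (by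
      rw [hq _ a1 _ ht, hb _ a1 _ ht, hq _ ht0 _ ht, hb _ ht0 _ ht] at e
      linear_combination e - 2 * h)
    rw [hq _ a1 _ ht, hκ _ ht0 _ ht _ ht, hq _ ht0 _ ht] at e2
    rw [hq _ ht0 _ ht] at e1
    exact (mul_eq_zero.1 (by linear_combination e2 - 2 * e1 + hq0 : 2 * κ t t = 0)).resolve_left h2
  intro s hs t ht
  have := hq s hs t ht
  rw [hall _ (H.mul_mem hs ht), hall s hs, hall t ht] at this
  exact (mul_eq_zero.1 (by linear_combination -this : 2 * κ s t = 0)).resolve_left h2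

end Cfsg.Agent.EX
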