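import Cfsg.Agent.Lib.EX.Dict
import Cfsg.Agent.Lib.EX.Lin

/-!
# S5177: recognizing the three presentations
-/

set_option autoImplicit false
set_option linter.unusedSectionVars false
set_option linter.unusedVariables false

namespace Cfsg.Agent.EX

open Subgroup Cfsg.Agent.H6 Cfsg.Agent.FT
open scoped commutatorElement

variable {G : Type*} [Group G] [Finite G] {p : ℕ} [hp : Fact p.Prime] {S Q Z : Subgroup G}

namespace Sp

variable {V : Type _} [AddCommGroup V] [Module (ZMod p) V] (s : Sp p Q Z V) {a b e : G}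

theorem mul_eq_of_B (ha : a ∈ Q) (hb : b ∈ Q) {n : ℤ} (h : s.B (s.π a) (s.π b) = n) :
    a * b = s.z ^ n * (b * a) := by
  rw [← pw_intCast s.z_pow, ← h, ← s.comm a ha b hb, commutatorElement_def]; group

theorem commute_of_π (heZ : e ∈ 𝒞(Z)) (ha : a ∈ Q) (hb : b ∈ Q) (h : s.π a = s.π b)
    (hc : Commute e b) : Commute e a := by
  have h1 : Commute e (a * b⁻¹) := (mem_cent.1 heZ _ ((s.π_eq_iff ha hb).1 h)).symm
  simpa using h1.mul_right hc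

theorem π_L (he : e ∈ 𝒩(Q)) (ha : a ∈ Q) :
    ∃ b ∈ Q, e * a = a * b * e ∧ s.π b = (s.ρ e - 1) (s.π a) := by
  have h := H6.conj_mem_of_mem_normalizer he ha
  refine ⟨_, mul_mem (inv_mem ha) h, by group, ?_⟩
  rw [s.π_mul _ (inv_mem ha) _ h, s.π_inv ha, ← s.ρπ he ha, LinearMap.sub_apply,
    Module.End.one_apply, neg_add_eq_sub]

theorem π_c (he : e ∈ 𝒩(Q)) (ha : a ∈ Q) : ⁅e, a⁆ ∈ Q ∧ s.π ⁅e, a⁆ = (s.ρ e - 1) (s.π a) :=
  ⟨mul_mem (H6.conj_mem_of_mem_normalizer he ha) (inv_mem ha), s.πcomm he ha⟩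

theorem δ_eq_zero (he : e ∈ 𝒩(Q)) (ha : a ∈ Q) (h : Commute e a) : (s.ρ e - 1) (s.π a) = 0 := by
  rw [← (s.π_c he ha).2, commutatorElement_eq_one_iff_commute.2 h, s.π_one]

theorem B_δ (he : e ∈ 𝒩(Q)) (heZ : e ∈ 𝒞(Z)) (u v : V) :
    s.B u ((s.ρ e - 1) v) + s.B ((s.ρ e - 1) u) v + s.B ((s.ρ e - 1) u) ((s.ρ e - 1) v) = 0 := by
  have := s.B_ρ_of_cent he heZ u v
  simp only [LinearMap.sub_apply, Module.End.one_apply, map_sub]
  linear_combination this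

theorem B_eq_one (ha : a ∈ Q) (hb : b ∈ Q) (h : s.z = ⁅a, b⁆) : s.B (s.π a) (s.π b) = 1 :=
  pw_inj s.z_pow s.z_ne (by rw [← s.comm a ha b hb, pw_one, h])

end Sp

theorem gen6_le {e x y d w z : G} (he : e ∈ S) (hx : x ∈ S) (hy : y ∈ S) (hd : d ∈ S) (hw : w ∈ S)
    (hz : z ∈ S) : gen6 e x y d w z ≤ S := by
  rw [gen6, closure_le]
  rintro a (rfl | rfl | rfl | rfl | rfl | rfl) <;> assumption

/-- `G₂` criterion (`⁅e, ⁅e, ⁅e, x⁆⁆⁆` commutes with `e` but not with `x`). -/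
theorem crit_G2 (hp2 : p ≠ 2) (h : XS p Q Z) (hQS : Q ≤ S) (hexp : ∀ q ∈ Q, q ^ p = 1) {e x : G}
    (heS : e ∈ S) (he : e ∈ 𝒩(Q)) (heZ : e ∈ 𝒞(Z)) (hep : e ^ p = 1) (hx : x ∈ Q)
    (h1 : Commute e ⁅e, ⁅e, ⁅e, x⁆⁆⁆) (h2 : ¬ Commute x ⁅e, ⁅e, ⁅e, x⁆⁆⁆) :
    ∃ e x y d w z : G, gen6 e x y d w z ≤ S ∧ z ≠ 1 ∧ Rel p 1 0 1 1 1 (-1) e x y d w z := by
  have h2' := two_ne_zero' hp2
  have q1 : ⁅e, x⁆ ∈ Q := mul_mem (H6.conj_mem_of_mem_normalizer he hx) (inv_mem hx)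
  have q2 : ⁅e, ⁅e, x⁆⁆ ∈ Q := mul_mem (H6.conj_mem_of_mem_normalizer he q1) (inv_mem q1)
  have q3 : ⁅e, ⁅e, ⁅e, x⁆⁆⁆ ∈ Q := mul_mem (H6.conj_mem_of_mem_normalizer he q2) (inv_mem q2)
  obtain ⟨V, _, _, _, s, hs⟩ := h.exists_sp hp2 (h.comm _ hx _ q3)
    fun h => h2 (commutatorElement_eq_one_iff_commute.1 h)
  have b03 := s.B_eq_one hx q3 hs
  have d4 := s.δ_eq_zero he q3 h1
  have p2 : s.π ⁅e, ⁅e, x⁆⁆ = (s.ρ e - 1) ((s.ρ e - 1) (s.π x)) := by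
    rw [(s.π_c he q1).2, (s.π_c he hx).2]
  have p3 := (s.π_c he q2).2
  rw [p2] at p3
  have hB := s.B_δ he heZ
  have hL := fun a => s.π_L (a := a) he
  generalize s.ρ e - 1 = δ at *
  rw [p3] at b03 d4
  have b3 : ∀ v, s.B (δ v) (δ (δ (δ (s.π x)))) = 0 := fun v => by
    simpa [d4] using hB v (δ (δ (δ (s.π x))))
  have b12 : s.B (δ (s.π x)) (δ (δ (s.π x))) = -1 := by
    linear_combination hB (s.π x) (δ (δ (s.π x))) - b03 - b3 (s.π x)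
  have b02 : s.B (s.π x) (δ (δ (s.π x))) = 1 := by
    linear_combination hB (s.π x) (δ (s.π x)) - s.alt (δ (s.π x)) - b12
  have b21 := s.skew (δ (δ (s.π x))) (δ (s.π x))
  have b32 := s.skew (δ (δ (δ (s.π x)))) (δ (δ (s.π x)))
  obtain ⟨c, hc⟩ : ∃ c : ZMod p, s.B (s.π x) (δ (s.π x)) + 2 * c = 0 :=
    ⟨-s.B (s.π x) (δ (s.π x)) / 2, by field_simp; ring⟩
  have hx' : x * pw ⁅e, ⁅e, x⁆⁆ c ∈ Q := mul_mem hx (pw_mem q2 c)
  have px : s.π (x * pw ⁅e, ⁅e, x⁆⁆ c) = s.π x + c • δ (δ (s.π x)) := by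
    rw [s.π_mul _ hx _ (pw_mem q2 c), s.π_pw q2, p2]
  generalize x * pw ⁅e, ⁅e, x⁆⁆ c = x' at hx' px
  obtain ⟨y, hy, ex, py⟩ := hL _ hx'
  obtain ⟨d, hd, ey, pd⟩ := hL _ hy
  obtain ⟨w, hw, ed, pw'⟩ := hL _ hd
  rw [px, map_add, map_smul] at py
  rw [py, map_add, map_smul, d4, smul_zero, add_zero] at pd
  rw [pd] at pw'
  have hz := fun a (ha : a ∈ Q) => (mem_cent.1 (h.le_cent s.z_mem) a ha).symm
  refine ⟨e, x', y, d, w, s.z, gen6_le heS (hQS hx') (hQS hy) (hQS hd) (hQS hw) (hQS (h.le s.z_mem)),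
    s.z_ne, hep, hexp _ hx', hexp _ hy, hexp _ hd, hexp _ hw, s.z_pow, mem_cent.1 heZ _ s.z_mem,
    hz _ hx', hz _ hy, hz _ hd, hz _ hw, (s.commute_iff hx' hy).2 ?_, s.mul_eq_of_B hx' hd ?_, ?_,
    s.mul_eq_of_B hy hd ?_, (s.commute_iff hy hw).2 ?_, (s.commute_iff hd hw).2 ?_,
    by simpa using ex, by simpa using ey, by simpa using ed, s.commute_of_π heZ hw q3 (pw'.trans p3.symm) h1⟩
  · simp only [px, py, map_add, map_smul, LinearMap.add_apply, LinearMap.smul_apply, smul_eq_mul, b03,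
      b21, b12, b3]
    linear_combination hc
  · simp [px, pd, b02, s.alt]
  · simpa using s.mul_eq_of_B hx' hw (n := 1) (by simp [px, pw', b03, b3])
  · simp [py, pd, b12, b32, b3]
  · simp [py, pw', b3]
  · simp [pd, pw', b3]

/-- `SL₄` criterion. -/
theorem crit_SL4 (hp2 : p ≠ 2) (h : XS p Q Z) (hQS : Q ≤ S) (hexp : ∀ q ∈ Q, q ^ p = 1) {e x d : G}
    (heS : e ∈ S) (he : e ∈ 𝒩(Q)) (heZ : e ∈ 𝒞(Z)) (hep : e ^ p = 1) (hx : x ∈ Q) (hd : d ∈ Q)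
    (h1 : Commute e ⁅e, x⁆) (h2 : Commute e ⁅e, d⁆) (h3 : Commute d ⁅e, d⁆)
    (h4 : ¬ Commute x ⁅e, d⁆) :
    ∃ e x y d w z : G, gen6 e x y d w z ≤ S ∧ z ≠ 1 ∧ Rel p 1 0 0 1 0 (-1) e x y d w z := by
  have h2' := two_ne_zero' hp2
  have q1 : ⁅e, x⁆ ∈ Q := mul_mem (H6.conj_mem_of_mem_normalizer he hx) (inv_mem hx)
  have q2 : ⁅e, d⁆ ∈ Q := mul_mem (H6.conj_mem_of_mem_normalizer he hd) (inv_mem hd)
  obtain ⟨V, _, _, _, s, hs⟩ := h.exists_sp hp2 (h.comm _ hx _ q2)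
    fun h => h4 (commutatorElement_eq_one_iff_commute.1 h)
  have buv := s.B_eq_one hx q2 hs
  have du := s.δ_eq_zero he q1 h1
  have dv := s.δ_eq_zero he q2 h2
  have bvv := (s.commute_iff hd q2).1 h3
  have p1 := (s.π_c he hx).2
  have p2 := (s.π_c he hd).2
  have hB := s.B_δ he heZ
  have hL := fun a => s.π_L (a := a) he
  generalize s.ρ e - 1 = δ at *
  rw [p1] at du
  rw [p2] at dv buv bvv
  have b3 : ∀ v, s.B (δ v) (δ (s.π d)) = 0 := fun v => by simpa [dv] using hB v (δ (s.π d))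
  have b1 : s.B (δ (s.π x)) (s.π d) = -1 := by
    linear_combination hB (s.π x) (s.π d) - buv - b3 (s.π x)
  have b1' := s.skew (s.π d) (δ (s.π x))
  have b2' := s.skew (δ (s.π d)) (s.π d)
  obtain ⟨c, hc⟩ : ∃ c : ZMod p, s.B (s.π x) (δ (s.π x)) + 2 * c = 0 :=
    ⟨-s.B (s.π x) (δ (s.π x)) / 2, by field_simp; ring⟩
  have hx' : x * pw d c * pw ⁅e, x⁆ (s.B (s.π x) (s.π d)) ∈ Q :=
    mul_mem (mul_mem hx (pw_mem hd c)) (pw_mem q1 _)
  have px : s.π (x * pw d c * pw ⁅e, x⁆ (s.B (s.π x) (s.π d))) =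
      s.π x + c • s.π d + s.B (s.π x) (s.π d) • δ (s.π x) := by
    rw [s.π_mul _ (mul_mem hx (pw_mem hd c)) _ (pw_mem q1 _), s.π_mul _ hx _ (pw_mem hd c), s.π_pw hd,
      s.π_pw q1, p1]
  generalize x * pw d c * pw ⁅e, x⁆ (s.B (s.π x) (s.π d)) = x' at hx' px
  obtain ⟨y, hy, ex, py⟩ := hL _ hx'
  obtain ⟨w, hw, ed, pw'⟩ := hL _ hd
  rw [px, map_add, map_add, map_smul, map_smul, du, smul_zero, add_zero] at py
  have hz := fun a (ha : a ∈ Q) => (mem_cent.1 (h.le_cent s.z_mem) a ha).symm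
  have ey := s.commute_of_π heZ hy (mul_mem q1 (pw_mem q2 c))
    (by rw [py, s.π_mul _ q1 _ (pw_mem q2 c), s.π_pw q2, p1, p2]) (h1.mul_right (h2.pow_right _))
  refine ⟨e, x', y, d, w, s.z, gen6_le heS (hQS hx') (hQS hy) (hQS hd) (hQS hw) (hQS (h.le s.z_mem)),
    s.z_ne, hep, hexp _ hx', hexp _ hy, hexp _ hd, hexp _ hw, s.z_pow, mem_cent.1 heZ _ s.z_mem,
    hz _ hx', hz _ hy, hz _ hd, hz _ hw, (s.commute_iff hx' hy).2 ?_, s.mul_eq_of_B hx' hd ?_, ?_,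
    s.mul_eq_of_B hy hd ?_, (s.commute_iff hy hw).2 ?_, (s.commute_iff hd hw).2 ?_,
    by simpa using ex, by rw [pow_zero, mul_one, ey.eq], by simpa using ed, s.commute_of_π heZ hw q2 (pw'.trans p2.symm) h2⟩
  · simp only [px, py, map_add, map_smul, LinearMap.add_apply, LinearMap.smul_apply, smul_eq_mul, buv,
      b1', b1, b3, bvv, s.alt]
    linear_combination hc
  · simp [px, b1, s.alt]
  · simpa using s.mul_eq_of_B hx' hw (n := 1) (by simp [px, pw', buv, bvv, b3])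
  · simp [py, b1, b2', bvv]
  · simp [py, pw', b3]
  · simp [pw', bvv]

/-- `SU₄` criterion: `⁅e, Q⁆` is centralized by `e`, and `t ↦ ⁅t, ⁅e, t⁆⁆` is anisotropic on
`Q / C_Q(e)`, which is not cyclic. -/
theorem crit_SU4 (hp2 : p ≠ 2) (h : XS p Q Z) (hQS : Q ≤ S) (hexp : ∀ q ∈ Q, q ^ p = 1) {e : G}
    (heS : e ∈ S) (he : e ∈ 𝒩(Q)) (heZ : e ∈ 𝒞(Z)) (hep : e ^ p = 1)
    (h1 : ∀ t ∈ Q, Commute e ⁅e, t⁆) (h2 : ∀ t ∈ Q, Commute t ⁅e, t⁆ → Commute t e)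
    (h3 : p < (𝒞[e]).relIndex Q) :
    ∃ e x y d w z : G, gen6 e x y d w z ≤ S ∧ z ≠ 1 ∧
      ∃ c : ℤ, ¬ IsSquare (-(c : ZMod p)) ∧ Rel p 0 1 1 0 0 c e x y d w z := by
  have q : ∀ t ∈ Q, ⁅e, t⁆ ∈ Q := fun t ht =>
    mul_mem (H6.conj_mem_of_mem_normalizer he ht) (inv_mem ht)
  obtain ⟨x, hx, hxe⟩ : ∃ x ∈ Q, ¬ Commute x e := by
    by_contra! hc
    rw [relIndex_eq_one.2 fun t ht => mem_centralizer_singleton_iff.2 (hc t ht)] at h3
    exact absurd hp.out.one_le h3.not_ge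
  have hx2 : ¬ Commute x ⁅e, x⁆ := fun h => hxe (h2 x hx h)
  obtain ⟨y, hy, hyx, hye⟩ : ∃ y ∈ Q, Commute y ⁅e, x⁆ ∧ ¬ Commute y e := by
    by_contra! hc
    have e1 := h.relIndex_cent1 (q x hx) fun hz => hx2 (mem_cent.1 (h.le_cent hz) x hx)
    rw [← inf_relIndex_right] at e1
    have := relIndex_le_of_le_left (H := 𝒞[⁅e, x⁆] ⊓ Q) (K := 𝒞[e]) (L := Q) (fun t ht =>
      mem_centralizer_singleton_iff.2 (hc t ht.2 (mem_centralizer_singleton_iff.1 ht.1)))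
      (e1 ▸ hp.out.ne_zero)
    omega
  obtain ⟨V, _, _, _, s, hs⟩ := h.exists_sp hp2 (h.comm _ hx _ (q x hx))
    fun h => hx2 (commutatorElement_eq_one_iff_commute.1 h)
  have buu := s.B_eq_one hx (q x hx) hs
  have bvu := (s.commute_iff hy (q x hx)).1 hyx
  have dd : ∀ t ∈ Q, (s.ρ e - 1) ((s.ρ e - 1) (s.π t)) = 0 := fun t ht => by
    rw [← (s.π_c he ht).2]; exact s.δ_eq_zero he (q t ht) (h1 t ht)
  have han : ∀ t ∈ Q, s.B (s.π t) ((s.ρ e - 1) (s.π t)) = 0 → Commute t e := fun t ht hB =>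
    h2 t ht ((s.commute_iff ht (q t ht)).2 (by rw [(s.π_c he ht).2, hB]))
  have h0 := fun t (ht : t ∈ Q) => s.δ_eq_zero he ht
  have pc := fun t (ht : t ∈ Q) => (s.π_c he ht).2
  have hB := s.B_δ he heZ
  have hL := fun a => s.π_L (a := a) he
  generalize s.ρ e - 1 = δ at *
  rw [pc x hx] at buu bvu
  have b3 : ∀ v, ∀ t ∈ Q, s.B (δ v) (δ (s.π t)) = 0 := fun v t ht => by
    simpa [dd t ht] using hB v (δ (s.π t))
  have buv : s.B (s.π x) (δ (s.π y)) = 0 := by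
    linear_combination hB (s.π x) (s.π y) - b3 (s.π x) y hy - s.skew (δ (s.π x)) (s.π y) + bvu
  have hy' : y * pw ⁅e, x⁆ (-s.B (s.π x) (s.π y)) ∈ Q := mul_mem hy (pw_mem (q x hx) _)
  have py : s.π (y * pw ⁅e, x⁆ (-s.B (s.π x) (s.π y))) =
      s.π y + (-s.B (s.π x) (s.π y)) • δ (s.π x) := by
    rw [s.π_mul _ hy _ (pw_mem (q x hx) _), s.π_pw (q x hx), pc x hx]
  generalize y * pw ⁅e, x⁆ (-s.B (s.π x) (s.π y)) = y' at hy' py
  obtain ⟨d, hd, ey, pd⟩ := hL _ hy'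
  obtain ⟨w, hw, ex, pw'⟩ := hL _ hx
  rw [py, map_add, map_smul, dd x hx, smul_zero, add_zero] at pd
  have hz := fun a (ha : a ∈ Q) => (mem_cent.1 (h.le_cent s.z_mem) a ha).symm
  have ed := s.commute_of_π heZ hd (q y hy) (pd.trans (pc y hy).symm) (h1 y hy)
  refine ⟨e, x, y', d, w, s.z, gen6_le heS (hQS hx) (hQS hy') (hQS hd) (hQS hw) (hQS (h.le s.z_mem)),
    s.z_ne, (s.B (s.π y) (δ (s.π y))).val, ?_, hep, hexp _ hx, hexp _ hy', hexp _ hd, hexp _ hw,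
    s.z_pow, mem_cent.1 heZ _ s.z_mem, hz _ hx, hz _ hy', hz _ hd, hz _ hw,
    (s.commute_iff hx hy').2 ?_, s.mul_eq_of_B hx hd ?_, ?_, s.mul_eq_of_B hy' hd ?_,
    (s.commute_iff hy' hw).2 ?_, (s.commute_iff hd hw).2 ?_, by simpa using ex, by simpa using ey,
    by rw [pow_zero, mul_one, ed.eq], s.commute_of_π heZ hw (q x hx) (pw'.trans (pc x hx).symm) (h1 x hx)⟩
  · rintro ⟨t, ht⟩
    rw [Int.cast_natCast, ZMod.natCast_zmod_val] at ht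
    have hm : pw x t * y ∈ Q := mul_mem (pw_mem hx t) hy
    have pm : s.π (pw x t * y) = t • s.π x + s.π y := by rw [s.π_mul _ (pw_mem hx t) _ hy, s.π_pw hx]
    have := h0 _ hm (han _ hm (by
      simp only [pm, map_add, map_smul, LinearMap.add_apply, LinearMap.smul_apply, smul_eq_mul, buu,
        buv, bvu]
      linear_combination -ht)).symm
    have := congrArg (s.B (s.π y)) this
    simp only [pm, map_add, map_smul, smul_eq_mul, bvu, map_zero] at this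
    exact hye (han y hy (by linear_combination this))
  · simp [py, buu]
  · simp [pd, buv]
  · simpa using s.mul_eq_of_B hx hw (n := 1) (by simp [pw', buu])
  · simp [py, pd, b3 _ y hy]
  · simp [py, pw', bvu, s.alt]
  · simp [pd, pw', b3 _ x hx]

end Cfsg.Agent.EX
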