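import Cfsg.Agent.Lib.EX.CII2
import Cfsg.Agent.Lib.EX.Crit

/-!
# S5177: case II.2 (A), the unitary case (see notes/EX.md)
-/

set_option autoImplicit false
set_option linter.unusedSectionVars false
set_option linter.unusedVariables false

namespace Cfsg.Agent.EX

open Subgroup Cfsg.Agent.H6 Cfsg.Agent.FT
open scoped commutatorElement

universe u

variable {G : Type u} [Group G] [Finite G] {p : ℕ} [hp : Fact p.Prime] {S Q Z R Γ : Subgroup G}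
  {g : G}

theorem mem_norm_bot (t : G) : t ∈ 𝒩((⊥ : Subgroup G)) := by rw [norm_bot]; trivial

/-- In case (A) the form `t ↦ ⁅t, ⁅t, w⁆⁆` is anisotropic. -/
theorem II2.aniso (h : II2 p S Q Z R Γ) (hA : R.relIndex (Q ⊓ 𝒩(R)) ≠ p) (hg : g ∈ Γ)
    (hb : g ∉ Gd Q R) {w t : G} (hw : w ∈ cj g Z) (hw1 : w ≠ 1) (ht : t ∈ Q)
    (hc : Commute t ⁅t, w⁆) : t ∈ R := by
  obtain ⟨hQN, -, h3⟩ := h.dichA hA hg hb
  have h4 := h3 t ht w hw
  rw [commutatorElement_eq_one_iff_commute.2 hc, inv_one, mul_one] at h4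
  have hwR := (h.cj_le_cent hg hw).1
  have hcR : ⁅t, w⁆ ∈ R := R.mul_mem (H6.conj_mem_of_mem_normalizer (hQN ht) hwR) (R.inv_mem hwR)
  by_contra htR
  refine h.comm_not_mem hg hb hw hw1 ht (hQN ht) htR (H9.mem_of_zpow_mem_of_not_dvd (p := p) (k := 1)
    (i := 2) (by rw [pow_one, h.pow hcR]; exact one_mem _) (fun hd => h.odd ?_) (by exact_mod_cast h4))
  exact (Nat.prime_dvd_prime_iff_eq hp.out Nat.prime_two).1 (by exact_mod_cast hd)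

section E

variable {E : Type u} [AddCommGroup E] [Module (ZMod p) E] {α γ : E →ₗ[ZMod p] ZMod p} {z w : G}

/-- The action of `Q` on `R` in case (A). -/
theorem II2.side (h : II2 p S Q Z R Γ) (hA : R.relIndex (Q ⊓ 𝒩(R)) ≠ p) (hg : g ∈ Γ)
    (hb : g ∉ Gd Q R) (e : Sec p R ⊥ E) (hz : z ∈ Z) (hz1 : z ≠ 1) (hw : w ∈ cj g Z) (hw1 : w ≠ 1)
    (hα : ∀ b ∈ R, (α (e.π b) = 0 ↔ b ∈ Q)) (hγz : γ (e.π z) = 1)
    (hγ : ∀ b ∈ R, (γ (e.π b) = 0 ↔ b ∈ cj g Q)) :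
    (∀ t ∈ Q, ∀ v, α v = 0 → e.ρ t v = v + γ (e.ρ t v - v) • e.π z) ∧
    (∀ t ∈ Q, ∃ a, α a = 0 ∧ γ a = 0 ∧ ∃ q : ZMod p, e.ρ t (e.π w) = e.π w + a + q • e.π z ∧
      e.ρ t a = a + (2 * q) • e.π z ∧ (t ∉ R → q ≠ 0) ∧ (t ∈ R → a = 0)) ∧
    ∀ d, α d = 0 → γ d = 0 → ∃ t ∈ Q, ∃ q : ZMod p, e.ρ t (e.π w) = e.π w + d + q • e.π z := by
  obtain ⟨hQN, -, h3⟩ := h.dichA hA hg hb
  obtain ⟨V, _, _, _, s, rfl⟩ := h.xs.exists_sp h.odd hz hz1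
  have hwR := (h.cj_le_cent hg hw).1
  have hwS := h.RS hwR
  have hzR := h.Z_le hz
  have hwQ : w ∈ 𝒩(Q) := h.S_le_normQ hwS
  have hcR : ∀ t ∈ Q, ⁅t, w⁆ ∈ R := fun t ht =>
    R.mul_mem (H6.conj_mem_of_mem_normalizer (hQN ht) hwR) (R.inv_mem hwR)
  have hcQ : ∀ t ∈ Q, ⁅t, w⁆ ∈ Q := fun t ht => h.comm_mem_Q (h.QS ht) hwS
  have h1 : ∀ t ∈ Q, ∀ v, α v = 0 → e.ρ t v = v + γ (e.ρ t v - v) • e.π s.z := fun t ht v hv => by
    obtain ⟨r, hr, rfl⟩ := e.surj v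
    have := e.π_comm (hQN ht) (mem_norm_bot t) hr
    rw [s.comm t ht r ((hα r hr).1 hv), e.π_pw hzR] at this
    rw [← this, map_smul, hγz, smul_eq_mul, mul_one, this]
    abel
  have hαz : α (e.π s.z) = 0 := (hα _ hzR).2 (h.xs.le hz)
  refine ⟨h1, fun t ht => ?_, fun d hd hd' => ?_⟩
  · have hαc : α (e.π ⁅t, w⁆) = 0 := (hα _ (hcR t ht)).2 (hcQ t ht)
    have h4 : ⁅t, ⁅t, w⁆⁆ ∈ R := h.Z_le (h.xs.comm t ht _ (hcQ t ht))
    have h5 := (hγ _ (R.mul_mem (R.pow_mem (hcR t ht) 2) (R.inv_mem h4))).2 (h3 t ht w hw)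
    rw [e.π_mul _ (R.pow_mem (hcR t ht) 2) _ (R.inv_mem h4), e.π_inv h4, e.π_pow (hcR t ht),
      e.π_comm (hQN ht) (mem_norm_bot t) (hcR t ht), map_add, map_neg, map_smul] at h5
    refine ⟨e.π ⁅t, w⁆ - γ (e.π ⁅t, w⁆) • e.π s.z, by simp [hαc, hαz], by simp [hγz], γ (e.π ⁅t, w⁆),
      ?_, ?_, fun htR h0 => h.comm_not_mem hg hb hw hw1 ht (hQN ht) htR ((hγ _ (hcR t ht)).1 h0),
      fun htR => ?_⟩
    · rw [add_assoc, sub_add_cancel, e.π_comm (hQN ht) (mem_norm_bot t) hwR]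
      abel
    · have h6 := h1 t ht _ hαz
      have h7 := h1 t ht _ hαc
      have h8 : e.ρ t (e.π s.z) = e.π s.z := by
        rw [e.ρ_π t (hQN ht) (mem_norm_bot t) _ hzR, mem_cent.1 (h.xs.le_cent hz) t ht,
          mul_inv_cancel_right]
      rw [map_sub, map_smul, h8, h7, show γ (e.ρ t (e.π ⁅t, w⁆) - e.π ⁅t, w⁆) = 2 * γ (e.π ⁅t, w⁆) by
        simp only [smul_eq_mul] at h5; push_cast at h5; linear_combination -h5]
      abel
    · rw [commutatorElement_eq_one_iff_mul_comm.2 (mem_cent.1 (h.comm hwR) t htR), e.π_one]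
      simp
  · obtain ⟨r, hr, rfl⟩ := e.surj d
    have hrQ := (hα r hr).1 hd
    obtain ⟨v, hv⟩ := (mem_range_iff s.skew s.nondeg (s.B_ρ_of_cent hwQ (h.S_le_centZ hwS))
      (v := s.π r)).2 fun a ha => by
        obtain ⟨q, hq, rfl⟩ := s.surj a
        have h4 : ⁅w, q⁆ ∈ Z := by
          rw [← s.π_eq_zero _ (h.comm_mem_Q hwS (h.QS hq)), s.πcomm hwQ hq, ha, sub_self]
        have h5 : ⁅q, w⁆ ∈ Z := by rw [← commutatorElement_inv]; exact Z.inv_mem h4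
        have h6 := h.aniso hA hg hb hw hw1 hq (mem_cent.1 (h.xs.le_cent h5) q hq)
        exact (s.commute_iff hq hrQ).1 (mem_cent.1 (h.comm hr) q h6)
    obtain ⟨q, hq, rfl⟩ := s.surj v
    have h4 : s.π ⁅q⁻¹, w⁆ = s.π r := by
      rw [← commutatorElement_inv, s.π_inv (h.comm_mem_Q hwS (h.QS (Q.inv_mem hq))),
        s.πcomm hwQ (Q.inv_mem hq), s.π_inv hq, map_neg, ← hv]
      abel
    obtain ⟨c, hc⟩ := (s.mem_Z _).1 ((s.π_eq_iff (hcQ _ (Q.inv_mem hq)) hrQ).1 h4)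
    refine ⟨q⁻¹, Q.inv_mem hq, c, ?_⟩
    have h5 := e.π_comm (hQN (Q.inv_mem hq)) (mem_norm_bot _) hwR
    rw [mul_inv_eq_iff_eq_mul.1 hc, e.π_mul _ (pw_mem hzR c) _ hr, e.π_pw hzR] at h5
    linear_combination (norm := module) -h5

/-- The elements `n = t t'` interchanging `Z` and `Z'`. -/
theorem II2.exists_n (h : II2 p S Q Z R Γ) (hA : R.relIndex (Q ⊓ 𝒩(R)) ≠ p) (hg : g ∈ Γ)
    (hb : g ∉ Gd Q R) (e : Sec p R ⊥ E) (hz : z ∈ Z) (hz1 : z ≠ 1) (hw : w ∈ cj g Z) (hw1 : w ≠ 1)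
    (hαw : α (e.π w) = 1) (hα : ∀ b ∈ R, (α (e.π b) = 0 ↔ b ∈ Q)) (hγz : γ (e.π z) = 1)
    (hγ : ∀ b ∈ R, (γ (e.π b) = 0 ↔ b ∈ cj g Q)) {t' : G} (ht' : t' ∈ cj g Q) (htR : t' ∉ R) :
    ∃ n ∈ Γ, ∃ a q', q' ≠ 0 ∧ α a = 0 ∧ γ a = 0 ∧ e.ρ t' (e.π z) = e.π z + a + q' • e.π w ∧
      e.ρ t' a = a + (2 * q') • e.π w ∧ e.ρ n (e.π z) = q' • e.π w ∧
      ∀ d, α d = 0 → γ d = 0 → ∀ c : ZMod p, e.ρ t' d = d + c • e.π w →
        e.ρ n d = d - (c / q') • a + c • e.π w := by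
  have h' := h.conj hg
  have hA' : R.relIndex (cj g Q ⊓ 𝒩(R)) ≠ p := by rwa [h.relIndex_conj hg]
  have hQN := (h.dichA hA hg hb).1
  have hQN' := (h'.dichA hA' (Γ.inv_mem hg) (h.inv_not_mem_cj hg hb)).1
  obtain ⟨s1, s2, s3⟩ := h.side hA hg hb e hz hz1 hw hw1 hα hγz hγ
  obtain ⟨s1', s2', -⟩ := h'.side hA' (Γ.inv_mem hg) (h.inv_not_mem_cj hg hb) e hw hw1
    (by rwa [cj_inv_cj]) hz1 hγ hαw (by rwa [cj_inv_cj])
  have hwR := (h.cj_le_cent hg hw).1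
  have hzR := h.Z_le hz
  have hαz : α (e.π z) = 0 := (hα _ hzR).2 (h.xs.le hz)
  have hγw : γ (e.π w) = 0 := (hγ w hwR).2 (h'.xs.le hw)
  obtain ⟨a, hγa, hαa, q', e1, e2, hq', -⟩ := s2' t' ht'
  have hq' := hq' htR
  obtain ⟨t, ht, q, e3⟩ := s3 (-q'⁻¹ • a) (by simp [hαa]) (by simp [hγa])
  have hfz : ∀ t ∈ Q, e.ρ t (e.π z) = e.π z := fun t ht => by
    rw [e.ρ_π t (hQN ht) (mem_norm_bot t) _ hzR, mem_cent.1 (h.xs.le_cent hz) t ht,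
      mul_inv_cancel_right]
  have hfw : e.ρ t' (e.π w) = e.π w := by
    rw [e.ρ_π t' (hQN' ht') (mem_norm_bot t') _ hwR, mem_cent.1 (h'.xs.le_cent hw) t' ht',
      mul_inv_cancel_right]
  have e4 : e.ρ t a = a + (-2 * q' * q) • e.π z := by
    obtain ⟨a1, -, hγa1, q1, e5, e6, -⟩ := s2 t ht
    rw [e3] at e5
    have e7 : q = q1 := by simpa [hγa, hγa1, hγz] using congrArg γ e5
    subst e7
    have e8 : a1 = -q'⁻¹ • a := by simpa using e5.symm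
    have e9 : a = -q' • a1 := by rw [e8, smul_smul]; simp [hq']
    rw [e9, map_smul, e6]
    module
  have hnΓ : t * t' ∈ Γ := mul_mem (h.NΓ ⟨h.QS ht, hQN ht⟩) (h'.NΓ ⟨h'.QS ht', hQN' ht'⟩)
  have hn : ∀ v, e.ρ (t * t') v = e.ρ t (e.ρ t' v) := fun v => by
    rw [e.ρ_mul (hQN ht) (mem_norm_bot _) (hQN' ht') (mem_norm_bot _), Module.End.mul_apply]
  have hnz : e.ρ (t * t') (e.π z) = q' • e.π w + (1 - q' * q) • e.π z := by
    rw [hn, e1, map_add, map_add, map_smul, hfz t ht, e4, e3]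
    match_scalars
    · ring
    · field_simp; ring
    · ring
  have hw3R := H6.conj_mem_of_mem_normalizer (h.ΓN hnΓ) hzR
  have hw3 : e.π (t * t' * z * (t * t')⁻¹) = q' • e.π w + (1 - q' * q) • e.π z := by
    rw [← e.ρ_π _ (h.ΓN hnΓ) (mem_norm_bot _) z hzR, hnz]
  have hnb : t * t' ∉ Gd Q R := fun hh => hq' (by
    have := (hα _ hw3R).2 (h.xs.le (H6.conj_mem_of_mem_normalizer (h.Gd_le_normZ hh) hz))
    rw [hw3] at this
    simpa [hαw, hαz] using this)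
  have h2 := two_ne_zero' h.odd
  have hD : ∀ d, α d = 0 → γ d = 0 → α (e.ρ (t * t')⁻¹ d) = 0 := fun d hd hd' => by
    obtain ⟨x, hx, qx, e5⟩ := s3 d hd hd'
    obtain ⟨a1, -, hγa1, q1, e6, e7, -⟩ := s2 x hx
    rw [e5] at e6
    have e8 : qx = q1 := by simpa [hd', hγa1, hγz] using congrArg γ e6
    subst e8
    have e9 : d = a1 := by simpa using e6
    subst e9
    have h3 := mem_cj.1 ((h.dichA hA hnΓ hnb).2.2 x hx _ (conj_mem_cj hz))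
    generalize t * t' * z * (t * t')⁻¹ = w3 at h3 hw3 hw3R
    have hc1 : ⁅x, w3⁆ ∈ R := R.mul_mem (H6.conj_mem_of_mem_normalizer (hQN hx) hw3R) (R.inv_mem hw3R)
    have hc2 : ⁅x, ⁅x, w3⁆⁆ ∈ R :=
      R.mul_mem (H6.conj_mem_of_mem_normalizer (hQN hx) hc1) (R.inv_mem hc1)
    have hc3 := R.mul_mem (R.pow_mem hc1 2) (R.inv_mem hc2)
    have h4 := (hα _ (H6.conj_mem_of_mem_normalizer' (h.ΓN hnΓ) hc3)).2 h3
    have h5 := e.ρ_π _ (inv_mem (h.ΓN hnΓ)) (mem_norm_bot _) _ hc3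
    rw [inv_inv] at h5
    have h6 : e.π (⁅x, w3⁆ ^ 2 * ⁅x, ⁅x, w3⁆⁆⁻¹) = (2 * q') • d := by
      rw [e.π_mul _ (R.pow_mem hc1 2) _ (R.inv_mem hc2), e.π_inv hc2, e.π_pow hc1,
        e.π_comm (hQN hx) (mem_norm_bot _) hc1, e.π_comm (hQN hx) (mem_norm_bot _) hw3R, hw3]
      simp only [map_add, map_sub, map_smul, e5, e7, hfz x hx]
      push_cast
      module
    rw [← h5, h6, map_smul, map_smul, smul_eq_mul] at h4
    exact (mul_eq_zero.1 h4).resolve_left (mul_ne_zero h2 hq')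
  have hβ : ∀ d, α d = 0 → γ d = 0 → ∀ c c' : ZMod p, e.ρ t d = d + c • e.π z → e.ρ t' d = d + c' • e.π w →
      c' = -q' * c := fun d hd hd' c c' e5 e6 => by
    have h3 := hD d hd hd'
    have h4 : e.ρ (t * t') (d - c' • e.π w - c • (e.π z - a + q' • e.π w)) = d := by
      have : e.ρ t' (d - c' • e.π w - c • (e.π z - a + q' • e.π w)) = d - c • e.π z := by
        simp only [map_add, map_sub, map_smul, e6, e1, e2, hfw]
        module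
      rw [hn, this, map_sub, map_smul, e5, hfz t ht]
      module
    rw [← h4, e.ρ_inv_apply (h.ΓN hnΓ) (mem_norm_bot _)] at h3
    simp only [map_add, map_sub, map_smul, hd, hαw, hαz, hαa, smul_eq_mul] at h3
    linear_combination -h3
  have hqq : q' * q = 1 := by
    have := hβ a hαa hγa _ _ e4 e2
    refine mul_left_cancel₀ (mul_ne_zero h2 hq') ?_
    linear_combination -this
  refine ⟨t * t', hnΓ, a, q', hq', hαa, hγa, e1, e2, by rw [hnz, hqq]; simp,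
    fun d hd hd' c' e5 => ?_⟩
  have e6 := s1 t ht d hd
  generalize γ (e.ρ t d - d) = c at e6
  have e7 := hβ d hd hd' c c' e6 e5
  rw [hn, e5, map_add, map_smul, e6, e3]
  match_scalars
  · ring
  · rw [e7]; linear_combination (-c) * hqq
  · ring
  · field_simp

end E

theorem II2.exp_Q (h : II2 p S Q Z R Γ) (hA : R.relIndex (Q ⊓ 𝒩(R)) ≠ p) {x : G} (hx : x ∈ Q) :
    x ^ p = 1 := by
  obtain ⟨g, hg, hb⟩ := SetLike.not_le_iff_exists.1 h.bad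
  obtain ⟨w, hw, hw1⟩ := h.exists_w g
  obtain ⟨z, hz, hz1⟩ := (bot_or_exists_ne_one _).resolve_left h.xs.ne_bot
  obtain ⟨V, _, _, _, s, rfl⟩ := h.xs.exists_sp h.odd hz hz1
  obtain ⟨E, _, _, _, ⟨e⟩⟩ := h.exists_E
  have h' := h.conj hg
  have hA' : R.relIndex (cj g Q ⊓ 𝒩(R)) ≠ p := by rwa [h.relIndex_conj hg]
  have hwR := (h.cj_le_cent hg hw).1
  have hzR := h.Z_le hz
  obtain ⟨γ, hγz, hγ⟩ := e.exists_functional (U := cj g Q) bot_le (h'.RS.trans h'.S_le_normQ)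
    h'.relIndex_R hzR (h.not_mem' hg hb hz hz1)
  obtain ⟨α, hαw, hα⟩ := e.exists_functional (U := Q) bot_le (h.RS.trans h.S_le_normQ)
    h.relIndex_R hwR (h.not_mem hg hb hw hw1)
  have hαz : α (e.π s.z) = 0 := (hα _ hzR).2 (h.xs.le hz)
  have hγw : γ (e.π w) = 0 := (hγ w hwR).2 (h'.xs.le hw)
  obtain ⟨u0, hu0⟩ := exists_rep s.skew s.nondeg s.ω
  obtain ⟨r1, hr1, rfl⟩ := s.surj u0
  have hr1R : r1 ∈ R := (h.dichA hA hg hb).2.1 ⟨hr1, mem_cent.2 fun u hu =>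
    ((s.commute_iff hu.2 hr1).2 (by
      rw [← hu0, ← pw_eq_one_iff s.z_pow s.z_ne, ← s.pow u hu.2, h.pow hu.1])).eq⟩
  obtain ⟨r0, hr0R, hr0Q, hr0', hr0⟩ : ∃ r0 ∈ R, r0 ∈ Q ∧ γ (e.π r0) = 0 ∧ s.π r0 = s.π r1 := by
    have hm := pw_mem hz (-γ (e.π r1))
    refine ⟨r1 * pw s.z (-γ (e.π r1)), R.mul_mem hr1R (h.Z_le hm), Q.mul_mem hr1 (h.xs.le hm), ?_, ?_⟩
    · rw [e.π_mul _ hr1R _ (h.Z_le hm), e.π_pw hzR]; simp [hγz]
    · rw [s.π_mul _ hr1 _ (h.xs.le hm), (s.π_eq_zero _ (h.xs.le hm)).2 hm, add_zero]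
  rw [← hr0] at hu0
  suffices h0 : r0 = 1 by
    rw [s.pow x hx, hu0, h0, s.π_one, map_zero, pw_zero]
  by_contra hne
  have hαd := (hα r0 hr0R).2 hr0Q
  have hd0 : e.π r0 ≠ 0 := fun hh => hne (mem_bot.1 ((e.π_eq_zero _ hr0R).1 hh))
  obtain ⟨-, s2', s3'⟩ := h'.side hA' (Γ.inv_mem hg) (h.inv_not_mem_cj hg hb) e hw hw1
    (by rwa [cj_inv_cj]) hz1 hγ hαw (by rwa [cj_inv_cj])
  obtain ⟨t1, ht1, q1, e1⟩ := s3' _ hr0' hαd
  have ht1R : t1 ∉ R := fun hh => by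
    rw [e.ρ_π t1 (le_normalizer hh) (mem_norm_bot _) _ hzR, mem_cent.1 (h.comm hzR) t1 hh,
      mul_inv_cancel_right] at e1
    have e2 : q1 = 0 := by simpa [hαd, hαw] using congrArg α e1
    exact hd0 (by simpa [e2] using e1)
  have hr0Q' := (hγ r0 hr0R).1 hr0'
  obtain ⟨t2, ht2, ht2c, ht2R⟩ : ∃ t2 ∈ cj g Q, t2 ∈ 𝒞[r0] ∧ t2 ∉ R := by
    by_contra hcon
    push Not at hcon
    have h3 : R.relIndex (cj g Q) ≤ (cj g Q ⊓ 𝒞[r0]).relIndex (cj g Q) :=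
      relIndex_le_of_le_left (fun y hy => hcon y hy.1 hy.2) (relIndex_ne_zero' _ _)
    rw [inf_comm, inf_relIndex_right, h'.xs.relIndex_cent1 hr0Q' fun hh =>
      h.not_mem hg hb hh hne hr0Q] at h3
    exact absurd h'.lt_relIndex (by omega)
  obtain ⟨n1, hn1, a1, q1', hq1, hαa1, -, f1, f2, f3, f4⟩ :=
    h.exists_n hA hg hb e hz hz1 hw hw1 hαw hα hγz hγ ht1 ht1R
  obtain ⟨n2, hn2, a2, q2', hq2, -, -, -, -, g3, g4⟩ :=
    h.exists_n hA hg hb e hz hz1 hw hw1 hαw hα hγz hγ ht2 ht2R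
  have e3 : a1 = e.π r0 := by
    rw [e1] at f1
    have e2 : q1 = q1' := by simpa [hαd, hαw, hαa1] using congrArg α f1
    subst e2
    simpa using f1.symm
  subst e3
  have f5 := f4 _ hαd hr0' _ f2
  have g5 := g4 _ hαd hr0' 0 (by
    rw [e.ρ_π t2 ((h'.dichA hA' (Γ.inv_mem hg) (h.inv_not_mem_cj hg hb)).1 ht2) (mem_norm_bot _) _ hr0R,
      mem_cent1.1 ht2c, mul_inv_cancel_right, zero_smul, add_zero])
  have hcj : ∀ n ∈ Γ, ∀ q : ZMod p, e.ρ n (e.π s.z) = q • e.π w → cj n Z = cj g Z := fun n hn q hq => by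
    rw [e.ρ_π n (h.ΓN hn) (mem_norm_bot _) _ hzR, ← e.π_pw hwR,
      e.π_eq_iff (H6.conj_mem_of_mem_normalizer (h.ΓN hn) hzR) (pw_mem hwR q), mem_bot,
      mul_inv_eq_one] at hq
    refine eq_of_le_of_card_le ?_ (by rw [card_cj, card_cj])
    conv_lhs => rw [h.xs.eq_zpowers hz hz1]
    rw [cj_zpowers, hq]
    exact zpowers_le.2 (pw_mem hw q)
  have hkΓ : n2⁻¹ * n1 ∈ Γ := mul_mem (inv_mem hn2) hn1
  have hk := h.caseI hkΓ (cj_eq_self_iff.1 (by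
    rw [← cj_cj, hcj n1 hn1 _ f3, ← hcj n2 hn2 _ g3, cj_inv_cj]))
  obtain ⟨m, hmQ, hmR, hm⟩ := mem_Gd.1 hk
  have hfix : s.ρ m (s.π r0) = s.π r0 := by
    rw [← sub_eq_zero]
    refine s.nondeg _ fun v => ?_
    rw [← s.ρ_apply_inv hmQ (s.normZ hmQ) v, map_sub, s.B_ρ m hmQ, ← hu0, ← hu0, s.ω_ρ m hmQ, sub_self]
  rw [s.ρπ hmQ hr0Q, s.π_eq_iff (H6.conj_mem_of_mem_normalizer hmQ hr0Q) hr0Q, ← hm r0 hr0R] at hfix
  obtain ⟨c, hc⟩ := (s.mem_Z _).1 hfix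
  have e4 : e.ρ (n2⁻¹ * n1) (e.π r0) = c • e.π s.z + e.π r0 := by
    rw [e.ρ_π _ (h.ΓN hkΓ) (mem_norm_bot _) _ hr0R, mul_inv_eq_iff_eq_mul.1 hc,
      e.π_mul _ (pw_mem hzR c) _ hr0R, e.π_pw hzR]
  have e5 := congrArg (e.ρ n2) e4
  rw [e.ρ_mul (inv_mem (h.ΓN hn2)) (mem_norm_bot _) (h.ΓN hn1) (mem_norm_bot _), Module.End.mul_apply,
    e.ρ_apply_inv (h.ΓN hn2) (mem_norm_bot _), map_add, map_smul, g3, g5, f5,
    mul_div_cancel_right₀ _ hq1] at e5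
  have e6 : 2 * q1' = c * q2' := by simpa [hαd, hαw] using congrArg α e5
  have e7 : (2 : ZMod p) • e.π r0 = 0 := by
    rw [e6] at e5
    linear_combination (norm := module) -e5
  exact hd0 ((smul_eq_zero.1 e7).resolve_left (two_ne_zero' h.odd))

theorem II2.caseA (h : II2 p S Q Z R Γ) (hA : R.relIndex (Q ⊓ 𝒩(R)) ≠ p) : Out p S := by
  obtain ⟨g, hg, hb⟩ := SetLike.not_le_iff_exists.1 h.bad
  obtain ⟨w, hw, hw1⟩ := h.exists_w g
  obtain ⟨z, hz, hz1⟩ := (bot_or_exists_ne_one _).resolve_left h.xs.ne_bot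
  obtain ⟨V, _, _, _, s, rfl⟩ := h.xs.exists_sp h.odd hz hz1
  have hQN := (h.dichA hA hg hb).1
  have hwR := (h.cj_le_cent hg hw).1
  have hwS := h.RS hwR
  have hwQ : w ∈ 𝒩(Q) := h.S_le_normQ hwS
  have hcR : ∀ t ∈ Q, ⁅w, t⁆ ∈ R := fun t ht => by
    rw [← commutatorElement_inv]
    exact R.inv_mem (R.mul_mem (H6.conj_mem_of_mem_normalizer (hQN ht) hwR) (R.inv_mem hwR))
  have hcQ : ∀ t ∈ Q, ⁅w, t⁆ ∈ Q := fun t ht => h.comm_mem_Q hwS (h.QS ht)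
  have han : ∀ t ∈ Q, Commute t ⁅w, t⁆ → t ∈ R := fun t ht hc =>
    h.aniso hA hg hb hw hw1 ht (by rw [← commutatorElement_inv]; exact hc.inv_right)
  have hZ0 : Z ≤ R ⊓ Q := le_inf h.Z_le h.xs.le
  have hab : R ⊓ Q ≤ 𝒞(R ⊓ Q) := inf_le_left.trans (h.comm.trans (cent_le_cent inf_le_left))
  have hiso := s.B_ρ_of_cent hwQ (h.S_le_centZ hwS)
  have hsymm : ∀ u v, s.B u ((s.ρ w - 1) v) = s.B v ((s.ρ w - 1) u) := fun u v => by
    obtain ⟨a, ha, rfl⟩ := s.surj u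
    obtain ⟨b, hb', rfl⟩ := s.surj v
    have h1 := (s.commute_iff (hcQ a ha) (hcQ b hb')).1
      (mem_cent.1 (h.comm (hcR b hb')) _ (hcR a ha))
    rw [s.πcomm hwQ ha, s.πcomm hwQ hb'] at h1
    simp only [map_sub, LinearMap.sub_apply, hiso, Module.End.one_apply] at h1 ⊢
    rw [s.skew (s.ρ w (s.π a)), s.skew (s.π a) (s.π b)] at h1
    rw [s.skew (s.π a) (s.π b)]
    linear_combination -h1
  have hcard := card_le_of_aniso h.odd (κ := s.B.compl₂ (s.ρ w - 1)) (U := s.sub (R ⊓ Q)) hsymm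
    (fun u hu v => by
      obtain ⟨a, ha, rfl⟩ := (s.mem_sub inf_le_right).1 hu
      rw [LinearMap.compl₂_apply, hsymm, LinearMap.sub_apply, s.ρπ hwQ ha.2,
        ← mem_cent.1 (h.comm hwR) a ha.1, mul_inv_cancel_right, Module.End.one_apply, sub_self,
        map_zero])
    (fun v hv => by
      obtain ⟨a, ha, rfl⟩ := s.surj v
      rw [LinearMap.compl₂_apply, LinearMap.sub_apply, Module.End.one_apply, ← s.πcomm hwQ ha] at hv
      exact (s.mem_sub inf_le_right).2 ⟨a, ⟨han a ha ((s.commute_iff ha (hcQ a ha)).2 hv), ha⟩, rfl⟩)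
  rw [s.card, s.card_sub inf_le_right, ← relIndex_mul_relIndex Z (R ⊓ Q) Q hZ0 inf_le_right,
    mul_comm] at hcard
  have h5 := (h.xs.card_eq inf_le_right hab
    (Nat.le_of_mul_le_mul_right hcard (Nat.pos_of_ne_zero (relIndex_ne_zero' _ _)))).1
  obtain ⟨e, x, y, d, w', z', h1, h2, h3⟩ := crit_SU4 h.odd h.xs h.QS (fun q hq => h.exp_Q hA hq) hwS
    hwQ (h.S_le_centZ hwS) (h.pow hwR) (fun t ht => mem_cent.1 (h.comm (hcR t ht)) w hwR)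
    (fun t ht hc => mem_cent.1 (h.comm hwR) t (han t ht hc)) (by
      have := h.lt_relIndex
      rwa [← h.cent1_eq hg hb hw hw1, ← inf_relIndex_right, inf_right_comm, inf_eq_right.2 h.QS,
        inf_comm, inf_relIndex_right] at this)
  exact Or.inl ⟨by rw [h.card_S, h5]; ring, e, x, y, d, w', z', h1, h2, Or.inr (Or.inl h3)⟩

end Cfsg.Agent.EX
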