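import Cfsg.Agent.Lib.EX.Dict
import Cfsg.Agent.Lib.EX.Lin

/-!
# S5177: case I (see notes/EX.md)
-/

set_option autoImplicit false
set_option linter.unusedSectionVars false
set_option linter.unusedVariables false

namespace Cfsg.Agent.EX

open Subgroup Cfsg.Agent.H6 Cfsg.Agent.FT
open scoped commutatorElement

variable {G : Type*} [Group G] [Finite G] {p : ℕ} [hp : Fact p.Prime] {S Q Z R Γ : Subgroup G}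
  {g : G}

theorem norm_of_comm {K : Subgroup G} {a : G} (h : ∀ k ∈ K, ⁅a, k⁆ ∈ K) : a ∈ 𝒩(K) :=
  H6.mem_normalizer_of_conj_mem fun k hk => by
    have : a * k * a⁻¹ = ⁅a, k⁆ * k := by simp [commutatorElement_def]
    rw [this]; exact K.mul_mem (h k hk) hk

theorem comm_mem_of_norm {K : Subgroup G} {a k : G} (ha : a ∈ 𝒩(K)) (hk : k ∈ K) : ⁅a, k⁆ ∈ K :=
  K.mul_mem (H6.conj_mem_of_mem_normalizer ha hk) (K.inv_mem hk)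

theorem comm_symm_mem {K : Subgroup G} {a b : G} (h : ⁅a, b⁆ ∈ K) : ⁅b, a⁆ ∈ K := by
  rw [← commutatorElement_inv]; exact K.inv_mem h

theorem PAct.pair {K A : Subgroup G} {a b : G} (h : PAct p (closure ({a, b} : Set G)) K)
    (hK : IsPGroup p K) (ha : a ∈ 𝒩(K)) (hb : b ∈ 𝒩(K)) (h1 : ∀ r ∈ A, ⁅a, r⁆ ∈ K)
    (h2 : ∀ r ∈ A, ⁅b, r⁆ ∈ K) : PAct p (closure ({a, b} : Set G)) A := by
  refine h.step hK ?_ (closure_pair_comm ha hb h1 h2)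
  rw [closure_le]
  rintro y (rfl | rfl)
  exacts [ha, hb]

namespace Loc

theorem decomp (h : Loc p S Q Z R Γ) {w r : G} (hw : w ∈ S) (hwQ : w ∉ Q) (hr : r ∈ S) :
    ∃ t : ZMod p, r * (pw w t)⁻¹ ∈ Q := by
  rw [← h.sup_zpowers hw hwQ] at hr
  obtain ⟨k, hk, i, rfl⟩ := (H9.mem_sup_zpowers (h.S_le_normQ hw)).1 hr
  obtain ⟨n, hn⟩ : ∃ n : ℤ, i = ((i : ZMod p).val : ℤ) + p * n := by
    refine ⟨i / p, ?_⟩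
    rw [ZMod.val_intCast, Int.emod_add_mul_ediv]
  refine ⟨(i : ZMod p), ?_⟩
  have : k * w ^ i * (pw w (i : ZMod p))⁻¹ = k * (w ^ p) ^ n := by
    rw [pw, ← zpow_natCast, ← zpow_natCast, ← zpow_mul, mul_assoc, ← zpow_neg, ← zpow_add]
    congr 2
    linarith
  rw [this]
  exact Q.mul_mem hk (Q.zpow_mem (h.pow_mem_Q hw) n)

/-- Commutators with `R = (R ∩ Q) ⟨w⟩`. -/
theorem comm_mem_of_gen (h : Loc p S Q Z R Γ) {K : Subgroup G} {x w : G} (hK : R ≤ 𝒩(K))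
    (hw : w ∈ R) (hwQ : w ∉ Q) (h1 : ∀ r ∈ R, r ∈ Q → ⁅x, r⁆ ∈ K) (h2 : ⁅x, w⁆ ∈ K) :
    ∀ r ∈ R, ⁅x, r⁆ ∈ K := by
  intro r hr
  obtain ⟨t, ht⟩ := h.decomp (h.RS hw) hwQ (h.RS hr)
  have h3 : r * (pw w t)⁻¹ ∈ R := R.mul_mem hr (R.inv_mem (pw_mem hw t))
  have h4 : r * (pw w t)⁻¹ ∈ H9.cmod K x := ⟨hK h3, comm_symm_mem (h1 _ h3 ht)⟩
  have h5 : w ∈ H9.cmod K x := ⟨hK hw, comm_symm_mem h2⟩
  have := (H9.cmod K x).mul_mem h4 (pw_mem h5 t)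
  rw [inv_mul_cancel_right] at this
  exact comm_symm_mem this.2

theorem mem_norm_of_comm (h : Loc p S Q Z R Γ) {t w : G} (hw : w ∈ R) (hwQ : w ∉ Q) (ht : t ∈ Q)
    (h2 : ⁅t, w⁆ ∈ R) : t ∈ 𝒩(R) :=
  norm_of_comm (h.comm_mem_of_gen le_normalizer hw hwQ
    (fun r _ hr => h.Z_le (h.xs.comm t ht r hr)) h2)

theorem exists_comm_not_mem (h : Loc p S Q Z R Γ) (hg : g ∈ Γ) (hZ : g ∈ 𝒩(Z))
    (hb : g ∉ Gd Q R) {x : G} (hx : x ∈ Q) (hxn : x ∈ 𝒩(R)) (hxR : x ∉ R) :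
    ∃ r ∈ R, ⁅x, r⁆ ∉ cj g Q := by
  by_contra hcon
  push Not at hcon
  have h' := h.conj hg
  rw [cj_eq_self_iff.2 hZ] at h'
  have hx' : g * x * g⁻¹ ∈ cj g Q := conj_mem_cj hx
  have hxn' : g * x * g⁻¹ ∈ 𝒩(R) := mul_mem (mul_mem (h.ΓN hg) hxn) (inv_mem (h.ΓN hg))
  refine hb (h.ti hg ⟨h.QS hx, hxn⟩ hxR ⟨h.QS hx, hxn⟩ hxR ?_)
  generalize g * x * g⁻¹ = x' at hx' hxn'
  generalize cj g Q = Q' at h' hx' hcon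
  have hxZ : x ∈ 𝒞(Z) := h.S_le_centZ (h.QS hx)
  have hxZ' : x' ∈ 𝒞(Z) := h'.S_le_centZ (h'.QS hx')
  have c0 : PAct p (closure ({x, x'} : Set G)) Z := pAct_of_le_cent (by
    rw [closure_le]
    rintro y (rfl | rfl)
    exacts [hxZ, hxZ'])
  have a1 : ∀ r ∈ R, ⁅x, r⁆ ∈ R ⊓ Q ⊓ Q' := fun r hr =>
    ⟨⟨comm_mem_of_norm hxn hr, h.comm_mem_Q (h.QS hx) (h.RS hr)⟩, hcon r hr⟩
  have a2 : ∀ r ∈ Q', ⁅x', r⁆ ∈ Z := fun r hr => h'.xs.comm _ hx' _ hr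
  have hZ1 : Z ≤ R ⊓ Q ⊓ Q' := le_inf (le_inf h.Z_le h.xs.le) h'.xs.le
  have c1 : PAct p (closure ({x, x'} : Set G)) (R ⊓ Q ⊓ Q') :=
    c0.pair (h.pR.to_le h.Z_le) (cent_le_norm hxZ) (cent_le_norm hxZ')
      (fun r hr => h.xs.comm _ hx _ hr.1.2) (fun r hr => a2 r hr.2)
  have c2 : PAct p (closure ({x, x'} : Set G)) (R ⊓ Q') :=
    c1.pair (h.pR.to_le (inf_le_left.trans inf_le_left)) (norm_of_comm fun k hk => a1 k hk.1.1)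
      (norm_of_comm fun k hk => hZ1 (a2 k hk.2)) (fun r hr => a1 r hr.1)
      (fun r hr => hZ1 (a2 r hr.2))
  have a3 : ∀ r ∈ R, ⁅x, r⁆ ∈ R ⊓ Q' := fun r hr => ⟨(a1 r hr).1.1, (a1 r hr).2⟩
  have a4 : ∀ r ∈ R, ⁅x', r⁆ ∈ R ⊓ Q' := fun r hr =>
    ⟨comm_mem_of_norm hxn' hr, h'.comm_mem_Q (h'.QS hx') (h'.RS hr)⟩
  exact c2.pair (h.pR.to_le inf_le_left) (norm_of_comm fun k hk => a3 k hk.1)
    (norm_of_comm fun k hk => a4 k hk.1) a3 a4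

theorem good_of_norm (h : Loc p S Q Z R Γ) (hg : g ∈ Γ) (hZ : g ∈ 𝒩(Z)) (hn : g ∈ 𝒩(R ⊓ Q)) :
    g ∈ Gd Q R := by
  by_contra hb
  obtain ⟨x, hx, hxn, hxR⟩ := h.exists_N0
  obtain ⟨r, hr, hr'⟩ := h.exists_comm_not_mem hg hZ hb hx hxn hxR
  have : ⁅x, r⁆ ∈ R ⊓ Q := ⟨comm_mem_of_norm hxn hr, h.comm_mem_Q (h.QS hx) (h.RS hr)⟩
  rw [← cj_eq_self_iff.2 hn] at this
  exact hr' (cj_mono g inf_le_right this)

theorem comm_not_mem_cj (h : Loc p S Q Z R Γ) (hg : g ∈ Γ) (hZ : g ∈ 𝒩(Z))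
    (hb : g ∉ Gd Q R) {x : G} (hx : x ∈ Q) (hxn : x ∈ 𝒩(R)) (hxR : x ∉ R) {w : G} (hw : w ∈ R)
    (hwQ : w ∉ Q) : ⁅x, w⁆ ∉ cj g Q := by
  intro hc
  have h' := h.conj hg
  rw [cj_eq_self_iff.2 hZ] at h'
  obtain ⟨r, hr, hr'⟩ := h.exists_comm_not_mem hg hZ hb hx hxn hxR
  exact hr' (h.comm_mem_of_gen (h'.RS.trans h'.S_le_normQ) hw hwQ
    (fun r _ hr => h'.xs.le (h.xs.comm x hx r hr)) hc r hr)

/-- The involution-like element of case I. -/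
theorem caseI_tau (h : Loc p S Q Z R Γ) {S' Q' : Subgroup G} (h' : Loc p S' Q' Z R Γ) {x x' w : G}
    (hx : x ∈ Q) (hxn : x ∈ 𝒩(R)) (hx' : x' ∈ Q') (hxn' : x' ∈ 𝒩(R)) (hw : w ∈ R)
    (hwQ' : w ∈ Q') (hwQ : w ∉ Q) (hy : ⁅x, w⁆ ∉ Q') (hy' : ⁅x', ⁅x, w⁆⁆ ∉ Q) :
    ∃ m ∈ 𝒩(Q), m ∈ 𝒞(Z) ∧ m * w * m⁻¹ * w ∈ Q ∧ m * ⁅x, w⁆ * m⁻¹ * ⁅x, w⁆ ∈ R ⊓ Q ⊓ Q' ∧
      ∀ k ∈ R ⊓ Q ⊓ Q', ⁅m, k⁆ ∈ Z := by
  have hyR : ⁅x, w⁆ ∈ R := comm_mem_of_norm hxn hw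
  have hyQ : ⁅x, w⁆ ∈ Q := h.comm_mem_Q (h.QS hx) (h.RS hw)
  have hZ1 : Z ≤ R ⊓ Q ⊓ Q' := le_inf (le_inf h.Z_le h.xs.le) h'.xs.le
  obtain ⟨E, _, _, _, ⟨e⟩⟩ := exists_sec (p := p) (A := R) (K := R ⊓ Q ⊓ Q')
    (H1.le_normalizer_inf (H1.le_normalizer_inf le_normalizer (h.RS.trans h.S_le_normQ))
      (h'.RS.trans h'.S_le_normQ))
    (fun a ha b hb => ⟨⟨comm_mem_of_norm (le_normalizer ha) hb, h.comm_mem_Q (h.RS ha) (h.RS hb)⟩,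
      h'.comm_mem_Q (h'.RS ha) (h'.RS hb)⟩)
    (fun a ha => ⟨⟨R.pow_mem ha _, h.pow_mem_Q (h.RS ha)⟩, h'.pow_mem_Q (h'.RS ha)⟩)
  have b1 : ∀ k ∈ R ⊓ Q ⊓ Q', ⁅x, k⁆ ∈ Z := fun k hk => h.xs.comm x hx k hk.1.2
  have b2 : ∀ k ∈ R ⊓ Q ⊓ Q', ⁅x', k⁆ ∈ Z := fun k hk => h'.xs.comm x' hx' k hk.2
  have hxK : x ∈ 𝒩(R ⊓ Q ⊓ Q') := norm_of_comm fun k hk => hZ1 (b1 k hk)
  have hxK' : x' ∈ 𝒩(R ⊓ Q ⊓ Q') := norm_of_comm fun k hk => hZ1 (b2 k hk)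
  have hxZ : x ∈ 𝒞(Z) := h.S_le_centZ (h.QS hx)
  have hxZ' : x' ∈ 𝒞(Z) := h'.S_le_centZ (h'.QS hx')
  have hy2R : ⁅x', ⁅x, w⁆⁆ ∈ R := comm_mem_of_norm hxn' hyR
  obtain ⟨c, hc⟩ := h.decomp (h.RS hw) hwQ (h.RS hy2R)
  have hc0 : c ≠ 0 := by
    rintro rfl
    rw [pw_zero, inv_one, mul_one] at hc
    exact hy' hc
  have e4 : e.π ⁅x', ⁅x, w⁆⁆ = c • e.π w := by
    rw [← e.π_pw hw, e.π_eq_iff hy2R (pw_mem hw c)]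
    exact ⟨⟨R.mul_mem hy2R (R.inv_mem (pw_mem hw c)), hc⟩,
      Q'.mul_mem (h'.comm_mem_Q (h'.QS hx') (h'.RS hyR)) (Q'.inv_mem (pw_mem hwQ' c))⟩
  obtain ⟨τ, hτ, t1, t2⟩ := e.sl2 hxn hxK hxn' hxK' (v := e.π ⁅x, w⁆) (v' := e.π w) (c := 1)
    (c' := c) one_ne_zero hc0
    (by
      rw [← sub_eq_zero, ← e.π_comm hxn hxK hyR, e.π_eq_zero _ (comm_mem_of_norm hxn hyR)]
      exact hZ1 (h.xs.comm _ hx _ hyQ))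
    (by rw [e.π_comm hxn hxK hw]; simp)
    (by
      rw [← sub_eq_zero, ← e.π_comm hxn' hxK' hw, e.π_eq_zero _ (comm_mem_of_norm hxn' hw)]
      exact hZ1 (h'.xs.comm _ hx' _ hwQ'))
    (by rw [← e4, e.π_comm hxn' hxK' hyR]; simp) (l := -1) (neg_ne_zero.2 one_ne_zero)
  have hcl : ∀ {H : Subgroup G}, x ∈ H → x' ∈ H → τ ∈ H := fun {H} h1 h2 => by
    refine (show closure ({x, x'} : Set G) ≤ H from ?_) hτ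
    rw [closure_le]
    rintro y (rfl | rfl)
    exacts [h1, h2]
  have hτR := hcl hxn hxn'
  have hτK := hcl hxK hxK'
  have hτZ := hcl hxZ hxZ'
  have hτΓ := hcl (h.NΓ ⟨h.QS hx, hxn⟩) (h'.NΓ ⟨h'.QS hx', hxn'⟩)
  have inv : ∀ r ∈ R, e.ρ τ (e.π r) = (-1 : ZMod p) • e.π r → τ * r * τ⁻¹ * r ∈ R ⊓ Q ⊓ Q' :=
    fun r hr h1 => by
      have h2 := H6.conj_mem_of_mem_normalizer hτR hr
      rw [← e.π_eq_zero _ (R.mul_mem h2 hr), e.π_mul _ h2 _ hr, ← e.ρ_π τ hτR hτK r hr, h1]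
      simp
  have i1 := inv _ hyR (by rw [t1, inv_neg, inv_one])
  have i2 := inv _ hw t2
  have hτ0 : τ ∈ 𝒩(R ⊓ Q) := H6.mem_normalizer_of_conj_mem fun r hr => by
    refine ⟨H6.conj_mem_of_mem_normalizer hτR hr.1, ?_⟩
    obtain ⟨t, ht⟩ := h'.decomp (h'.RS hyR) hy (h'.RS hr.1)
    have h1 : r * (pw ⁅x, w⁆ t)⁻¹ ∈ R ⊓ Q ⊓ Q' :=
      ⟨(R ⊓ Q).mul_mem hr ((R ⊓ Q).inv_mem (pw_mem (mem_inf.2 ⟨hyR, hyQ⟩) t)), ht⟩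
    have h2 : τ * ⁅x, w⁆ * τ⁻¹ ∈ Q := (Q.mul_mem_cancel_right hyQ).1 i1.1.2
    have h3 := Q.mul_mem (H6.conj_mem_of_mem_normalizer hτK h1).1.2 (pw_mem h2 t)
    rw [← conj_pw] at h3
    rwa [show τ * (r * (pw ⁅x, w⁆ t)⁻¹) * τ⁻¹ * (τ * pw ⁅x, w⁆ t * τ⁻¹) = τ * r * τ⁻¹ by group] at h3
  obtain ⟨m, hmQ, -, hm⟩ := mem_Gd.1 (h.good_of_norm hτΓ (cent_le_norm hτZ) hτ0)
  refine ⟨m, hmQ, mem_cent.2 fun z hz => ?_, hm w hw ▸ i2.1.2, hm _ hyR ▸ i1, fun k hk => ?_⟩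
  · have h1 := hm z (h.Z_le hz)
    rw [← mem_cent.1 hτZ z hz, mul_inv_cancel_right] at h1
    exact mul_eq_of_eq_mul_inv h1
  · have := closure_pair_comm (cent_le_norm hxZ) (cent_le_norm hxZ') b1 b2 τ hτ k hk
    rwa [commutatorElement_def, hm k hk.1.1] at this

end Loc

/-- Case I: elements of `Γ` normalizing `Z` are good. -/
theorem Loc.caseI (h : Loc p S Q Z R Γ) (hg : g ∈ Γ) (hZ : g ∈ 𝒩(Z)) : g ∈ Gd Q R := by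
  by_contra hb
  have h' := h.conj hg
  rw [cj_eq_self_iff.2 hZ] at h'
  have key := fun x hx hxn hxR w hw hwQ =>
    h.comm_not_mem_cj hg hZ hb (x := x) hx hxn hxR (w := w) hw hwQ
  have key' := fun x hx hxn hxR w hw hwQ => h'.comm_not_mem_cj (Γ.inv_mem hg) (inv_mem hZ)
    (h.inv_not_mem_cj hg hb) (x := x) hx hxn hxR (w := w) hw hwQ
  rw [cj_inv_cj] at key'
  generalize cj g Q = Q' at h' key key'
  generalize cj g S = S' at h'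
  obtain ⟨x, hx, hxn, hxR⟩ := h.exists_N0
  obtain ⟨x', hx', hxn', hxR'⟩ := h'.exists_N0
  obtain ⟨y0, hy0, hy0'⟩ := SetLike.not_le_iff_exists.1 h'.not_le
  have hw : ⁅x', y0⁆ ∈ R := comm_mem_of_norm hxn' hy0
  have hwQ' : ⁅x', y0⁆ ∈ Q' := h'.comm_mem_Q (h'.QS hx') (h'.RS hy0)
  have hwQ : ⁅x', y0⁆ ∉ Q := key' x' hx' hxn' hxR' y0 hy0 hy0'
  generalize ⁅x', y0⁆ = w at hw hwQ hwQ'
  have hy := key x hx hxn hxR w hw hwQ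
  have hyR : ⁅x, w⁆ ∈ R := comm_mem_of_norm hxn hw
  have hyQ : ⁅x, w⁆ ∈ Q := h.comm_mem_Q (h.QS hx) (h.RS hw)
  obtain ⟨m, hm, hmZ, m1, m2, m3⟩ := h.caseI_tau h' hx hxn hx' hxn' hw hwQ' hwQ hy
    (key' x' hx' hxn' hxR' _ hyR hy)
  have hZ1 : Z ≤ R ⊓ Q ⊓ Q' := le_inf (le_inf h.Z_le h.xs.le) h'.xs.le
  have hKQ : R ⊓ Q ⊓ Q' ≤ Q := inf_le_left.trans inf_le_right
  obtain ⟨z, hz, hz1⟩ := (bot_or_exists_ne_one Z).resolve_left h.xs.ne_bot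
  obtain ⟨V, _, _, _, s, -⟩ := h.xs.exists_sp h.odd hz hz1
  have hwN : w ∈ 𝒩(Q) := h.S_le_normQ (h.RS hw)
  have hc : ∀ t ∈ Q, ⁅w, t⁆ ∈ Q := fun t ht => comm_mem_of_norm hwN ht
  have hWp : s.ρ w ^ p = 1 := by
    rw [← s.ρ_pow hwN (s.normZ hwN), s.ρ_of_mem (h.pow_mem_Q (h.RS hw))]
  have F1 : ∀ k ∈ R ⊓ Q ⊓ Q', s.ρ w (s.π k) = s.π k := fun k hk => by
    rw [← sub_eq_zero, ← s.πcomm hwN hk.1.2, s.π_eq_zero _ (hc k hk.1.2)]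
    exact h'.xs.comm _ hwQ' _ hk.2
  have F2 : ∀ t ∈ Q, ⁅w, t⁆ ∈ R ⊓ Q ⊓ Q' → t ∈ R := fun t ht h1 => by
    by_contra htR
    exact key t ht (h.mem_norm_of_comm hw hwQ ht (comm_symm_mem h1.1.1)) htR w hw hwQ
      (comm_symm_mem h1.2)
  have F3 : ⁅w, ⁅x, w⁆⁆ ∈ R ⊓ Q ⊓ Q' :=
    ⟨⟨comm_mem_of_norm (le_normalizer hw) hyR, hc _ hyQ⟩, h'.comm_mem_Q (h'.RS hw) (h'.RS hyR)⟩
  have F4 : ∀ r ∈ R, r ∈ Q → ∃ c : ZMod p, ∃ k ∈ R ⊓ Q ⊓ Q', s.π r = s.π k + c • s.π ⁅x, w⁆ :=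
    fun r hr hrQ => by
      obtain ⟨t, ht⟩ := h'.decomp (h'.RS hyR) hy (h'.RS hr)
      have h1 : r * (pw ⁅x, w⁆ t)⁻¹ ∈ R ⊓ Q ⊓ Q' :=
        ⟨(R ⊓ Q).mul_mem ⟨hr, hrQ⟩ ((R ⊓ Q).inv_mem (pw_mem (mem_inf.2 ⟨hyR, hyQ⟩) t)), ht⟩
      refine ⟨t, _, h1, ?_⟩
      rw [← s.π_pw hyQ, ← s.π_mul _ h1.1.2 _ (pw_mem hyQ t), inv_mul_cancel_right]
  have hb0 : s.π ⁅x, w⁆ = s.π x - s.ρ w (s.π x) := by
    rw [← commutatorElement_inv, s.π_inv (hc x hx), s.πcomm hwN hx, neg_sub]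
  have hb1 : s.π ⁅w, ⁅x, w⁆⁆ = s.ρ w (s.π ⁅x, w⁆) - s.π ⁅x, w⁆ := s.πcomm hwN hyQ
  have hb2 := F1 _ F3
  have lin : ∀ u, s.ρ w (s.ρ w u - u) = s.ρ w u - u →
      ∃ c c' : ZMod p, s.ρ w u - u = c • s.π ⁅x, w⁆ + c' • s.π ⁅w, ⁅x, w⁆⁆ := fun u hu => by
    obtain ⟨t, ht, rfl⟩ := s.surj u
    rw [← s.πcomm hwN ht, ← sub_eq_zero, ← s.πcomm hwN (hc t ht),
      s.π_eq_zero _ (hc _ (hc t ht))] at hu
    obtain ⟨c, k, hk, e1⟩ := F4 _ (F2 _ (hc t ht) (hZ1 hu)) (hc t ht)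
    have h1 : t * pw x c ∈ Q := Q.mul_mem ht (pw_mem hx c)
    have h2 : s.π ⁅w, t * pw x c⁆ = s.π k := by
      rw [s.πcomm hwN ht, hb0] at e1
      rw [s.πcomm hwN h1, s.π_mul _ ht _ (pw_mem hx c), s.π_pw hx, map_add, map_smul]
      linear_combination (norm := module) e1
    have h3 : ⁅w, t * pw x c⁆ ∈ R ⊓ Q ⊓ Q' := by
      rw [← s.π_mem_sub hKQ hZ1 (hc _ h1), h2, s.π_mem_sub hKQ hZ1 hk.1.2]
      exact hk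
    obtain ⟨c', k', hk', e2⟩ := F4 _ (F2 _ h1 h3) h1
    refine ⟨c, c', ?_⟩
    rw [s.π_mul _ ht _ (pw_mem hx c), s.π_pw hx] at e2
    have e3 := congrArg (s.ρ w) e2
    rw [map_add, map_add, map_smul, map_smul, F1 _ hk'] at e3
    rw [hb1]
    have e4 := congrArg (c • ·) hb0
    linear_combination (norm := module) e3 - e2 - e4
  have hσ : s.ρ m * s.ρ w = s.ρ w ^ (p - 1) * s.ρ m := by
    have h1 : m * w = (m * w * m⁻¹ * w * (w ^ p)⁻¹) * (w ^ (p - 1) * m) := by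
      have : w ^ p = w ^ (p - 1) * w := by rw [← pow_succ, Nat.sub_add_cancel hp.out.pos]
      rw [this]; group
    have h2 : m * w * m⁻¹ * w * (w ^ p)⁻¹ ∈ Q := Q.mul_mem m1 (Q.inv_mem (h.pow_mem_Q (h.RS hw)))
    have h3 : w ^ (p - 1) ∈ 𝒩(Q) := pow_mem hwN _
    rw [← s.ρ_mul hm (s.normZ hm) hwN (s.normZ hwN), h1,
      s.ρ_mul (le_normalizer h2) (s.normZ (le_normalizer h2)) (mul_mem h3 hm)
        (s.normZ (mul_mem h3 hm)), s.ρ_of_mem h2, one_mul,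
      s.ρ_mul h3 (s.normZ h3) hm (s.normZ hm), s.ρ_pow hwN (s.normZ hwN)]
  have hWW : ∀ u, s.ρ w ((s.ρ w ^ (p - 1)) u) = u := fun u => by
    rw [← Module.End.mul_apply, ← pow_succ', Nat.sub_add_cancel hp.out.pos, hWp,
      Module.End.one_apply]
  have hbK : s.π ⁅x, w⁆ ∉ s.sub (R ⊓ Q ⊓ Q') := fun h1 =>
    hy ((s.π_mem_sub hKQ hZ1 hyQ).1 h1).2
  obtain ⟨a, β, ha, ha1, ha2, huniq, hσa, hβ⟩ : ∃ (a : V) (β : ZMod p), a ≠ 0 ∧ s.ρ w a = a ∧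
      (∃ u, s.ρ w u - u = a) ∧
      (∀ u, s.ρ w (s.ρ w u - u) = s.ρ w u - u → ∃ c : ZMod p, s.ρ w u - u = c • a) ∧
      s.ρ m a = β • a ∧ β * β = 1 := by
    by_cases h0 : s.π ⁅w, ⁅x, w⁆⁆ = 0
    · have h1 : s.ρ w (s.π ⁅x, w⁆) = s.π ⁅x, w⁆ := by rw [← sub_eq_zero, ← hb1, h0]
      have hu : ∀ u, s.ρ w (s.ρ w u - u) = s.ρ w u - u →
          ∃ c : ZMod p, s.ρ w u - u = c • s.π ⁅x, w⁆ := fun u hu => by
        obtain ⟨c, c', e⟩ := lin u hu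
        exact ⟨c, by rw [e, h0, smul_zero, add_zero]⟩
      have h2 : s.ρ m (s.π ⁅x, w⁆) = s.ρ w ((s.ρ w ^ (p - 1)) (s.ρ m (s.π x))) -
          (s.ρ w ^ (p - 1)) (s.ρ m (s.π x)) := by
        rw [hWW, hb0, map_sub, ← Module.End.mul_apply (s.ρ m) (s.ρ w), hσ, Module.End.mul_apply]
      obtain ⟨β, hβ⟩ := hu ((s.ρ w ^ (p - 1)) (s.ρ m (s.π x))) (by
        rw [← h2]
        conv_lhs => rw [← h1, ← Module.End.mul_apply (s.ρ m), hσ, Module.End.mul_apply, hWW])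
      rw [← h2] at hβ
      refine ⟨_, β, fun e : s.π ⁅x, w⁆ = 0 => hbK (by rw [e]; exact Submodule.zero_mem _), h1,
        ⟨-s.π x, by rw [hb0, map_neg]; abel⟩, hu, hβ, ?_⟩
      have h3 := (s.π_mem_sub hKQ hZ1 m2.1.2).2 m2
      rw [s.π_mul _ (H6.conj_mem_of_mem_normalizer hm hyQ) _ hyQ, ← s.ρπ hm hyQ, hβ] at h3
      have h4 : β + 1 = 0 := by
        by_contra h4
        have := Submodule.smul_mem _ (β + 1)⁻¹ h3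
        rw [show β • s.π ⁅x, w⁆ + s.π ⁅x, w⁆ = (β + 1) • s.π ⁅x, w⁆ by module, smul_smul,
          inv_mul_cancel₀ h4, one_smul] at this
        exact hbK this
      linear_combination (β - 1) * h4
    · refine ⟨_, 1, h0, hb2, ⟨_, hb1.symm⟩, fun u hu => ?_, ?_, one_mul _⟩
      · obtain ⟨c, c', e⟩ := lin u hu
        rw [e, map_add, map_smul, map_smul, hb2] at hu
        have h1 : c • s.π ⁅w, ⁅x, w⁆⁆ = 0 := by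
          rw [hb1]; linear_combination (norm := module) hu
        exact ⟨c', by rw [e, (smul_eq_zero.1 h1).resolve_right h0, zero_smul, zero_add]⟩
      · rw [one_smul, ← sub_eq_zero, ← s.πcomm hm F3.1.2,
          s.π_eq_zero _ (comm_mem_of_norm hm F3.1.2)]
        exact m3 _ F3
  obtain ⟨j, hj, -, v, -, -, -, hW⟩ := lemW h.odd s.skew s.nondeg
    (s.B_ρ_of_cent hwN (h.S_le_centZ (h.RS hw))) ⟨p, sub_one_pow_eq_zero hWp⟩ ha ha1 ha2 huniq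
  obtain ⟨γ, -, e1, e2⟩ := hW (s.ρ m) 1 β (p - 1)
    (fun u u' => by rw [s.B_ρ_of_cent hm hmZ, one_mul]) hσ hσa
  rw [Nat.cast_sub hp.out.one_lt.le, ZMod.natCast_self, Nat.cast_one, zero_sub,
    hj.neg_one_pow] at e1
  exact two_ne_zero' h.odd (by linear_combination e2 + β * e1 - hβ)

/-- (P2) -/
theorem Loc.norm_cj_le (h : Loc p S Q Z R Γ) (hg : g ∈ Γ) (hb : g ∉ Gd Q R) :
    S ⊓ 𝒩(cj g Z) ≤ R := by
  by_contra hle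
  have h' := h.conj hg
  have hRT : R ≤ S ⊓ 𝒩(cj g Z) := le_inf h.RS ((h'.RS.trans h'.S_le_centZ).trans cent_le_norm)
  obtain ⟨x, hx, hxR, hxn, -⟩ := H9.exists_mem_normalizer_of_not_le h.hS inf_le_left h.RS
    (hRT.trans le_normalizer) hle
  have hxΓ : x ∈ Γ := h.NΓ ⟨hx.1, hxn⟩
  have hy : g⁻¹ * x * g ∈ Γ := Γ.mul_mem (Γ.mul_mem (Γ.inv_mem hg) hxΓ) hg
  have hyZ : g⁻¹ * x * g ∈ 𝒩(Z) := by rw [← mem_cj, cj_normalizer]; exact hx.2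
  obtain ⟨k, hk⟩ := H9.exists_pow_eq_one h.hS hx.1
  have h1 := h.mem_NC_of_Gd hy (h.caseI hy hyZ) (k := k) (by
    have : (g⁻¹ * x * g) ^ p ^ k = g⁻¹ * x ^ p ^ k * g := by
      have := conj_pow (a := g⁻¹) (b := x) (i := p ^ k)
      rwa [inv_inv] at this
    rw [this, hk]; simp)
  have h2 := h.ext g⁻¹ (Γ.inv_mem hg) x ⟨hx.1, hxn⟩ hxR (by rwa [inv_inv])
  exact hb (by simpa using (Gd Q R).inv_mem h2)

theorem Loc.cj_le_cent (h : Loc p S Q Z R Γ) (hg : g ∈ Γ) : cj g Z ≤ R ⊓ 𝒞(R) := by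
  have h' := h.conj hg
  exact le_inf h'.Z_le (cent_comm.1 (h'.RS.trans h'.S_le_centZ))

theorem Loc.inf_cj (h : Loc p S Q Z R Γ) (hg : g ∈ Γ) (hb : g ∉ Gd Q R) : Z ⊓ cj g Z = ⊥ := by
  refine H9.inf_eq_bot_of_card_prime hp.out h.xs.card fun hZ => hb (h.caseI hg ?_)
  exact cj_eq_self_iff.1 (eq_of_le_of_card_le hZ (card_cj g Z).le).symm

/-- `C_S(w) = R` for `1 ≠ w ∈ Z'`. -/
theorem Loc.cent1_eq (h : Loc p S Q Z R Γ) (hg : g ∈ Γ) (hb : g ∉ Gd Q R) {w : G}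
    (hw : w ∈ cj g Z) (hw1 : w ≠ 1) : S ⊓ 𝒞[w] = R := by
  refine le_antisymm (le_trans (inf_le_inf_left _ ?_) (h.norm_cj_le hg hb))
    (le_inf h.RS (le_cent1_iff.2 (h.cj_le_cent hg hw).2))
  rw [(h.conj hg).xs.eq_zpowers hw hw1]
  exact cent1_le_norm_zpowers

end Cfsg.Agent.EX
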