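import Cfsg.Agent.Lib.EX.CI
import Cfsg.Agent.Lib.EX.Crit

/-!
# S5177: case II.1 (see notes/EX.md)
-/

set_option autoImplicit false
set_option linter.unusedSectionVars false
set_option linter.unusedVariables false

namespace Cfsg.Agent.EX

open Subgroup Cfsg.Agent.H6 Cfsg.Agent.FT
open scoped commutatorElement

variable {G : Type*} [Group G] [Finite G] {p : ℕ} [hp : Fact p.Prime] {S Q Z R Γ : Subgroup G}
  {g : G}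

/-- The symmetric configuration of case II.1. -/
structure P1 (p : ℕ) (S Q Z S' Q' Z' R Γ : Subgroup G) : Prop where
  h : Loc p S Q Z R Γ
  h' : Loc p S' Q' Z' R Γ
  inf : Z ⊓ Z' = ⊥
  le : Z' ≤ Q
  le' : Z ≤ Q'
  cen : ∀ w ∈ Z', w ≠ 1 → S ⊓ 𝒞[w] = R
  cen' : ∀ w ∈ Z, w ≠ 1 → S' ⊓ 𝒞[w] = R
  zr : R ⊓ 𝒞(R) ≤ Q
  zr' : R ⊓ 𝒞(R) ≤ Q'

theorem Loc.decompR (h : Loc p S Q Z R Γ) {u r : G} (hu : u ∈ R) (huQ : u ∉ Q) (hr : r ∈ R) :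
    ∃ q ∈ Q, q ∈ R ∧ ∃ i : ℤ, r = q * u ^ i := by
  have := h.RS hr
  rw [← h.sup_zpowers (h.RS hu) huQ, H9.mem_sup_zpowers (h.S_le_normQ (h.RS hu))] at this
  obtain ⟨q, hq, i, rfl⟩ := this
  exact ⟨q, hq, (mul_mem_cancel_right (zpow_mem hu i)).1 hr, i, rfl⟩

theorem Loc.relIndex_R0 (h : Loc p S Q Z R Γ) {w : G} (hw : w ∈ Q) (hwZ : w ∉ Z)
    (hc : S ⊓ 𝒞[w] = R) : R.relIndex Q = p := by
  rw [← h.xs.relIndex_cent1 hw hwZ, ← hc, ← inf_relIndex_right, ← inf_relIndex_right (𝒞[w]),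
    inf_right_comm, inf_eq_right.2 h.QS, inf_comm]

theorem Loc.center_le_of_le (h : Loc p S Q Z R Γ) (hg : g ∈ Γ) (hb : g ∉ Gd Q R)
    (hZ : cj g Z ≤ Q) : R ⊓ 𝒞(R) ≤ Q := by
  intro u hu
  by_contra huQ
  have hi := h.inf_cj hg hb
  obtain ⟨⟨w, hw⟩, hw1⟩ := ne_bot_iff_exists_ne_one.1 (h.xs.cj g).ne_bot
  have hw1' : w ≠ 1 := fun e => hw1 (Subtype.ext e)
  have hwZ : w ∉ Z := fun e => hw1' (mem_bot.1 (hi ▸ ⟨e, hw⟩))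
  have hc : ∀ a ∈ R, ∀ b ∈ R, ⁅a, b⁆ ∈ Z := fun a ha b hb => by
    obtain ⟨q, hq, hqR, i, rfl⟩ := h.decompR hu.1 huQ ha
    obtain ⟨q', hq', hqR', j, rfl⟩ := h.decompR hu.1 huQ hb
    have c1 : Commute (u ^ i) (q' * u ^ j) := (Commute.symm (mem_cent.1 hu.2 _ hb)).zpow_left i
    have c2 : Commute (u ^ j) q⁻¹ := (Commute.symm (mem_cent.1 hu.2 _ (inv_mem hqR))).zpow_left j
    have : ⁅q * u ^ i, q' * u ^ j⁆ = ⁅q, q'⁆ := by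
      calc ⁅q * u ^ i, q' * u ^ j⁆ = q * (u ^ i * (q' * u ^ j)) * (u ^ i)⁻¹ * q⁻¹ * (q' * u ^ j)⁻¹ := by
            rw [commutatorElement_def]; group
        _ = q * q' * (u ^ j * q⁻¹) * (q' * u ^ j)⁻¹ := by rw [c1.eq]; group
        _ = _ := by rw [c2.eq, commutatorElement_def]; group
    exact this ▸ h.xs.comm q hq q' hq'
  have hab : R ⊓ Q ≤ 𝒞(R ⊓ Q) := fun a ha => mem_cent.2 fun b hb' => by
    rw [← commutatorElement_eq_one_iff_mul_comm, ← mem_bot, ← hi]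
    refine ⟨hc b hb'.1 a ha.1, mem_cj.2 ?_⟩
    have := hc _ (H6.conj_mem_of_mem_normalizer' (h.ΓN hg) hb'.1) _
      (H6.conj_mem_of_mem_normalizer' (h.ΓN hg) ha.1)
    convert this using 1
    simp only [commutatorElement_def]; group
  have := h.xs.lt_relIndex inf_le_right hab
  rw [inf_relIndex_right, h.relIndex_R0 (hZ hw) hwZ (h.cent1_eq hg hb hw hw1')] at this
  exact lt_irrefl _ this

theorem Loc.p1 (h : Loc p S Q Z R Γ) (hg : g ∈ Γ) (hb : g ∉ Gd Q R) (hZ : cj g Z ≤ Q) :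
    P1 p S Q Z (cj g S) (cj g Q) (cj g Z) R Γ := by
  have hzr := h.center_le_of_le hg hb hZ
  have hN : g ∈ 𝒩(R ⊓ 𝒞(R)) :=
    H1.le_normalizer_inf le_rfl (H1.le_normalizer_centralizer le_rfl) (h.ΓN hg)
  have hzr' : R ⊓ 𝒞(R) ≤ cj g Q := fun u hu => mem_cj.2 (hzr (H6.conj_mem_of_mem_normalizer' hN hu))
  refine ⟨h, h.conj hg, h.inf_cj hg hb, hZ, fun z hz => hzr' ⟨h.Z_le hz, mem_cent.2 fun r hr =>
    (mem_cent.1 (h.S_le_centZ (h.RS hr)) z hz).symm⟩, fun w hw => h.cent1_eq hg hb hw,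
    fun w hw => (h.conj hg).cent1_eq (inv_mem hg) (h.inv_not_mem_cj hg hb) (by rwa [cj_inv_cj]),
    hzr, hzr'⟩

namespace P1

variable {S' Q' Z' : Subgroup G} (c : P1 p S Q Z S' Q' Z' R Γ)
include c

theorem symm : P1 p S' Q' Z' S Q Z R Γ :=
  ⟨c.h', c.h, by rw [inf_comm, c.inf], c.le', c.le, c.cen', c.cen, c.zr', c.zr⟩

theorem eq_one {w : G} (hw : w ∈ Z) (hw' : w ∈ Z') : w = 1 := mem_bot.1 (c.inf ▸ ⟨hw, hw'⟩)

theorem comm_Z {w r : G} (hw : w ∈ Z) (hr : r ∈ R) : Commute r w :=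
  (mem_cent.1 (c.h.S_le_centZ (c.h.RS hr)) w hw).symm

theorem exists_z : ∃ z ∈ Z, z ≠ 1 := by
  obtain ⟨⟨w, hw⟩, hw1⟩ := ne_bot_iff_exists_ne_one.1 c.h.xs.ne_bot
  exact ⟨w, hw, fun e => hw1 (Subtype.ext e)⟩

theorem mem_R {w t : G} (hw : w ∈ Z') (hw1 : w ≠ 1) (ht : t ∈ S) (hc : Commute t w) : t ∈ R :=
  c.cen w hw hw1 ▸ ⟨ht, mem_cent1.2 hc⟩

theorem Q_le_norm : Q ≤ 𝒩(R) := fun t ht => by
  obtain ⟨w, hw, hw1⟩ := c.symm.exists_z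
  refine H6.mem_normalizer_of_conj_mem fun r hr => c.mem_R hw hw1
    (mul_mem (mul_mem (c.h.QS ht) (c.h.RS hr)) (inv_mem (c.h.QS ht))) ?_
  have h1 : Commute r (⁅t⁻¹, w⁆ * w) :=
    (c.comm_Z (c.h.xs.comm _ (inv_mem ht) _ (c.le hw)) hr).mul_right (c.symm.comm_Z hw hr)
  have h2 := h1.eq
  rw [commutatorElement_def] at h2
  calc t * r * t⁻¹ * w = t * (r * (t⁻¹ * w * t⁻¹⁻¹ * w⁻¹ * w)) * t⁻¹ := by group
    _ = _ := by rw [h2]; group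

theorem relIndex_R0 : R.relIndex Q = p := by
  obtain ⟨w, hw, hw1⟩ := c.symm.exists_z
  exact c.h.relIndex_R0 (c.le hw) (fun e => hw1 (c.eq_one e hw)) (c.cen w hw hw1)

theorem D_comm {a b : G} (ha : a ∈ Q) (ha' : a ∈ Q') (hb : b ∈ Q) (hb' : b ∈ Q') : Commute a b :=
  commutatorElement_eq_one_iff_commute.1 (c.eq_one (c.h.xs.comm a ha b hb) (c.h'.xs.comm a ha' b hb'))

theorem D_pow {a : G} (ha : a ∈ Q) (ha' : a ∈ Q') : a ^ p = 1 :=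
  c.eq_one (c.h.xs.pow_mem ha) (c.h'.xs.pow_mem ha')

theorem card_D : Nat.card Q = p ^ 5 ∧ (R ⊓ (Q ⊓ Q')).relIndex Q = p ^ 2 ∧
    Q ⊓ 𝒞(R ⊓ (Q ⊓ Q')) = R ⊓ (Q ⊓ Q') := by
  refine c.h.xs.card_eq (inf_le_right.trans inf_le_left)
    (fun a ha => mem_cent.2 fun b hb => c.D_comm hb.2.1 hb.2.2 ha.2.1 ha.2.2) ?_
  rw [← relIndex_mul_relIndex (R ⊓ (Q ⊓ Q')) (R ⊓ Q) Q (inf_le_inf_left _ inf_le_left) inf_le_right,
    inf_relIndex_right, c.relIndex_R0, ← inf_assoc, inf_relIndex_left, sq]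
  refine Nat.mul_le_mul_right _ ?_
  rw [← c.h'.relIndex_R]
  exact relIndex_le_of_le_right inf_le_left (c.h'.relIndex_R ▸ hp.out.ne_zero)

theorem exists_e : ∃ e ∈ R, e ∈ Q' ∧ e ∉ Q := by
  by_contra! hc
  have h1 := c.symm.card_D.2.1
  rw [show R ⊓ (Q' ⊓ Q) = R ⊓ Q' from le_antisymm (inf_le_inf_left _ inf_le_left)
    fun a ha => ⟨ha.1, ha.2, hc a ha.1 ha.2⟩, inf_relIndex_right, c.symm.relIndex_R0] at h1
  have := hp.out.one_lt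
  nlinarith

theorem exists_d0 {e : G} (he : e ∈ Q') (he' : e ∉ Q) :
    ∃ d ∈ R, d ∈ Q ∧ d ∈ Q' ∧ ⁅e, d⁆ ≠ 1 := by
  by_contra! hc
  have : e ∈ R ⊓ (Q' ⊓ Q) := c.symm.card_D.2.2 ▸ ⟨he, mem_cent.2 fun d hd =>
    (commutatorElement_eq_one_iff_mul_comm.1 (hc d hd.1 hd.2.2 hd.2.1)).symm⟩
  exact he' this.2.2

theorem y_mem {e x : G} (heR : e ∈ R) (hx : x ∈ Q) : ⁅e, x⁆ ∈ Q ∧ ⁅e, x⁆ ∈ R := by
  refine ⟨mul_mem (H6.conj_mem_of_mem_normalizer (c.h.S_le_normQ (c.h.RS heR)) hx) (inv_mem hx), ?_⟩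
  rw [show ⁅e, x⁆ = e * (x * e⁻¹ * x⁻¹) by rw [commutatorElement_def]; group]
  exact mul_mem heR (H6.conj_mem_of_mem_normalizer (c.Q_le_norm hx) (inv_mem heR))

theorem y_not_mem {e x : G} (heR : e ∈ R) (he : e ∈ Q') (he' : e ∉ Q) (hx : x ∈ Q) (hxR : x ∉ R) :
    ⁅e, x⁆ ∉ Q' := fun hy => by
  obtain ⟨d, hdR, hd, hd', hne⟩ := c.exists_d0 he he'
  have hw := c.h'.xs.comm e he d hd'
  refine hxR (c.mem_R hw hne (c.h.QS hx) ?_)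
  have hyQ := (c.y_mem heR hx).1
  have c1 : Commute ⁅e, x⁆ (e * d * e⁻¹) := c.D_comm hyQ hy
    (H6.conj_mem_of_mem_normalizer (c.h.S_le_normQ (c.h.RS heR)) hd)
    (mul_mem (mul_mem he hd') (inv_mem he))
  have hz := c.h.xs.comm x hx d hd
  have c2 : Commute (⁅e, x⁆⁻¹ * e) ⁅x, d⁆ :=
    c.comm_Z hz (mul_mem (inv_mem (c.y_mem heR hx).2) heR)
  have c3 : Commute (⁅e, x⁆⁻¹ * e * d * (⁅e, x⁆⁻¹ * e)⁻¹ * d⁻¹) ⁅x, d⁆ := by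
    have := mul_mem (inv_mem (c.y_mem heR hx).2) heR
    exact c.comm_Z hz (mul_mem (mul_mem (mul_mem this hdR) (inv_mem this)) (inv_mem hdR))
  have e1 : x * ⁅e, d⁆ * x⁻¹ = ⁅e, x⁆⁻¹ * e * ⁅x, d⁆ * d * (⁅e, x⁆⁻¹ * e)⁻¹ * d⁻¹ * ⁅x, d⁆⁻¹ := by
    simp only [commutatorElement_def]; group
  have e2 : ⁅e, x⁆⁻¹ * e * d * (⁅e, x⁆⁻¹ * e)⁻¹ * d⁻¹ = ⁅e, d⁆ := by
    calc _ = ⁅e, x⁆⁻¹ * (e * d * e⁻¹ * ⁅e, x⁆) * d⁻¹ := by group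
      _ = _ := by rw [← c1.eq, commutatorElement_def e d]; group
  rw [c2.eq, show ⁅x, d⁆ * (⁅e, x⁆⁻¹ * e) * d * (⁅e, x⁆⁻¹ * e)⁻¹ * d⁻¹ * ⁅x, d⁆⁻¹ = ⁅x, d⁆ *
    (⁅e, x⁆⁻¹ * e * d * (⁅e, x⁆⁻¹ * e)⁻¹ * d⁻¹) * ⁅x, d⁆⁻¹ by group, ← c3.eq, mul_inv_cancel_right,
    e2] at e1
  exact mul_inv_eq_iff_eq_mul.1 e1

theorem transv {x z z' : G} (hx : x ∈ Q) (hxR : x ∉ R) (hz : z ∈ Z) (hz1 : z ≠ 1) (hz' : z' ∈ Z')
    (hz1' : z' ≠ 1) : ∃ t : ZMod p, t ≠ 0 ∧ x * z' * x⁻¹ = z' * pw z t := by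
  have h1 := c.h.xs.comm _ (inv_mem (c.le hz')) x hx
  have h2 : ⁅z'⁻¹, x⁆ ∈ zpowers z := c.h.xs.eq_zpowers hz hz1 ▸ h1
  obtain ⟨t, ht⟩ := (mem_zpowers_iff_pw (c.h.xs.pow_eq_one hz)).1 h2
  refine ⟨t, fun h0 => hxR (c.mem_R hz' hz1' (c.h.QS hx) ?_), by
    rw [← ht, commutatorElement_def]; group⟩
  rw [h0, pw_zero, commutatorElement_eq_one_iff_commute] at ht
  simpa using ht.inv_left.symm

theorem exists_m {z z' : G} (hz : z ∈ Z) (hz1 : z ≠ 1) (hz' : z' ∈ Z') (hz1' : z' ≠ 1) :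
    ∃ m ∈ 𝒩(Q), m * z * m⁻¹ = z⁻¹ ∧ m * z' * m⁻¹ = z'⁻¹ := by
  obtain ⟨x, hx, hxR⟩ := SetLike.not_le_iff_exists.1 c.h.not_Q_le
  obtain ⟨x', hx', hxR'⟩ := SetLike.not_le_iff_exists.1 c.h'.not_Q_le
  obtain ⟨t, ht, e1⟩ := c.transv hx hxR hz hz1 hz' hz1'
  obtain ⟨t', ht', e1'⟩ := c.symm.transv hx' hxR' hz' hz1' hz hz1
  have hN : 𝒩(R) ≤ 𝒩(R ⊓ 𝒞(R)) :=
    H1.le_normalizer_inf le_rfl (H1.le_normalizer_centralizer le_rfl)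
  have hB : ∀ g : G, g ∈ 𝒩((⊥ : Subgroup G)) := fun g =>
    H6.mem_normalizer_of_conj_mem fun x hx => by rw [mem_bot.1 hx]; simp
  obtain ⟨V, _, _, _, ⟨s⟩⟩ := exists_sec (p := p) (A := R ⊓ 𝒞(R)) (K := ⊥) (fun g _ => hB g)
    (fun a ha b hb => commutatorElement_eq_one_iff_mul_comm.2 (mem_cent.1 hb.2 a ha.1))
    fun a ha => c.D_pow (c.zr ha) (c.zr' ha)
  have mz : z ∈ R ⊓ 𝒞(R) := ⟨c.h.Z_le hz, mem_cent.2 fun r hr => c.comm_Z hz hr⟩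
  have mz' : z' ∈ R ⊓ 𝒞(R) := ⟨c.h'.Z_le hz', mem_cent.2 fun r hr => c.symm.comm_Z hz' hr⟩
  have nx := hN (c.Q_le_norm hx)
  have nx' := hN (c.symm.Q_le_norm hx')
  obtain ⟨τ, hτ, f1, f2⟩ := s.sl2 (v := s.π z) (v' := s.π z') nx (hB x) nx' (hB x') ht ht'
    (by rw [s.ρ_π x nx (hB x) z mz, mem_cent.1 (c.h.xs.le_cent hz) x hx, mul_inv_cancel_right])
    (by rw [s.ρ_π x nx (hB x) z' mz', e1, s.π_mul _ mz' _ (pw_mem mz t), s.π_pw mz])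
    (by rw [s.ρ_π x' nx' (hB x') z' mz', mem_cent.1 (c.h'.xs.le_cent hz') x' hx',
      mul_inv_cancel_right])
    (by rw [s.ρ_π x' nx' (hB x') z mz, e1', s.π_mul _ mz _ (pw_mem mz' t'), s.π_pw mz'])
    (l := -1) (neg_ne_zero.2 one_ne_zero)
  have hτΓ : τ ∈ Γ := (closure_le Γ).2 (by
    rintro _ (rfl | rfl)
    · exact c.h.NΓ ⟨c.h.QS hx, c.Q_le_norm hx⟩
    · exact c.h'.NΓ ⟨c.h'.QS hx', c.symm.Q_le_norm hx'⟩) hτ
  have nτ := hN (c.h.ΓN hτΓ)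
  have key : ∀ a ∈ R ⊓ 𝒞(R), s.ρ τ (s.π a) = (-1 : ZMod p) • s.π a → τ * a * τ⁻¹ = a⁻¹ := by
    intro a ha e
    rw [s.ρ_π τ nτ (hB τ) a ha, neg_one_smul, ← s.π_inv ha,
      s.π_eq_iff (H6.conj_mem_of_mem_normalizer nτ ha) (inv_mem ha), mem_bot, mul_inv_eq_one] at e
    exact e
  have g1 := key z mz (by rw [f1, inv_neg, inv_one])
  have g2 := key z' mz' f2
  obtain ⟨m, hm, -, hm'⟩ := mem_Gd.1 (c.h.caseI hτΓ (by
    rw [← cj_eq_self_iff, c.h.xs.eq_zpowers hz hz1, cj_zpowers, g1, zpowers_inv]))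
  exact ⟨m, hm, by rw [← hm' z mz.1, g1], by rw [← hm' z' mz'.1, g2]⟩

theorem exp_Q : ∀ q ∈ Q, q ^ p = 1 := by
  obtain ⟨z, hz, hz1⟩ := c.exists_z
  obtain ⟨z', hz', hz1'⟩ := c.symm.exists_z
  obtain ⟨m, hm, e1, e2⟩ := c.exists_m hz hz1 hz' hz1'
  obtain ⟨V, _, _, _, s, rfl⟩ := c.h.xs.exists_sp c.h.odd hz hz1
  obtain ⟨x, hx, hxR⟩ := SetLike.not_le_iff_exists.1 c.h.not_Q_le
  obtain ⟨e, heR, he, he'⟩ := c.exists_e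
  obtain ⟨hy, hyR⟩ := c.y_mem heR hx
  have hω : ∀ a ∈ Q, a ^ p = 1 ↔ s.ω (s.π a) = 0 := fun a ha => by
    rw [s.pow a ha, pw_eq_one_iff s.z_pow s.z_ne]
  have heN := c.h.S_le_normQ (c.h.RS heR)
  have ωy : s.ω (s.π ⁅e, x⁆) = 0 := by
    rw [s.πcomm heN hx, map_sub, s.ω_ρ e heN, s.μ_eq_one heN (by
      rw [(c.comm_Z hz heR).eq, mul_inv_cancel_right]), one_mul, sub_self]
  have ωR : ∀ r ∈ Q, r ∈ R → s.ω (s.π r) = 0 := fun r hr hrR => by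
    obtain ⟨d, hd', hdR, i, rfl⟩ := c.h'.decompR hyR (c.y_not_mem heR he he' hx hxR) hrR
    have hd := (mul_mem_cancel_right (zpow_mem hy i)).1 hr
    rw [s.π_mul _ hd _ (zpow_mem hy i), s.π_zpow hy, map_add, map_smul, ωy,
      (hω d hd).1 (c.D_pow hd hd'), smul_zero, add_zero]
  have hμ : s.μ m = -1 := s.μ_eq hm (by rw [e1, pw_neg s.z_pow, pw_one])
  intro t ht
  have hmt := H6.conj_mem_of_mem_normalizer hm ht
  have h1 := s.B_ρ m hm (s.π t) (s.π z')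
  rw [s.ρπ hm (c.le hz'), e2, s.π_inv (c.le hz'), hμ, map_neg] at h1
  have h2 : ⁅m, t⁆ ∈ R := c.mem_R hz' hz1' (c.h.QS (mul_mem hmt (inv_mem ht)))
    ((s.commute_iff (mul_mem hmt (inv_mem ht)) (c.le hz')).2 (by
      change s.B (s.π ⁅m, t⁆) _ = 0
      rw [s.πcomm hm ht, map_sub, LinearMap.sub_apply]
      linear_combination -h1))
  have h3 := ωR _ (mul_mem hmt (inv_mem ht)) h2
  change s.ω (s.π ⁅m, t⁆) = 0 at h3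
  rw [s.πcomm hm ht, map_sub, s.ω_ρ m hm, hμ] at h3
  exact (hω t ht).2 ((mul_eq_zero.1 (by linear_combination -h3)).resolve_left (two_ne_zero' c.h.odd))

theorem out : Out p S := by
  refine Or.inl ⟨by rw [c.h.card_S, c.card_D.1]; ring, ?_⟩
  obtain ⟨z, hz, hz1⟩ := c.exists_z
  obtain ⟨z', hz', hz1'⟩ := c.symm.exists_z
  obtain ⟨V, _, _, _, s, rfl⟩ := c.h.xs.exists_sp c.h.odd hz hz1
  obtain ⟨x, hx, hxR⟩ := SetLike.not_le_iff_exists.1 c.h.not_Q_le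
  obtain ⟨e, heR, he, he'⟩ := c.exists_e
  obtain ⟨hy, hyR⟩ := c.y_mem heR hx
  have hy' := c.y_not_mem heR he he' hx hxR
  obtain ⟨hd, hdR⟩ := c.y_mem heR hy
  have hd' : ⁅e, ⁅e, x⁆⁆ ∈ Q' := by
    rw [← commutatorElement_inv]
    exact inv_mem (c.symm.y_mem hyR he).1
  have heS := c.h.RS heR
  have heN := c.h.S_le_normQ heS
  have heZ := c.h.S_le_centZ heS
  have hw := c.h'.xs.comm e he _ hd'
  by_cases hw1 : ⁅e, ⁅e, ⁅e, x⁆⁆⁆ = 1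
  swap
  · obtain ⟨e₁, x₁, y₁, d₁, w₁, z₁, h1, h2, h3⟩ := crit_G2 c.h.odd c.h.xs c.h.QS c.exp_Q heS heN heZ
      (c.symm.exp_Q e he) hx (c.symm.comm_Z hw heR) fun hc => hxR (c.mem_R hw hw1 (c.h.QS hx) hc)
    refine ⟨e₁, x₁, y₁, d₁, w₁, z₁, h1, h2, Or.inr (Or.inr ⟨?_, h3⟩)⟩
    refine hp.out.five_le_of_ne_two_of_ne_three c.h.odd fun h3 => hw1 (c.eq_one ?_ hw)
    have h4 : (s.ρ e - 1) ^ p = 0 := sub_one_pow_eq_zero (by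
      rw [← s.ρ_pow heN (s.normZ heN), c.symm.exp_Q e he, s.ρ_one])
    rw [← s.π_eq_zero _ (s.π_c heN hd).1, (s.π_c heN hd).2, (s.π_c heN hy).2, (s.π_c heN hx).2]
    exact LinearMap.congr_fun ((congrArg (fun n : ℕ => (s.ρ e - 1) ^ n) h3).symm.trans h4) (s.π x)
  obtain ⟨d, hd0R, hd0, hd0', hne⟩ := c.exists_d0 he he'
  have hw0 := c.h'.xs.comm e he d hd0'
  have hxz : s.B (s.π x) (s.π z') ≠ 0 := fun h0 =>
    hxR (c.mem_R hz' hz1' (c.h.QS hx) ((s.commute_iff hx (c.le hz')).2 h0))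
  have key : ∀ v, s.B (s.π x) v = 0 → s.B (s.π ⁅e, x⁆) v = 0 →
      (∀ a ∈ R, a ∈ Q → a ∈ Q' → s.B (s.π a) v = 0) → v = 0 := by
    intro v h1 h2 h3
    refine s.nondeg v fun u => ?_
    obtain ⟨t, ht, rfl⟩ := s.surj u
    obtain ⟨k, hk⟩ : ∃ k : ZMod p, s.B (s.π t) (s.π z') + k * s.B (s.π x) (s.π z') = 0 :=
      ⟨-s.B (s.π t) (s.π z') / s.B (s.π x) (s.π z'), by field_simp; ring⟩
    have hr := mul_mem ht (pw_mem hx k)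
    have pr : s.π (t * pw x k) = s.π t + k • s.π x := by rw [s.π_mul _ ht _ (pw_mem hx k), s.π_pw hx]
    have hrR := c.mem_R hz' hz1' (c.h.QS hr) ((s.commute_iff hr (c.le hz')).2 (by simpa [pr] using hk))
    obtain ⟨a, ha', haR, i, e1⟩ := c.h'.decompR hyR hy' hrR
    have ha := (mul_mem_cancel_right (zpow_mem hy i)).1 (e1 ▸ hr)
    rw [e1, s.π_mul _ ha _ (zpow_mem hy i), s.π_zpow hy] at pr
    have := congrArg (fun u => s.B u v) pr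
    simpa [h1, h2, h3 a haR ha ha'] using this.symm
  have hB := s.B_δ heN heZ
  have d3 := s.δ_eq_zero heN hd (commutatorElement_eq_one_iff_commute.1 hw1)
  have b1 : s.B (s.π ⁅e, x⁆) (s.π ⁅e, ⁅e, x⁆⁆) = 0 := by
    have := hB (s.π x) (s.π ⁅e, ⁅e, x⁆⁆)
    rwa [d3, map_zero, map_zero, zero_add, add_zero, ← (s.π_c heN hx).2] at this
  have b2 : s.B (s.π x) (s.π ⁅e, ⁅e, x⁆⁆) = 0 := by
    have := hB (s.π x) (s.π ⁅e, x⁆)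
    rwa [← (s.π_c heN hy).2, ← (s.π_c heN hx).2, s.alt, b1, add_zero, add_zero] at this
  obtain ⟨t, ht⟩ := (s.mem_Z _).1 ((s.π_eq_zero _ hd).1 (key _ b2 b1 fun a _ ha ha' =>
    (s.commute_iff ha hd).1 (c.D_comm ha ha' hd hd')))
  have hβ : s.B (s.π d) (s.π ⁅e, x⁆) ≠ 0 := fun h0 => by
    obtain ⟨k, hk⟩ : ∃ k : ZMod p, s.B (s.π x) (s.π d) - k * s.B (s.π x) (s.π z') = 0 :=
      ⟨s.B (s.π x) (s.π d) / s.B (s.π x) (s.π z'), by field_simp; ring⟩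
    have h1 := key (s.π d - k • s.π z') (by simpa using hk) (by
      simp [s.skew _ (s.π d), h0, (s.commute_iff hy (c.le hz')).1 (c.symm.comm_Z hz' hyR)])
      fun a haR ha ha' => by
        simp [(s.commute_iff ha hd0).1 (c.D_comm ha ha' hd0 hd0'),
          (s.commute_iff ha (c.le hz')).1 (c.symm.comm_Z hz' haR)]
    exact hne (commutatorElement_eq_one_iff_commute.2 (s.commute_of_π heZ hd0 (pw_mem (c.le hz') k)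
      (by rw [s.π_pw (c.le hz'), sub_eq_zero.1 h1]) ((c.symm.comm_Z hz' heR).pow_right _)))
  obtain ⟨r, hr⟩ : ∃ r : ZMod p, r * s.B (s.π d) (s.π ⁅e, x⁆) + t = 0 :=
    ⟨-t / s.B (s.π d) (s.π ⁅e, x⁆), by field_simp; ring⟩
  have hf := pw_mem hd0 r
  have hfR : e * pw d r ∈ R := mul_mem heR (pw_mem hd0R r)
  have hfS := c.h.RS hfR
  have hfN := c.h.S_le_normQ hfS
  have e1 : ⁅e * pw d r, d⁆ = ⁅e, d⁆ := by
    have : Commute (pw d r) d := (Commute.refl d).pow_left _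
    rw [commutatorElement_def, commutatorElement_def, mul_assoc e, this.eq]; group
  have e2 : Commute (e * pw d r) ⁅e, x⁆ := by
    have f1 := s.comm _ hf _ hy
    rw [s.π_pw hd0, map_smul, LinearMap.smul_apply, smul_eq_mul] at f1
    have f2 := (c.comm_Z (pw_mem hz (r * s.B (s.π d) (s.π ⁅e, x⁆))) heR).eq
    rw [← commutatorElement_eq_one_iff_commute,
      show ⁅e * pw d r, ⁅e, x⁆⁆ = e * ⁅pw d r, ⁅e, x⁆⁆ * e⁻¹ * ⁅e, ⁅e, x⁆⁆ by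
        generalize ⁅e, x⁆ = y; simp only [commutatorElement_def]; group,
      f1, f2, mul_inv_cancel_right, ht, ← pw_add s.z_pow, hr, pw_zero]
  obtain ⟨e₁, x₁, y₁, d₁, w₁, z₁, h1, h2, h3⟩ := crit_SL4 c.h.odd c.h.xs c.h.QS c.exp_Q hfS hfN
    (c.h.S_le_centZ hfS) (c.symm.exp_Q _ (mul_mem he (pw_mem hd0' r))) hx hd0
    (s.commute_of_π (c.h.S_le_centZ hfS) (s.π_c hfN hx).1 hy (by
      rw [(s.π_c hfN hx).2, (s.π_c heN hx).2, s.ρ_mul heN (s.normZ heN) (le_normalizer hf)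
        (s.normZ (le_normalizer hf)), s.ρ_of_mem hf, mul_one]) e2)
    (e1 ▸ c.symm.comm_Z hw0 hfR) (e1 ▸ c.symm.comm_Z hw0 hd0R)
    (e1 ▸ fun hc => hxR (c.mem_R hw0 hne (c.h.QS hx) hc))
  exact ⟨e₁, x₁, y₁, d₁, w₁, z₁, h1, h2, Or.inl h3⟩

end P1

theorem Loc.caseII1 (h : Loc p S Q Z R Γ) (hg : g ∈ Γ) (hb : g ∉ Gd Q R) (hZ : cj g Z ≤ Q) :
    Out p S :=
  (h.p1 hg hb hZ).out

end Cfsg.Agent.EX
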