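import Cfsg.Agent.Lib.EX.CI

/-!
# S5177: case II.2, the dichotomy (see notes/EX.md)
-/

set_option autoImplicit false
set_option linter.unusedSectionVars false
set_option linter.unusedVariables false

namespace Cfsg.Agent.EX

open Subgroup Cfsg.Agent.H6 Cfsg.Agent.FT
open scoped commutatorElement

universe u

variable {G : Type u} [Group G] [Finite G] {p : ℕ} [hp : Fact p.Prime] {S Q Z R Γ : Subgroup G}
  {g : G}

/-- Case II.2: no bad element maps `Z` into `Q`. -/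
structure II2 (p : ℕ) (S Q Z R Γ : Subgroup G) : Prop extends Loc p S Q Z R Γ where
  out : ∀ g ∈ Γ, g ∉ Gd Q R → ¬ cj g Z ≤ Q

namespace II2

theorem conj (h : II2 p S Q Z R Γ) (hg : g ∈ Γ) : II2 p (cj g S) (cj g Q) (cj g Z) R Γ := by
  refine ⟨h.toLoc.conj hg, fun k hk hb hle => ?_⟩
  rw [mem_Gd_cj (h.ΓN hg)] at hb
  refine h.out _ (Γ.mul_mem (Γ.mul_mem (Γ.inv_mem hg) hk) hg) hb ?_
  rw [← cj_cj, ← cj_cj, cj_le_iff_le_cj, inv_inv]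
  exact hle

theorem not_mem (h : II2 p S Q Z R Γ) (hg : g ∈ Γ) (hb : g ∉ Gd Q R) {w : G} (hw : w ∈ cj g Z)
    (hw1 : w ≠ 1) : w ∉ Q := by
  intro hQ
  refine h.out g hg hb ?_
  rw [(h.xs.cj g).eq_zpowers hw hw1]
  exact zpowers_le.2 hQ

theorem not_mem' (h : II2 p S Q Z R Γ) (hg : g ∈ Γ) (hb : g ∉ Gd Q R) {z : G} (hz : z ∈ Z)
    (hz1 : z ≠ 1) : z ∉ cj g Q := by
  refine (h.conj hg).not_mem (Γ.inv_mem hg) (h.inv_not_mem_cj hg hb) ?_ hz1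
  rwa [cj_inv_cj]

theorem exists_w (h : II2 p S Q Z R Γ) (g : G) : ∃ w ∈ cj g Z, w ≠ 1 :=
  (bot_or_exists_ne_one _).resolve_left (h.xs.cj g).ne_bot

theorem sup_eq_R (h : II2 p S Q Z R Γ) (hg : g ∈ Γ) (hb : g ∉ Gd Q R) {w : G} (hw : w ∈ cj g Z)
    (hw1 : w ≠ 1) : R ⊓ Q ⊔ zpowers w = R :=
  H9.sup_zpowers_eq_of_relIndex_prime hp.out (by rw [inf_comm, inf_relIndex_right, h.relIndex_R])
    inf_le_left (h.cj_le_cent hg hw).1 fun hh => h.not_mem hg hb hw hw1 hh.2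

theorem exists_mul (h : II2 p S Q Z R Γ) (hg : g ∈ Γ) (hb : g ∉ Gd Q R) {w : G} (hw : w ∈ cj g Z)
    (hw1 : w ≠ 1) {r : G} (hr : r ∈ R) : ∃ u ∈ R ⊓ Q, ∃ i : ℤ, r = u * w ^ i := by
  rw [← h.sup_eq_R hg hb hw hw1] at hr
  exact (H9.mem_sup_zpowers (cent_le_norm (cent_le_cent inf_le_left (h.cj_le_cent hg hw).2))).1 hr

theorem mem_Z (h : II2 p S Q Z R Γ) :
    (∀ a ∈ R, ∀ b ∈ R, ⁅a, b⁆ ∈ Z) ∧ ∀ a ∈ R, a ^ p ∈ Z := by
  obtain ⟨g, hg, hb⟩ := SetLike.not_le_iff_exists.1 h.bad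
  obtain ⟨w, hw, hw1⟩ := h.exists_w g
  have hc : ∀ r ∈ R, ∀ i : ℤ, Commute r (w ^ i) := fun r hr i =>
    Commute.zpow_right (mem_cent.1 (h.cj_le_cent hg hw).2 r hr) i
  constructor
  · intro a ha b hb'
    obtain ⟨u, hu, i, rfl⟩ := h.exists_mul hg hb hw hw1 ha
    obtain ⟨v, hv, j, e⟩ := h.exists_mul hg hb hw hw1 hb'
    have e1 : ⁅u * w ^ i, b⁆ = ⁅u, b⁆ := by
      have := (hc b hb' i).eq
      calc ⁅u * w ^ i, b⁆ = u * (w ^ i * b) * (w ^ i)⁻¹ * u⁻¹ * b⁻¹ := by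
            simp only [commutatorElement_def]; group
        _ = ⁅u, b⁆ := by rw [← this]; simp only [commutatorElement_def]; group
    have e2 : ⁅u, v * w ^ j⁆ = ⁅u, v⁆ := by
      have := (hc u⁻¹ (R.inv_mem hu.1) j).eq
      calc ⁅u, v * w ^ j⁆ = u * v * (w ^ j * u⁻¹) * (w ^ j)⁻¹ * v⁻¹ := by
            simp only [commutatorElement_def]; group
        _ = ⁅u, v⁆ := by rw [← this]; simp only [commutatorElement_def]; group
    rw [e1, e, e2]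
    exact h.xs.comm u hu.2 v hv.2
  · intro a ha
    obtain ⟨u, hu, i, rfl⟩ := h.exists_mul hg hb hw hw1 ha
    rw [(hc u hu.1 i).mul_pow, ← zpow_natCast (w ^ i), ← zpow_mul, mul_comm i, zpow_mul, zpow_natCast,
      (h.xs.cj g).pow_eq_one hw, one_zpow, mul_one]
    exact h.xs.pow_mem hu.2

theorem comm (h : II2 p S Q Z R Γ) : R ≤ 𝒞(R) := by
  obtain ⟨g, hg, hb⟩ := SetLike.not_le_iff_exists.1 h.bad
  refine fun a ha => mem_cent.2 fun b hb' => commutatorElement_eq_one_iff_mul_comm.1 ?_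
  rw [← mem_bot, ← h.inf_cj hg hb]
  exact ⟨h.mem_Z.1 b hb' a ha, (h.conj hg).mem_Z.1 b hb' a ha⟩

theorem pow (h : II2 p S Q Z R Γ) {r : G} (hr : r ∈ R) : r ^ p = 1 := by
  obtain ⟨g, hg, hb⟩ := SetLike.not_le_iff_exists.1 h.bad
  rw [← mem_bot, ← h.inf_cj hg hb]
  exact ⟨h.mem_Z.2 r hr, (h.conj hg).mem_Z.2 r hr⟩

theorem comm_not_mem (h : II2 p S Q Z R Γ) (hg : g ∈ Γ) (hb : g ∉ Gd Q R) {w t : G}
    (hw : w ∈ cj g Z) (hw1 : w ≠ 1) (ht : t ∈ Q) (htn : t ∈ 𝒩(R)) (htR : t ∉ R) :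
    ⁅t, w⁆ ∉ cj g Q := by
  have htΓ : t ∈ Γ := h.NΓ ⟨h.QS ht, htn⟩
  have hk : g⁻¹ * t * g ∈ Γ := Γ.mul_mem (Γ.mul_mem (Γ.inv_mem hg) htΓ) hg
  have hkb : g⁻¹ * t * g ∉ Gd Q R := fun hh => htR (h.norm_cj_le hg hb (mem_inf.2 ⟨h.QS ht, by
    rw [← cj_normalizer, mem_cj]; exact h.Gd_le_normZ hh⟩))
  intro hc
  refine h.not_mem hk hkb (conj_mem_cj (mem_cj.1 hw))
    (fun e => hw1 (conj_eq_one_iff.1 (show g⁻¹ * w * g⁻¹⁻¹ = 1 by
      rw [inv_inv]; exact conj_eq_one_iff.1 e))) ?_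
  have := mem_cj.1 (mul_mem hc ((h.xs.cj g).le hw))
  convert this using 1
  simp only [commutatorElement_def]; group

theorem exists_E (h : II2 p S Q Z R Γ) : ∃ (E : Type u) (_ : AddCommGroup E) (_ : Module (ZMod p) E)
    (_ : Finite E), Nonempty (Sec p R ⊥ E) :=
  exists_sec (by rw [norm_bot]; exact le_top)
    (fun a ha b hb => mem_bot.2 (commutatorElement_eq_one_iff_mul_comm.2 (mem_cent.1 (h.comm hb) a ha)))
    fun a ha => mem_bot.2 (h.pow ha)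

theorem lt_relIndex (h : II2 p S Q Z R Γ) : p < R.relIndex Q := by
  have := h.xs.lt_relIndex (A := R ⊓ Q) inf_le_right
    (inf_le_left.trans (h.comm.trans (cent_le_cent inf_le_left)))
  rwa [inf_relIndex_right] at this

theorem mem_norm_of_comm (h : II2 p S Q Z R Γ) (hg : g ∈ Γ) (hb : g ∉ Gd Q R) {w t : G}
    (hw : w ∈ cj g Z) (hw1 : w ≠ 1) (ht : t ∈ Q) (hc : ⁅w, t⁆ ∈ R) : t ∈ 𝒩(R) := by
  refine mem_normalizer_of_cj_le ?_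
  conv_lhs => rw [← h.sup_eq_R hg hb hw hw1]
  rw [cj_sup, cj_zpowers, sup_le_iff, zpowers_le, cj_le_iff]
  refine ⟨fun u hu => ?_, ?_⟩
  · have := R.mul_mem (h.Z_le (h.xs.comm t ht u hu.2)) hu.1
    simpa [commutatorElement_def] using this
  · have := R.mul_mem (R.inv_mem hc) (h.cj_le_cent hg hw).1
    simpa [commutatorElement_def, mul_assoc] using this

theorem dich_aux (h : II2 p S Q Z R Γ) (hg : g ∈ Γ) (hb : g ∉ Gd Q R) {w : G} (hw : w ∈ cj g Z)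
    (hw1 : w ≠ 1) :
    (Q ≤ 𝒩(R) ∧ Q ⊓ 𝒞(R ⊓ Q) ≤ R ∧ ∀ t ∈ Q, ⁅t, w⁆ ^ 2 * ⁅t, ⁅t, w⁆⁆⁻¹ ∈ cj g Q) ∨
    (R.relIndex (Q ⊓ 𝒩(R)) = p ∧ Q ⊓ 𝒩(R) ≤ 𝒞(R ⊓ Q) ∧
      ∀ t ∈ Q ⊓ 𝒩(R), t ∉ R → ⁅t, w⁆ ∈ Z → R ⊓ Q = Z) := by
  obtain ⟨z, hz, hz1⟩ := (bot_or_exists_ne_one _).resolve_left h.xs.ne_bot
  obtain ⟨V, _, _, _, s, rfl⟩ := h.xs.exists_sp h.odd hz hz1
  obtain ⟨E, _, _, _, ⟨e⟩⟩ := h.exists_E
  have h' := h.conj hg
  have hwR := (h.cj_le_cent hg hw).1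
  have hwS := h.RS hwR
  have hzR := h.Z_le hz
  have hwQ : w ∈ 𝒩(Q) := h.S_le_normQ hwS
  have hbot : ∀ t : G, t ∈ 𝒩((⊥ : Subgroup G)) := fun t => by rw [norm_bot]; trivial
  obtain ⟨γ, hγz, hγ⟩ := e.exists_functional (U := cj g Q) bot_le (h'.RS.trans h'.S_le_normQ)
    h'.relIndex_R hzR (h.not_mem' hg hb hz hz1)
  have hcR : ∀ t ∈ Q ⊓ 𝒩(R), ⁅t, w⁆ ∈ R := fun t ht =>
    R.mul_mem (H6.conj_mem_of_mem_normalizer ht.2 hwR) (R.inv_mem hwR)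
  have hcQ : ∀ t ∈ Q, ⁅t, w⁆ ∈ Q := fun t ht => h.comm_mem_Q (h.QS ht) hwS
  have hσ : ∀ t ∈ Q ⊓ 𝒩(R), ∀ u ∈ R ⊓ Q,
      e.ρ t (e.π u) = e.π u + s.B (s.π t) (s.π u) • e.π s.z := fun t ht u hu => by
    have := e.π_comm ht.2 (hbot t) hu.1
    rw [s.comm t ht.1 u hu.2, e.π_pw hzR] at this
    rw [this]; abel
  have hσw : ∀ t ∈ Q ⊓ 𝒩(R), e.ρ t (e.π w) = e.π w + e.π ⁅t, w⁆ := fun t ht => by
    rw [e.π_comm ht.2 (hbot t) hwR]; abel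
  have hbm : ∀ a ∈ Q ⊓ 𝒩(R), ∀ t ∈ Q ⊓ 𝒩(R), γ (e.π ⁅a * t, w⁆) =
      γ (e.π ⁅a, w⁆) + γ (e.π ⁅t, w⁆) + s.B (s.π a) (s.π ⁅t, w⁆) := fun a ha t ht => by
    rw [e.π_comm (mul_mem ha.2 ht.2) (hbot _) hwR, e.ρ_mul ha.2 (hbot _) ht.2 (hbot _),
      Module.End.mul_apply, hσw t ht, map_add, hσw a ha, hσ a ha _ ⟨hcR t ht, hcQ t ht.1⟩]
    simp only [map_sub, map_add, map_smul, hγz, smul_eq_mul]
    ring
  have hK : ∀ t ∈ Q ⊓ 𝒩(R), (γ (e.π ⁅t, w⁆) = 0 ↔ t ∈ R) := fun t ht => by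
    rw [hγ _ (hcR t ht)]
    refine ⟨fun hh => by_contra fun hR => h.comm_not_mem hg hb hw hw1 ht.1 ht.2 hR hh, fun hh => ?_⟩
    rw [commutatorElement_eq_one_iff_mul_comm.2 (mem_cent.1 (h.comm hwR) t hh)]
    exact one_mem _
  have hiso := s.B_ρ_of_cent hwQ (h.S_le_centZ hwS)
  have hfix : ∀ u ∈ R ⊓ Q, s.ρ w (s.π u) = s.π u := fun u hu => by
    rw [s.ρπ hwQ hu.2, ← mem_cent.1 (h.comm hwR) u hu.1, mul_inv_cancel_right]
  have hneg : ∀ t ∈ Q, s.π ⁅t, w⁆ = -(s.ρ w (s.π t) - s.π t) := fun t ht => by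
    rw [← s.πcomm hwQ ht, ← s.π_inv (h.comm_mem_Q hwS (h.QS ht)), commutatorElement_inv]
  rcases dichotomy h.odd (H := Q ⊓ 𝒩(R)) (K := R) (b := fun t => γ (e.π ⁅t, w⁆))
    (κ := fun a t => s.B (s.π a) (s.π ⁅t, w⁆)) hbm
    (fun a ha a' ha' t ht => by rw [s.π_mul _ ha.1 _ ha'.1, map_add, LinearMap.add_apply])
    (fun a ha t ht => by
      have e1 := hbm a ha t ht
      have e2 := hbm t ht a ha
      have e3 : ⁅a * t, w⁆ = ⁅t * a, w⁆ := by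
        have := mem_cent.1 (h.comm (H6.conj_mem_of_mem_normalizer (mul_mem ht.2 ha.2) hwR)) _
          (h.Z_le (h.xs.comm a ha.1 t ht.1))
        calc ⁅a * t, w⁆ = ⁅a, t⁆ * (t * a * w * (t * a)⁻¹) * ⁅a, t⁆⁻¹ * w⁻¹ := by
              simp only [commutatorElement_def]; group
          _ = ⁅t * a, w⁆ := by rw [this]; simp only [commutatorElement_def]; group
      rw [e3, e2] at e1
      linear_combination -e1) hK
    (fun t ht n hn hR => H9.mem_of_zpow_mem_of_not_dvd (k := 1) (i := n)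
      (by rw [pow_one]; exact h.Z_le (h.xs.pow_mem ht.1)) (by exact_mod_cast hn)
      (by rwa [zpow_natCast])) with hA | hB
  · left
    have h1 : Q ⊓ 𝒞(R ⊓ Q) ≤ R := by
      by_contra hcon
      obtain ⟨t, ht, htR, htn, -⟩ := H9.exists_mem_normalizer_of_not_le h.hS (inf_le_left.trans h.QS)
        h.RS (H1.le_normalizer_inf (h.RS.trans h.S_le_normQ) (H1.le_normalizer_centralizer
          (H1.le_normalizer_inf le_normalizer (h.RS.trans h.S_le_normQ)))) hcon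
      have h2 := hA t ⟨ht.1, htn⟩
      have h3 := (s.commute_iff ht.1 (hcQ t ht.1)).1
        (mem_cent.1 ht.2 _ ⟨hcR t ⟨ht.1, htn⟩, hcQ t ht.1⟩).symm
      simp only [h3] at h2
      exact htR ((hK t ⟨ht.1, htn⟩).1 ((mul_eq_zero.1 h2.symm).resolve_left (two_ne_zero' h.odd)))
    have h2 : Q ≤ 𝒩(R) := fun t ht => by
      have hc := h.comm_mem_Q hwS (h.QS ht)
      refine h.mem_norm_of_comm hg hb hw hw1 ht (h1 ⟨hc, mem_cent.2 fun u hu => ?_⟩)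
      refine ((s.commute_iff hu.2 hc).2 ?_).eq
      rw [s.πcomm hwQ ht, map_sub, ← hiso (s.π u) (s.π t), hfix u hu, sub_self]
    refine ⟨h2, h1, fun t ht => ?_⟩
    have h3 := hcR t ⟨ht, h2 ht⟩
    have h4 : ⁅t, ⁅t, w⁆⁆ ∈ R := h.Z_le (h.xs.comm t ht _ (hcQ t ht))
    rw [← hγ _ (R.mul_mem (R.pow_mem h3 2) (R.inv_mem h4)), e.π_mul _ (R.pow_mem h3 2) _ (R.inv_mem h4),
      e.π_inv h4, e.π_pow h3, s.comm t ht _ (hcQ t ht), e.π_pw hzR]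
    have := hA t ⟨ht, h2 ht⟩
    simp only [map_add, map_neg, map_smul, hγz, smul_eq_mul] at this ⊢
    push_cast
    linear_combination -this
  · right
    have hbm' : ∀ a ∈ Q ⊓ 𝒩(R), ∀ t ∈ Q ⊓ 𝒩(R), γ (e.π ⁅a * t, w⁆) =
        γ (e.π ⁅a, w⁆) + γ (e.π ⁅t, w⁆) := fun a ha t ht => by
      have := hB a ha t ht
      rw [hbm a ha t ht, this, add_zero]
    have hpw : ∀ t ∈ Q ⊓ 𝒩(R), ∀ n : ℕ, γ (e.π ⁅t ^ n, w⁆) = n * γ (e.π ⁅t, w⁆) := fun t ht n => by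
      induction n with
      | zero => simp [e.π_one]
      | succ n ih => rw [pow_succ, hbm' _ (pow_mem ht n) t ht, ih]; push_cast; ring
    have hgen : ∀ t ∈ Q ⊓ 𝒩(R), t ∉ R → ∀ q ∈ Q ⊓ 𝒩(R), ∃ c : ZMod p, q * pw t c ∈ R :=
      fun t ht htR q hq => by
        have h0 : γ (e.π ⁅t, w⁆) ≠ 0 := fun hh => htR ((hK t ht).1 hh)
        refine ⟨-(γ (e.π ⁅q, w⁆) / γ (e.π ⁅t, w⁆)), (hK _ (mul_mem hq (pw_mem ht _))).1 ?_⟩
        rw [hbm' q hq _ (pw_mem ht _), pw, hpw t ht, ZMod.natCast_zmod_val]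
        field_simp
        ring
    have hsup : ∀ t ∈ Q ⊓ 𝒩(R), t ∉ R → Q ⊓ 𝒩(R) = R ⊓ Q ⊔ zpowers t := fun t ht htR => by
      refine le_antisymm (fun q hq => ?_) (sup_le (le_inf inf_le_right (inf_le_left.trans le_normalizer))
        (zpowers_le.2 ht))
      obtain ⟨c, hc⟩ := hgen t ht htR q hq
      have := mul_mem (mem_sup_left (S := R ⊓ Q) (T := zpowers t) ⟨hc, mul_mem hq.1 (pw_mem ht.1 c)⟩)
        (mem_sup_right (inv_mem (pw_mem (mem_zpowers t) c)))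
      simpa using this
    obtain ⟨t0, ht0, ht0n, ht0R⟩ := h.exists_N0
    have hidx : R.relIndex (Q ⊓ 𝒩(R)) = p := by
      rw [← inf_relIndex_right, ← inf_assoc, inf_eq_left.2 (inf_le_left.trans le_normalizer),
        hsup t0 ⟨ht0, ht0n⟩ ht0R]
      exact H9.relIndex_sup_zpowers (H1.le_normalizer_inf (A := zpowers t0) (zpowers_le.2 ht0n)
        (zpowers_le.2 (le_normalizer ht0)) (mem_zpowers t0)) (fun hh => ht0R hh.1)
        ⟨h.Z_le (h.xs.pow_mem ht0), Q.pow_mem ht0 _⟩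
    have hZ0 : Z ≤ R ⊓ Q := le_inf h.Z_le h.xs.le
    have key : ∀ t ∈ Q ⊓ 𝒩(R), t ∉ R → (∀ u ∈ s.sub (R ⊓ Q), s.B (s.π t) u = 0) ∧
        (s.ρ w (s.π t) = s.π t → s.sub (R ⊓ Q) = ⊥) := fun t ht htR => by
      refine lemB s.skew s.nondeg hiso (isNilpotent_sub_one (k := 1) ?_) (fun u hu u' hu' => ?_)
        (fun u hu => ?_) (fun hh => htR ((s.π_mem_sub inf_le_right hZ0 ht.1).1 hh).1) (fun v => ?_)
        ?_ ?_
      · rw [← s.ρ_pow hwQ (s.normZ hwQ), pow_one, h'.xs.pow_eq_one hw, s.ρ_one]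
      · obtain ⟨a, ha, rfl⟩ := (s.mem_sub inf_le_right).1 hu
        obtain ⟨a', ha', rfl⟩ := (s.mem_sub inf_le_right).1 hu'
        exact (s.commute_iff ha.2 ha'.2).1 (mem_cent.1 (h.comm ha'.1) a ha.1)
      · obtain ⟨a, ha, rfl⟩ := (s.mem_sub inf_le_right).1 hu
        exact hfix a ha
      · obtain ⟨q, hq, rfl⟩ := s.surj v
        rw [← s.πcomm hwQ hq, s.π_mem_sub inf_le_right hZ0 (h.comm_mem_Q hwS (h.QS hq))]
        constructor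
        · intro hc
          obtain ⟨c, hc'⟩ := hgen t ht htR q ⟨hq, h.mem_norm_of_comm hg hb hw hw1 hq hc.1⟩
          refine ⟨-c, ?_⟩
          rw [neg_smul, sub_neg_eq_add, ← s.π_pw ht.1, ← s.π_mul _ hq _ (pw_mem ht.1 c),
            s.π_mem_sub inf_le_right hZ0 (mul_mem hq (pw_mem ht.1 c))]
          exact ⟨hc', mul_mem hq (pw_mem ht.1 c)⟩
        · rintro ⟨c, hc⟩
          rw [sub_eq_add_neg, ← neg_smul, ← s.π_pw ht.1, ← s.π_mul _ hq _ (pw_mem ht.1 _),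
            s.π_mem_sub inf_le_right hZ0 (mul_mem hq (pw_mem ht.1 _))] at hc
          have hqn : q ∈ 𝒩(R) := by
            simpa using mul_mem (le_normalizer hc.1) (inv_mem (pw_mem ht.2 (-c)))
          refine ⟨?_, h.comm_mem_Q hwS (h.QS hq)⟩
          rw [← commutatorElement_inv]
          exact R.inv_mem (hcR q ⟨hq, hqn⟩)
      · have := hB t ht t ht
        simp only [hneg t ht.1, map_neg, neg_eq_zero] at this
        exact this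
      · by_contra hcon
        push Not at hcon
        have h2 : Q ≤ 𝒩(R) := fun q hq => h.mem_norm_of_comm hg hb hw hw1 hq (by
          have := hcon (s.π q)
          rw [← s.πcomm hwQ hq, s.π_mem_sub inf_le_right hZ0 (h.comm_mem_Q hwS (h.QS hq))] at this
          exact this.1)
        rw [inf_eq_left.2 h2] at hidx
        exact absurd h.lt_relIndex (by omega)
    refine ⟨hidx, ?_, fun t ht htR hc => le_antisymm (fun u hu => ?_) hZ0⟩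
    · rw [hsup t0 ⟨ht0, ht0n⟩ ht0R]
      refine sup_le (inf_le_left.trans (h.comm.trans (cent_le_cent inf_le_left)))
        (zpowers_le.2 (mem_cent.2 fun u hu => ?_))
      exact ((s.commute_iff ht0 hu.2).2 ((key t0 ⟨ht0, ht0n⟩ ht0R).1 _
        ((s.mem_sub inf_le_right).2 ⟨u, hu, rfl⟩))).symm.eq
    · have h1 := (key t ht htR).2 (by
        have := (s.π_eq_zero _ (hcQ t ht.1)).2 hc
        rwa [hneg t ht.1, neg_eq_zero, sub_eq_zero] at this)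
      rw [← s.π_eq_zero u hu.2, ← Submodule.mem_bot (ZMod p), ← h1]
      exact (s.mem_sub inf_le_right).2 ⟨u, hu, rfl⟩

/-- (A): `κ (t, t) = 2 b (t)`; (B): `κ = 0` and `|N_Q(R) : R ∩ Q| = p`. -/
theorem dich (h : II2 p S Q Z R Γ) (hg : g ∈ Γ) (hb : g ∉ Gd Q R) :
    (Q ≤ 𝒩(R) ∧ Q ⊓ 𝒞(R ⊓ Q) ≤ R ∧
      ∀ t ∈ Q, ∀ w ∈ cj g Z, ⁅t, w⁆ ^ 2 * ⁅t, ⁅t, w⁆⁆⁻¹ ∈ cj g Q) ∨
    (R.relIndex (Q ⊓ 𝒩(R)) = p ∧ Q ⊓ 𝒩(R) ≤ 𝒞(R ⊓ Q) ∧
      ∀ t ∈ Q ⊓ 𝒩(R), t ∉ R → ∀ w ∈ cj g Z, w ≠ 1 → ⁅t, w⁆ ∈ Z → R ⊓ Q = Z) := by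
  obtain ⟨w0, hw0, hw01⟩ := h.exists_w g
  by_cases hB : R.relIndex (Q ⊓ 𝒩(R)) = p
  · have key : ∀ w ∈ cj g Z, w ≠ 1 → _ := fun w hw hw1 => (h.dich_aux hg hb hw hw1).resolve_left
      fun hA => by
        rw [inf_eq_left.2 hA.1] at hB
        exact absurd h.lt_relIndex (by omega)
    exact Or.inr ⟨hB, (key w0 hw0 hw01).2.1, fun t ht htR w hw hw1 => (key w hw hw1).2.2 t ht htR⟩
  · have key : ∀ w ∈ cj g Z, w ≠ 1 → _ := fun w hw hw1 => (h.dich_aux hg hb hw hw1).resolve_right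
      fun hA => hB hA.1
    refine Or.inl ⟨(key w0 hw0 hw01).1, (key w0 hw0 hw01).2.1, fun t ht w hw => ?_⟩
    by_cases hw1 : w = 1
    · simp [hw1]
    · exact (key w hw hw1).2.2 t ht

theorem relIndex_conj (h : II2 p S Q Z R Γ) (hg : g ∈ Γ) :
    R.relIndex (cj g Q ⊓ 𝒩(R)) = R.relIndex (Q ⊓ 𝒩(R)) := by
  have hR : cj g R = R := cj_eq_self_iff.2 (h.ΓN hg)
  rw [← relIndex_cj g R (Q ⊓ 𝒩(R)), cj_inf, cj_normalizer, hR]

theorem dichA (h : II2 p S Q Z R Γ) (hA : R.relIndex (Q ⊓ 𝒩(R)) ≠ p) (hg : g ∈ Γ)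
    (hb : g ∉ Gd Q R) : Q ≤ 𝒩(R) ∧ Q ⊓ 𝒞(R ⊓ Q) ≤ R ∧
      ∀ t ∈ Q, ∀ w ∈ cj g Z, ⁅t, w⁆ ^ 2 * ⁅t, ⁅t, w⁆⁆⁻¹ ∈ cj g Q :=
  (h.dich hg hb).resolve_right fun hB => hA hB.1

theorem dichB (h : II2 p S Q Z R Γ) (hB : R.relIndex (Q ⊓ 𝒩(R)) = p) (hg : g ∈ Γ)
    (hb : g ∉ Gd Q R) : Q ⊓ 𝒩(R) ≤ 𝒞(R ⊓ Q) ∧
      ∀ t ∈ Q ⊓ 𝒩(R), t ∉ R → ∀ w ∈ cj g Z, w ≠ 1 → ⁅t, w⁆ ∈ Z → R ⊓ Q = Z :=
  ((h.dich hg hb).resolve_left fun hA => by
    rw [inf_eq_left.2 hA.1] at hB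
    exact absurd h.lt_relIndex (by omega)).2

/-- Case (B) is the pearl. -/
theorem pearl_of (h : II2 p S Q Z R Γ) (hB : R.relIndex (Q ⊓ 𝒩(R)) = p) : R ⊓ Q = Z := by
  obtain ⟨g, hg, hb⟩ := SetLike.not_le_iff_exists.1 h.bad
  obtain ⟨w, hw, hw1⟩ := h.exists_w g
  obtain ⟨z, hz, hz1⟩ := (bot_or_exists_ne_one _).resolve_left h.xs.ne_bot
  have h' := h.conj hg
  obtain ⟨hc, hB1⟩ := h.dichB hB hg hb
  obtain ⟨hc', -⟩ := h'.dichB ((h.relIndex_conj hg).trans hB) (Γ.inv_mem hg) (h.inv_not_mem_cj hg hb)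
  obtain ⟨t, ht, htn, htR⟩ := h.exists_N0
  obtain ⟨t', ht', htn', htR'⟩ := h'.exists_N0
  refine hB1 t ⟨ht, htn⟩ htR w hw hw1 ?_
  by_contra hcon
  obtain ⟨E, _, _, _, ⟨e⟩⟩ := h.exists_E
  have hbot : ∀ t : G, t ∈ 𝒩((⊥ : Subgroup G)) := fun t => by rw [norm_bot]; trivial
  have hwR := (h.cj_le_cent hg hw).1
  have hzR := h.Z_le hz
  obtain ⟨γ, hγz, hγ⟩ := e.exists_functional (U := cj g Q) bot_le (h'.RS.trans h'.S_le_normQ)
    h'.relIndex_R hzR (h.not_mem' hg hb hz hz1)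
  obtain ⟨α, hαw, hα⟩ := e.exists_functional (U := Q) bot_le (h.RS.trans h.S_le_normQ)
    h.relIndex_R hwR (h.not_mem hg hb hw hw1)
  have hαz : α (e.π z) = 0 := (hα z hzR).2 (h.xs.le hz)
  have hγw : γ (e.π w) = 0 := (hγ w hwR).2 (h'.xs.le hw)
  have hfix : ∀ v, α v = 0 → e.ρ t v = v := fun v hv => by
    obtain ⟨r, hr, rfl⟩ := e.surj v
    rw [e.ρ_π t htn (hbot t) r hr, ← mem_cent.1 (hc ⟨ht, htn⟩) r ⟨hr, (hα r hr).1 hv⟩,
      mul_inv_cancel_right]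
  have hfix' : ∀ v, γ v = 0 → e.ρ t' v = v := fun v hv => by
    obtain ⟨r, hr, rfl⟩ := e.surj v
    rw [e.ρ_π t' htn' (hbot t') r hr, ← mem_cent.1 (hc' ⟨ht', htn'⟩) r ⟨hr, (hγ r hr).1 hv⟩,
      mul_inv_cancel_right]
  have hcR : ⁅t, w⁆ ∈ R := R.mul_mem (H6.conj_mem_of_mem_normalizer htn hwR) (R.inv_mem hwR)
  have hcR' : ⁅t', z⁆ ∈ R := R.mul_mem (H6.conj_mem_of_mem_normalizer htn' hzR) (R.inv_mem hzR)
  have hαc : α (e.π ⁅t, w⁆) = 0 := (hα _ hcR).2 (h.comm_mem_Q (h.QS ht) (h.RS hwR))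
  have hγc' : γ (e.π ⁅t', z⁆) = 0 := (hγ _ hcR').2 (h'.comm_mem_Q (h'.QS ht') (h'.RS hzR))
  have hb0 : γ (e.π ⁅t, w⁆) ≠ 0 := fun hh =>
    h.comm_not_mem hg hb hw hw1 ht htn htR ((hγ _ hcR).1 hh)
  have hb0' : α (e.π ⁅t', z⁆) ≠ 0 := fun hh =>
    h'.comm_not_mem (Γ.inv_mem hg) (h.inv_not_mem_cj hg hb) (by rwa [cj_inv_cj]) hz1 ht' htn' htR'
      (by rw [cj_inv_cj]; exact (hα _ hcR').1 hh)
  have hall : ∀ v, e.ρ t v = v + α v • e.π ⁅t, w⁆ := fun v => by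
    have := hfix (v - α v • e.π w) (by simp [hαw])
    rw [map_sub, map_smul] at this
    rw [e.π_comm htn (hbot t) hwR]
    linear_combination (norm := module) this
  have hall' : ∀ v, e.ρ t' v = v + γ v • e.π ⁅t', z⁆ := fun v => by
    have := hfix' (v - γ v • e.π z) (by simp [hγz])
    rw [map_sub, map_smul] at this
    rw [e.π_comm htn' (hbot t') hzR]
    linear_combination (norm := module) this
  have hpow : ∀ (n : ℕ) v, e.ρ (t ^ n) v = v + ((n : ZMod p) * α v) • e.π ⁅t, w⁆ := fun n v => by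
    induction n with
    | zero => simp [e.ρ_one]
    | succ n ih =>
      rw [pow_succ', e.ρ_mul htn (hbot _) (pow_mem htn n) (hbot _), Module.End.mul_apply, ih, hall]
      simp only [map_add, map_smul, hαc, smul_zero, add_zero]
      push_cast
      module
  have hpow' : ∀ (n : ℕ) v, e.ρ (t' ^ n) v = v + ((n : ZMod p) * γ v) • e.π ⁅t', z⁆ := fun n v => by
    induction n with
    | zero => simp [e.ρ_one]
    | succ n ih =>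
      rw [pow_succ', e.ρ_mul htn' (hbot _) (pow_mem htn' n) (hbot _), Module.End.mul_apply, ih, hall']
      simp only [map_add, map_smul, hγc', smul_zero, add_zero]
      push_cast
      module
  set b := γ (e.π ⁅t, w⁆) with hbdef
  set b' := α (e.π ⁅t', z⁆) with hbdef'
  have h2 := two_ne_zero' h.odd
  set k := pw t' (-2⁻¹ : ZMod p) * (pw t (b * b')⁻¹ * t') with hk
  have htΓ : t ∈ Γ := h.NΓ ⟨h.QS ht, htn⟩
  have htΓ' : t' ∈ Γ := h'.NΓ ⟨h'.QS ht', htn'⟩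
  have hkΓ : k ∈ Γ := mul_mem (pw_mem htΓ' _) (mul_mem (pw_mem htΓ _) htΓ')
  have hkz : e.π (k * z * k⁻¹) = e.π z + b⁻¹ • e.π ⁅t, w⁆ := by
    rw [← e.ρ_π k (h.ΓN hkΓ) (hbot _) z hzR, hk,
      e.ρ_mul (pw_mem htn' _) (hbot _) (mul_mem (pw_mem htn _) htn') (hbot _),
      e.ρ_mul (pw_mem htn _) (hbot _) htn' (hbot _), Module.End.mul_apply, Module.End.mul_apply,
      pw, pw, hpow', hpow, hall', ZMod.natCast_zmod_val, ZMod.natCast_zmod_val]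
    simp only [map_add, map_smul, hγz, hαz, hγc', ← hbdef, ← hbdef', smul_eq_mul]
    match_scalars
    · ring
    · field_simp; ring
    · field_simp; ring
  have hkR : k * z * k⁻¹ ∈ R := H6.conj_mem_of_mem_normalizer (h.ΓN hkΓ) hzR
  have hkb : k ∉ Gd Q R := fun hh => hcon (by
    have h3 := H6.conj_mem_of_mem_normalizer (h.Gd_le_normZ hh) hz
    rw [← e.π_mem_sub h.Z_le bot_le hkR, hkz] at h3
    rw [← e.π_mem_sub h.Z_le bot_le hcR]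
    have h4 := Submodule.smul_mem _ b (Submodule.sub_mem _ h3 ((e.π_mem_sub h.Z_le bot_le hzR).2 hz))
    simpa [smul_smul, mul_inv_cancel₀ hb0] using h4)
  refine h.not_mem hkΓ hkb (conj_mem_cj hz) (by simpa using hz1) ((hα _ hkR).1 ?_)
  rw [hkz]
  simp [hαz, hαc]

end II2

end Cfsg.Agent.EX
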