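import Cfsg.Agent.Lib.EX.Loc

/-!
# S5177: linear dictionaries for elementary abelian sections and for extraspecial groups
-/

set_option autoImplicit false
set_option linter.unusedSectionVars false
set_option linter.unusedVariables false

namespace Cfsg.Agent.EX

open Subgroup Cfsg.Agent.H6 Cfsg.Agent.FT
open scoped commutatorElement

universe u

variable {G : Type u} [Group G] {p : ℕ} [hp : Fact p.Prime]

/-- `z ^ t` for `t ∈ ZMod p`. -/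
def pw (z : G) (t : ZMod p) : G := z ^ t.val

section pw
variable {z : G}

theorem pw_natCast (hz : z ^ p = 1) (n : ℕ) : pw z (n : ZMod p) = z ^ n := by
  rw [pw, ZMod.val_natCast, pow_eq_pow_mod n hz]

theorem pw_intCast (hz : z ^ p = 1) (n : ℤ) : pw z (n : ZMod p) = z ^ n := by
  obtain ⟨m, hm⟩ := ZMod.natCast_zmod_surjective (n : ZMod p)
  rw [← hm, pw_natCast hz, ← zpow_natCast, zpow_eq_zpow_iff_modEq]
  have h1 : (m : ℤ) ≡ n [ZMOD p] := (ZMod.intCast_eq_intCast_iff _ _ _).1 (by simpa using hm)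
  exact h1.of_dvd (by exact_mod_cast orderOf_dvd_of_pow_eq_one hz)

theorem pw_zero : pw z (0 : ZMod p) = 1 := by
  simp [pw]

theorem pw_one : pw z (1 : ZMod p) = z := by
  simp [pw, ZMod.val_one]

theorem pw_add (hz : z ^ p = 1) (s t : ZMod p) : pw z (s + t) = pw z s * pw z t := by
  rw [pw, pw, pw, ← pow_add, ZMod.val_add, ← pow_eq_pow_mod _ hz]

theorem pw_neg (hz : z ^ p = 1) (s : ZMod p) : pw z (-s) = (pw z s)⁻¹ := by
  rw [eq_inv_iff_mul_eq_one, ← pw_add hz, neg_add_cancel, pw_zero]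

theorem pw_pw (hz : z ^ p = 1) (s t : ZMod p) : pw (pw z s) t = pw z (s * t) := by
  rw [pw, pw, pw, ← pow_mul, ZMod.val_mul, ← pow_eq_pow_mod _ hz]

theorem pw_pow (hz : z ^ p = 1) (s : ZMod p) (n : ℕ) : pw z s ^ n = pw z ((n : ZMod p) * s) := by
  rw [pw, ← pow_mul, ← pw_natCast hz]
  simp [mul_comm]

theorem pw_inj (hz : z ^ p = 1) (h1 : z ≠ 1) {s t : ZMod p} (h : pw z s = pw z t) : s = t := by
  have ho : orderOf z = p := orderOf_eq_prime hz h1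
  apply ZMod.val_injective p
  exact pow_injOn_Iio_orderOf (by rw [ho]; exact ZMod.val_lt s) (by rw [ho]; exact ZMod.val_lt t) h

theorem pw_eq_one_iff (hz : z ^ p = 1) (h1 : z ≠ 1) {s : ZMod p} : pw z s = 1 ↔ s = 0 := by
  exact ⟨fun h => pw_inj hz h1 (h.trans pw_zero.symm), fun h => h ▸ pw_zero⟩

theorem mem_zpowers_iff_pw (hz : z ^ p = 1) {y : G} : y ∈ zpowers z ↔ ∃ t : ZMod p, y = pw z t := by
  constructor
  · rintro ⟨n, rfl⟩
    exact ⟨n, (pw_intCast hz n).symm⟩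
  · rintro ⟨t, rfl⟩
    exact pow_mem (mem_zpowers z) _

theorem pw_mem {H : Subgroup G} (h : z ∈ H) (t : ZMod p) : pw z t ∈ H := H.pow_mem h _

theorem conj_pw (g : G) (t : ZMod p) : g * pw z t * g⁻¹ = pw (g * z * g⁻¹) t := by
  rw [pw, pw, conj_pow]

end pw

/-- A linear model `V` of the elementary abelian section `A / K`. -/
structure Sec (p : ℕ) (A K : Subgroup G) (V : Type u) [AddCommGroup V] [Module (ZMod p) V] where
  π : G → V
  ρ : G → Module.End (ZMod p) V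
  π_mul : ∀ a ∈ A, ∀ b ∈ A, π (a * b) = π a + π b
  π_eq_zero : ∀ a ∈ A, (π a = 0 ↔ a ∈ K)
  surj : ∀ v, ∃ a ∈ A, π a = v
  ρ_π : ∀ g ∈ 𝒩(A), g ∈ 𝒩(K) → ∀ a ∈ A, ρ g (π a) = π (g * a * g⁻¹)
  card : Nat.card V = K.relIndex A

theorem exists_sec [Finite G] {A K : Subgroup G} (hA : A ≤ 𝒩(K))
    (hc : ∀ a ∈ A, ∀ b ∈ A, ⁅a, b⁆ ∈ K) (hpow : ∀ a ∈ A, a ^ p ∈ K) :
    ∃ (V : Type u) (_ : AddCommGroup V) (_ : Module (ZMod p) V) (_ : Finite V),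
      Nonempty (Sec p A K V) := by
  classical
  have hn : (K.subgroupOf A).Normal := normal_subgroupOf_of_le_normalizer hA
  let W := A ⧸ K.subgroupOf A
  let _ : CommGroup W := { (inferInstance : Group W) with
    mul_comm := fun a b => by
      induction a using QuotientGroup.induction_on with | H a => ?_
      induction b using QuotientGroup.induction_on with | H b => ?_
      rw [← QuotientGroup.mk_mul, ← QuotientGroup.mk_mul, QuotientGroup.eq, mem_subgroupOf]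
      have := hc _ (A.inv_mem b.2) _ (A.inv_mem a.2)
      simpa [commutatorElement_def, mul_assoc] using this }
  let _ : Module (ZMod p) (Additive W) := AddCommGroup.zmodModule fun x => by
    induction x using Additive.rec with | ofMul x => ?_
    induction x using QuotientGroup.induction_on with | H a => ?_
    rw [← ofMul_pow, ← QuotientGroup.mk_pow, ofMul_eq_zero, QuotientGroup.eq_one_iff, mem_subgroupOf]
    exact hpow a a.2
  let π : G → Additive W := fun g => if h : g ∈ A then Additive.ofMul (QuotientGroup.mk ⟨g, h⟩) else 0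
  have π_mul : ∀ a ∈ A, ∀ b ∈ A, π (a * b) = π a + π b := fun a ha b hb => by
    simp only [π, dif_pos ha, dif_pos hb, dif_pos (A.mul_mem ha hb)]
    rfl
  have π0 : ∀ a ∈ A, (π a = 0 ↔ a ∈ K) := fun a ha => by
    simp only [π, dif_pos ha]
    rw [ofMul_eq_zero, QuotientGroup.eq_one_iff, mem_subgroupOf]
  have surj : ∀ v, ∃ a ∈ A, π a = v := fun v => by
    induction v using Additive.rec with | ofMul v => ?_
    induction v using QuotientGroup.induction_on with | H a => ?_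
    exact ⟨a, a.2, by simp only [π, dif_pos a.2]⟩
  choose σ hσ hσ' using surj
  have π_eq : ∀ a ∈ A, ∀ b ∈ A, (π a = π b ↔ a * b⁻¹ ∈ K) := fun a ha b hb => by
    rw [← π0 _ (A.mul_mem ha (A.inv_mem hb))]
    have := π_mul _ (A.mul_mem ha (A.inv_mem hb)) b hb
    rw [inv_mul_cancel_right] at this
    rw [this]
    simp
  have wd : ∀ g ∈ 𝒩(A), g ∈ 𝒩(K) → ∀ a ∈ A, π (g * σ (π a) * g⁻¹) = π (g * a * g⁻¹) :=
    fun g hg hg' a ha => by
      rw [π_eq _ (H6.conj_mem_of_mem_normalizer hg (hσ _)) _ (H6.conj_mem_of_mem_normalizer hg ha)]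
      have := H6.conj_mem_of_mem_normalizer hg' ((π_eq _ (hσ _) _ ha).1 (hσ' (π a)))
      convert this using 1
      group
  let ρ : G → Module.End (ZMod p) (Additive W) := fun g =>
    if h : g ∈ 𝒩(A) ∧ g ∈ 𝒩(K) then
      (AddMonoidHom.mk' (fun v => π (g * σ v * g⁻¹)) fun u v => by
        rw [← π_mul _ (H6.conj_mem_of_mem_normalizer h.1 (hσ _)) _
          (H6.conj_mem_of_mem_normalizer h.1 (hσ _))]
        conv_lhs => rw [← hσ' u, ← hσ' v, ← π_mul _ (hσ u) _ (hσ v),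
          wd g h.1 h.2 _ (A.mul_mem (hσ u) (hσ v))]
        congr 1
        group).toZModLinearMap p
    else LinearMap.id
  refine ⟨Additive W, inferInstance, inferInstance, inferInstance,
    ⟨⟨π, ρ, π_mul, π0, fun v => ⟨σ v, hσ v, hσ' v⟩, fun g hg hg' a ha => ?_, rfl⟩⟩⟩
  simp only [ρ, dif_pos (And.intro hg hg')]
  exact wd g hg hg' a ha

namespace Sec

variable {A K : Subgroup G} {V : Type u} [AddCommGroup V] [Module (ZMod p) V] (s : Sec p A K V)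
  {a b g h : G}

theorem π_one : s.π 1 = 0 := by
  have := s.π_mul 1 A.one_mem 1 A.one_mem
  rw [mul_one] at this
  simpa using this

theorem π_inv (ha : a ∈ A) : s.π a⁻¹ = -s.π a := by
  have := s.π_mul _ (A.inv_mem ha) a ha
  rw [inv_mul_cancel, s.π_one] at this
  exact eq_neg_of_add_eq_zero_left this.symm

theorem π_pow (ha : a ∈ A) (n : ℕ) : s.π (a ^ n) = (n : ZMod p) • s.π a := by
  induction n with
  | zero => simp [s.π_one]
  | succ n ih => rw [pow_succ, s.π_mul _ (A.pow_mem ha n) a ha, ih]; simp [add_smul]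

theorem π_zpow (ha : a ∈ A) (n : ℤ) : s.π (a ^ n) = (n : ZMod p) • s.π a := by
  cases n with
  | ofNat n => simp [s.π_pow ha]
  | negSucc n => rw [zpow_negSucc, s.π_inv (A.pow_mem ha _), s.π_pow ha, Int.negSucc_eq]; simp [add_smul, add_comm]

theorem π_pw (ha : a ∈ A) (t : ZMod p) : s.π (pw a t) = t • s.π a := by
  rw [pw, s.π_pow ha, ZMod.natCast_zmod_val]

theorem π_eq_iff (ha : a ∈ A) (hb : b ∈ A) : s.π a = s.π b ↔ a * b⁻¹ ∈ K := by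
  rw [← s.π_eq_zero _ (A.mul_mem ha (A.inv_mem hb)), s.π_mul _ ha _ (A.inv_mem hb), s.π_inv hb,
    ← sub_eq_add_neg, sub_eq_zero]

theorem ρ_mul (hg : g ∈ 𝒩(A)) (hg' : g ∈ 𝒩(K)) (hh : h ∈ 𝒩(A)) (hh' : h ∈ 𝒩(K)) :
    s.ρ (g * h) = s.ρ g * s.ρ h := by
  ext v
  obtain ⟨a, ha, rfl⟩ := s.surj v
  rw [Module.End.mul_apply, s.ρ_π _ (mul_mem hg hh) (mul_mem hg' hh') a ha, s.ρ_π _ hh hh' a ha,
    s.ρ_π _ hg hg' _ (H6.conj_mem_of_mem_normalizer hh ha)]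
  congr 1
  group

theorem ρ_one : s.ρ 1 = 1 := by
  ext v
  obtain ⟨a, ha, rfl⟩ := s.surj v
  rw [s.ρ_π _ (one_mem _) (one_mem _) a ha]
  simp

theorem ρ_pow (hg : g ∈ 𝒩(A)) (hg' : g ∈ 𝒩(K)) (n : ℕ) : s.ρ (g ^ n) = s.ρ g ^ n := by
  induction n with
  | zero => simp [s.ρ_one]
  | succ n ih => rw [pow_succ, s.ρ_mul (pow_mem hg n) (pow_mem hg' n) hg hg', ih, pow_succ]

theorem ρ_inv_apply (hg : g ∈ 𝒩(A)) (hg' : g ∈ 𝒩(K)) (v : V) : s.ρ g⁻¹ (s.ρ g v) = v := by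
  rw [← Module.End.mul_apply, ← s.ρ_mul (inv_mem hg) (inv_mem hg') hg hg', inv_mul_cancel, s.ρ_one,
    Module.End.one_apply]

theorem ρ_apply_inv (hg : g ∈ 𝒩(A)) (hg' : g ∈ 𝒩(K)) (v : V) : s.ρ g (s.ρ g⁻¹ v) = v := by
  rw [← Module.End.mul_apply, ← s.ρ_mul hg hg' (inv_mem hg) (inv_mem hg'), mul_inv_cancel, s.ρ_one,
    Module.End.one_apply]

theorem π_comm (hg : g ∈ 𝒩(A)) (hg' : g ∈ 𝒩(K)) (ha : a ∈ A) :
    s.π ⁅g, a⁆ = s.ρ g (s.π a) - s.π a := by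
  rw [commutatorElement_def, s.π_mul _ (H6.conj_mem_of_mem_normalizer hg ha) _ (A.inv_mem ha),
    s.π_inv ha, s.ρ_π g hg hg' a ha, sub_eq_add_neg]

theorem ρ_eq_one (hg : g ∈ 𝒩(A)) (hg' : g ∈ 𝒩(K)) (h : ∀ a ∈ A, ⁅g, a⁆ ∈ K) : s.ρ g = 1 := by
  ext v
  obtain ⟨a, ha, rfl⟩ := s.surj v
  have h1 := s.π_comm hg hg' ha
  have h2 : ⁅g, a⁆ ∈ A := A.mul_mem (H6.conj_mem_of_mem_normalizer hg ha) (A.inv_mem ha)
  rw [(s.π_eq_zero _ h2).2 (h a ha)] at h1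
  exact (sub_eq_zero.1 h1.symm)

theorem ρ_congr (hg : g ∈ 𝒩(A)) (hg' : g ∈ 𝒩(K)) (hh : h ∈ 𝒩(A)) (hh' : h ∈ 𝒩(K))
    (e : ∀ a ∈ A, g * a * g⁻¹ = h * a * h⁻¹) : s.ρ g = s.ρ h := by
  ext v
  obtain ⟨a, ha, rfl⟩ := s.surj v
  rw [s.ρ_π _ hg hg' a ha, s.ρ_π _ hh hh' a ha, e a ha]

/-- The image of a subgroup `U ≤ A`. -/
def sub (U : Subgroup G) : Submodule (ZMod p) V := Submodule.span (ZMod p) (s.π '' (U ⊓ A : Subgroup G))

theorem mem_sub {U : Subgroup G} (hU : U ≤ A) {v : V} : v ∈ s.sub U ↔ ∃ u ∈ U, s.π u = v := by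
  constructor
  · intro hv
    induction hv using Submodule.span_induction with
    | mem x hx =>
      obtain ⟨u, hu, rfl⟩ := hx
      exact ⟨u, hu.1, rfl⟩
    | zero => exact ⟨1, U.one_mem, s.π_one⟩
    | add x y _ _ hx hy =>
      obtain ⟨u, hu, rfl⟩ := hx
      obtain ⟨u', hu', rfl⟩ := hy
      exact ⟨u * u', U.mul_mem hu hu', s.π_mul _ (hU hu) _ (hU hu')⟩
    | smul c x _ hx =>
      obtain ⟨u, hu, rfl⟩ := hx
      exact ⟨pw u c, pw_mem hu c, s.π_pw (hU hu) c⟩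
  · rintro ⟨u, hu, rfl⟩
    exact Submodule.subset_span ⟨u, ⟨hu, hU hu⟩, rfl⟩

theorem π_mem_sub {U : Subgroup G} (hU : U ≤ A) (hK : K ≤ U) (ha : a ∈ A) :
    s.π a ∈ s.sub U ↔ a ∈ U := by
  rw [s.mem_sub hU]
  refine ⟨fun ⟨u, hu, e⟩ => ?_, fun h => ⟨a, h, rfl⟩⟩
  have := hK ((s.π_eq_iff ha (hU hu)).1 e.symm)
  simpa using U.mul_mem this hu

theorem card_sub [Finite G] {U : Subgroup G} (hU : U ≤ A) : Nat.card (s.sub U) = K.relIndex U := by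
  let f : U →* Multiplicative (s.sub U) := MonoidHom.mk'
    (fun u => Multiplicative.ofAdd ⟨s.π u, (s.mem_sub hU).2 ⟨u, u.2, rfl⟩⟩) fun a b => by
      rw [← ofAdd_add]
      congr 1
      exact Subtype.ext (s.π_mul _ (hU a.2) _ (hU b.2))
  have hf : Function.Surjective f := fun v => by
    obtain ⟨u, hu, e⟩ := (s.mem_sub hU).1 v.toAdd.2
    exact ⟨⟨u, hu⟩, Multiplicative.toAdd.injective (Subtype.ext e)⟩
  have hk : f.ker = K.subgroupOf U := by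
    ext u
    rw [MonoidHom.mem_ker, mem_subgroupOf, ← s.π_eq_zero _ (hU u.2)]
    exact ⟨fun h => congrArg (fun x => (x.toAdd : V)) h,
      fun h => Multiplicative.toAdd.injective (Subtype.ext h)⟩
  rw [relIndex, ← hk, index_ker, MonoidHom.range_eq_top.2 hf, card_top]
  rfl

/-- The preimage of a subspace. -/
def pre (W : Submodule (ZMod p) V) : Subgroup G where
  carrier := {a | a ∈ A ∧ s.π a ∈ W}
  one_mem' := ⟨A.one_mem, by rw [s.π_one]; exact W.zero_mem⟩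
  mul_mem' {a b} ha hb := ⟨A.mul_mem ha.1 hb.1, by
    rw [s.π_mul a ha.1 b hb.1]; exact W.add_mem ha.2 hb.2⟩
  inv_mem' {a} ha := ⟨A.inv_mem ha.1, by rw [s.π_inv ha.1]; exact W.neg_mem ha.2⟩

theorem mem_pre {W : Submodule (ZMod p) V} : a ∈ s.pre W ↔ a ∈ A ∧ s.π a ∈ W := Iff.rfl

/-- The coordinate along `a` for a subgroup `U` of index `p`. -/
theorem exists_functional {U : Subgroup G} (hK : K ≤ U) (hn : A ≤ 𝒩(U)) (hi : U.relIndex A = p)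
    (ha : a ∈ A) (haU : a ∉ U) :
    ∃ f : V →ₗ[ZMod p] ZMod p, f (s.π a) = 1 ∧ ∀ b ∈ A, (f (s.π b) = 0 ↔ b ∈ U) := by
  have h0 : ∀ b ∈ A, s.π b ∈ s.sub (U ⊓ A) → b ∈ U := fun b hb h => by
    obtain ⟨u, hu, e⟩ := (s.mem_sub inf_le_right).1 h
    simpa using U.mul_mem (hK ((s.π_eq_iff hb hu.2).1 e.symm)) hu.1
  obtain ⟨f, hf, hf'⟩ := Submodule.exists_dual_map_eq_bot_of_notMem (fun h => haU (h0 a ha h))
    inferInstance
  have h1 : ∀ b ∈ A, b ∈ U → f (s.π b) = 0 := fun b hb hU => by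
    have : f (s.π b) ∈ (s.sub (U ⊓ A)).map f := ⟨_, (s.mem_sub inf_le_right).2 ⟨b, ⟨hU, hb⟩, rfl⟩, rfl⟩
    rwa [hf', Submodule.mem_bot] at this
  refine ⟨(f (s.π a))⁻¹ • f, by simp [hf], fun b hb => ⟨fun h => ?_, fun h => by simp [h1 b hb h]⟩⟩
  have h2 : f (s.π b) = 0 := by simpa [hf] using h
  have h3 := H9.sup_zpowers_eq_of_relIndex_prime hp.out (K := U ⊓ A) (L := A)
    (by rwa [inf_relIndex_right]) inf_le_right ha fun h => haU h.1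
  rw [← h3] at hb
  obtain ⟨k, hk, i, rfl⟩ := (H9.mem_sup_zpowers (H1.le_normalizer_inf hn le_normalizer ha)).1 hb
  rw [s.π_mul _ hk.2 _ (A.zpow_mem ha i), map_add, h1 k hk.2 hk.1, s.π_zpow ha, map_smul, zero_add,
    smul_eq_mul] at h2
  refine U.mul_mem hk.1 (hK ((s.π_eq_zero _ (A.zpow_mem ha i)).1 ?_))
  rw [s.π_zpow ha, (mul_eq_zero.1 h2).resolve_right hf, zero_smul]

/-- Two opposite transvections generate the diagonal matrices of `SL₂(p)`. -/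
theorem sl2 {x x' : G} (hx : x ∈ 𝒩(A)) (hx1 : x ∈ 𝒩(K)) (hx' : x' ∈ 𝒩(A)) (hx1' : x' ∈ 𝒩(K))
    {v v' : V} {c c' : ZMod p} (hc : c ≠ 0) (hc' : c' ≠ 0) (h1 : s.ρ x v = v)
    (h2 : s.ρ x v' = v' + c • v) (h3 : s.ρ x' v' = v') (h4 : s.ρ x' v = v + c' • v')
    {l : ZMod p} (hl : l ≠ 0) :
    ∃ τ ∈ closure ({x, x'} : Set G), s.ρ τ v = l⁻¹ • v ∧ s.ρ τ v' = l • v' := by
  have hE : ∀ a : ZMod p, ∃ y ∈ closure ({x, x'} : Set G), y ∈ 𝒩(A) ∧ y ∈ 𝒩(K) ∧ s.ρ y v = v ∧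
      s.ρ y v' = v' + a • v := fun a => by
    have : ∀ n : ℕ, s.ρ (x ^ n) v = v ∧ s.ρ (x ^ n) v' = v' + ((n : ZMod p) * c) • v := fun n => by
      induction n with
      | zero => simp [s.ρ_one]
      | succ n ih =>
        rw [pow_succ, s.ρ_mul (pow_mem hx n) (pow_mem hx1 n) hx hx1, Module.End.mul_apply,
          Module.End.mul_apply, h1, h2, map_add, map_smul, ih.1, ih.2]
        refine ⟨rfl, ?_⟩
        push_cast
        module
    refine ⟨x ^ (a / c).val, pow_mem (Subgroup.subset_closure (by simp)) _, pow_mem hx _, pow_mem hx1 _,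
      (this _).1, ?_⟩
    rw [(this _).2, ZMod.natCast_zmod_val, div_mul_cancel₀ _ hc]
  have hF : ∀ a : ZMod p, ∃ y ∈ closure ({x, x'} : Set G), y ∈ 𝒩(A) ∧ y ∈ 𝒩(K) ∧ s.ρ y v' = v' ∧
      s.ρ y v = v + a • v' := fun a => by
    have : ∀ n : ℕ, s.ρ (x' ^ n) v' = v' ∧ s.ρ (x' ^ n) v = v + ((n : ZMod p) * c') • v' := fun n => by
      induction n with
      | zero => simp [s.ρ_one]
      | succ n ih =>
        rw [pow_succ, s.ρ_mul (pow_mem hx' n) (pow_mem hx1' n) hx' hx1', Module.End.mul_apply,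
          Module.End.mul_apply, h3, h4, map_add, map_smul, ih.1, ih.2]
        refine ⟨rfl, ?_⟩
        push_cast
        module
    refine ⟨x' ^ (a / c').val, pow_mem (Subgroup.subset_closure (by simp)) _, pow_mem hx' _,
      pow_mem hx1' _, (this _).1, ?_⟩
    rw [(this _).2, ZMod.natCast_zmod_val, div_mul_cancel₀ _ hc']
  have hN : ∀ a : ZMod p, a ≠ 0 → ∃ y ∈ closure ({x, x'} : Set G), y ∈ 𝒩(A) ∧ y ∈ 𝒩(K) ∧
      s.ρ y v = (-a⁻¹) • v' ∧ s.ρ y v' = a • v := fun a ha => by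
    obtain ⟨e, he, he1, he2, he3, he4⟩ := hE a
    obtain ⟨f, hf, hf1, hf2, hf3, hf4⟩ := hF (-a⁻¹)
    refine ⟨e * (f * e), mul_mem he (mul_mem hf he), mul_mem he1 (mul_mem hf1 he1),
      mul_mem he2 (mul_mem hf2 he2), ?_⟩
    rw [s.ρ_mul he1 he2 (mul_mem hf1 he1) (mul_mem hf2 he2), s.ρ_mul hf1 hf2 he1 he2]
    simp only [Module.End.mul_apply, he3, he4, hf3, hf4, map_add, map_smul]
    constructor
    · match_scalars <;> field_simp <;> ring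
    · match_scalars <;> field_simp <;> ring
  obtain ⟨n1, h1a, h1b, h1c, h1d, h1e⟩ := hN l⁻¹ (inv_ne_zero hl)
  obtain ⟨n2, h2a, h2b, h2c, h2d, h2e⟩ := hN (-1) (neg_ne_zero.2 one_ne_zero)
  refine ⟨n1 * n2, mul_mem h1a h2a, ?_⟩
  rw [s.ρ_mul h1b h1c h2b h2c]
  simp only [Module.End.mul_apply, h1d, h1e, h2d, h2e, map_smul]
  constructor
  · match_scalars; simp
  · match_scalars; simp

end Sec

/-- The symplectic space `Q / Z` of an extraspecial group. -/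
structure Sp (p : ℕ) [Fact p.Prime] (Q Z : Subgroup G) (V : Type u) [AddCommGroup V]
    [Module (ZMod p) V] extends Sec p Q Z V where
  z : G
  B : V →ₗ[ZMod p] V →ₗ[ZMod p] ZMod p
  μ : G → ZMod p
  /-- the power map -/
  ω : V →ₗ[ZMod p] ZMod p
  z_mem : z ∈ Z
  z_ne : z ≠ 1
  z_pow : z ^ p = 1
  mem_Z : ∀ y, y ∈ Z ↔ ∃ t : ZMod p, y = pw z t
  normZ : 𝒩(Q) ≤ 𝒩(Z)
  comm : ∀ a ∈ Q, ∀ b ∈ Q, ⁅a, b⁆ = pw z (B (π a) (π b))
  alt : ∀ v, B v v = 0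
  skew : ∀ u v, B u v = -B v u
  nondeg : ∀ v, (∀ u, B u v = 0) → v = 0
  μ_z : ∀ g ∈ 𝒩(Q), g * z * g⁻¹ = pw z (μ g)
  μ_ne : ∀ g ∈ 𝒩(Q), μ g ≠ 0
  B_ρ : ∀ g ∈ 𝒩(Q), ∀ u v, B (ρ g u) (ρ g v) = μ g * B u v
  pow : ∀ a ∈ Q, a ^ p = pw z (ω (π a))
  ω_ρ : ∀ g ∈ 𝒩(Q), ∀ v, ω (ρ g v) = μ g * ω v

theorem XS.exists_sp [Finite G] {Q Z : Subgroup G} (h : XS p Q Z) (hp2 : p ≠ 2) {z : G}
    (hz : z ∈ Z) (hz1 : z ≠ 1) :
    ∃ (V : Type u) (_ : AddCommGroup V) (_ : Module (ZMod p) V) (_ : Finite V) (s : Sp p Q Z V),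
      s.z = z := by
  classical
  have hZQ := h.le
  have hzp := h.pow_eq_one hz
  have hcen : ∀ y ∈ Z, ∀ a ∈ Q, Commute a y := fun y hy a ha => mem_cent.1 (h.le_cent hy) a ha
  obtain ⟨V, _, _, _, ⟨s⟩⟩ := exists_sec (p := p) (A := Q) (K := Z) (le_normalizer.trans h.norm_le)
    h.comm (fun a ha => h.pow_mem ha)
  have hZ : ∀ y, y ∈ Z ↔ ∃ t : ZMod p, y = pw z t := fun y => by
    rw [h.eq_zpowers hz hz1, mem_zpowers_iff_pw hzp]
  let lg : G → ZMod p := fun y => if hy : y ∈ Z then ((hZ y).1 hy).choose else 0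
  have hlg : ∀ y ∈ Z, pw z (lg y) = y := fun y hy => by
    simp only [lg, dif_pos hy]
    exact ((hZ y).1 hy).choose_spec.symm
  have lg_pw : ∀ t : ZMod p, lg (pw z t) = t := fun t => pw_inj hzp hz1 (hlg _ (pw_mem hz t))
  have lg_mul : ∀ y ∈ Z, ∀ y' ∈ Z, lg (y * y') = lg y + lg y' := fun y hy y' hy' => by
    apply pw_inj hzp hz1
    rw [pw_add hzp, hlg _ hy, hlg _ hy', hlg _ (Z.mul_mem hy hy')]
  choose σ hσ hσ' using s.surj
  have hσπ : ∀ a ∈ Q, ∃ y ∈ Z, σ (s.π a) = y * a := fun a ha =>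
    ⟨_, (s.π_eq_iff (hσ _) ha).1 (hσ' _), by group⟩
  have cl : ∀ a ∈ Q, ∀ a' ∈ Q, ∀ b ∈ Q, ⁅a * a', b⁆ = ⁅a, b⁆ * ⁅a', b⁆ := fun a ha a' ha' b hb => by
    rw [H9.commutator_mul_left_of_commute (hcen _ (h.comm _ ha' _ hb) a ha)]
    exact (hcen _ (h.comm _ ha _ hb) _ (hZQ (h.comm _ ha' _ hb))).eq
  have cr : ∀ a ∈ Q, ∀ b ∈ Q, ∀ b' ∈ Q, ⁅a, b * b'⁆ = ⁅a, b⁆ * ⁅a, b'⁆ := fun a ha b hb b' hb' =>
    H9.commutator_mul_right_of_commute (hcen _ (h.comm _ ha _ hb') b hb)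
  have wdl : ∀ a ∈ Q, ∀ b ∈ Q, ⁅σ (s.π a), b⁆ = ⁅a, b⁆ := fun a ha b hb => by
    obtain ⟨y, hy, e⟩ := hσπ a ha
    rw [e, cl _ (hZQ hy) _ ha _ hb, commutatorElement_eq_one_iff_commute.2 (hcen y hy b hb).symm,
      one_mul]
  have wdr : ∀ a ∈ Q, ∀ b ∈ Q, ⁅a, σ (s.π b)⁆ = ⁅a, b⁆ := fun a ha b hb => by
    obtain ⟨y, hy, e⟩ := hσπ b hb
    rw [e, cr _ ha _ (hZQ hy) _ hb, commutatorElement_eq_one_iff_commute.2 (hcen y hy a ha),
      one_mul]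
  have hsum : ∀ u v, u + v = s.π (σ u * σ v) := fun u v => by
    rw [s.π_mul _ (hσ u) _ (hσ v), hσ', hσ']
  let B1 : V → V →+ ZMod p := fun u => AddMonoidHom.mk' (fun v => lg ⁅σ u, σ v⁆) fun v v' => by
    rw [hsum, wdr _ (hσ u) _ (Q.mul_mem (hσ v) (hσ v')), cr _ (hσ u) _ (hσ v) _ (hσ v'),
      lg_mul _ (h.comm _ (hσ u) _ (hσ v)) _ (h.comm _ (hσ u) _ (hσ v'))]
  let B : V →ₗ[ZMod p] V →ₗ[ZMod p] ZMod p :=
    (AddMonoidHom.mk' (fun u => (B1 u).toZModLinearMap p) fun u u' => by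
      ext v
      change lg ⁅σ (u + u'), σ v⁆ = lg ⁅σ u, σ v⁆ + lg ⁅σ u', σ v⁆
      rw [hsum, wdl _ (Q.mul_mem (hσ u) (hσ u')) _ (hσ v), cl _ (hσ u) _ (hσ u') _ (hσ v),
        lg_mul _ (h.comm _ (hσ u) _ (hσ v)) _ (h.comm _ (hσ u') _ (hσ v))]).toZModLinearMap p
  have hB : ∀ a ∈ Q, ∀ b ∈ Q, ⁅a, b⁆ = pw z (B (s.π a) (s.π b)) := fun a ha b hb => by
    change _ = pw z (lg ⁅σ (s.π a), σ (s.π b)⁆)
    rw [wdl _ ha _ (hσ _), wdr _ ha _ hb, hlg _ (h.comm _ ha _ hb)]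
  have hodd : Odd p := hp.out.odd_of_ne_two hp2
  have mp : ∀ a ∈ Q, ∀ b ∈ Q, (a * b) ^ p = a ^ p * b ^ p := fun a ha b hb =>
    H9.mul_pow_of_odd hodd (hcen _ (h.comm _ hb _ ha) _ ha) (hcen _ (h.comm _ hb _ ha) _ hb)
      (h.pow_eq_one (h.comm _ hb _ ha))
  have wdp : ∀ a ∈ Q, σ (s.π a) ^ p = a ^ p := fun a ha => by
    obtain ⟨y, hy, e⟩ := hσπ a ha
    rw [e, mp _ (hZQ hy) _ ha, h.pow_eq_one hy, one_mul]
  let ω : V →ₗ[ZMod p] ZMod p := (AddMonoidHom.mk' (fun v => lg (σ v ^ p)) fun v v' => by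
    rw [hsum, wdp _ (Q.mul_mem (hσ v) (hσ v')), mp _ (hσ v) _ (hσ v'),
      lg_mul _ (h.pow_mem (hσ v)) _ (h.pow_mem (hσ v'))]).toZModLinearMap p
  have hω : ∀ a ∈ Q, a ^ p = pw z (ω (s.π a)) := fun a ha => by
    change _ = pw z (lg (σ (s.π a) ^ p))
    rw [wdp _ ha, hlg _ (h.pow_mem ha)]
  have hμ : ∀ g ∈ 𝒩(Q), g * z * g⁻¹ = pw z (lg (g * z * g⁻¹)) := fun g hg =>
    (hlg _ (H6.conj_mem_of_mem_normalizer (h.norm_le hg) hz)).symm
  have alt : ∀ v, B v v = 0 := fun v => by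
    rw [← hσ' v, ← pw_eq_one_iff hzp hz1, ← hB _ (hσ v) _ (hσ v), commutatorElement_self]
  refine ⟨V, _, _, inferInstance, ⟨s, z, B, fun g => lg (g * z * g⁻¹), ω, hz, hz1, hzp, hZ, h.norm_le,
    hB, alt, fun u v => ?_, fun v hv => ?_, hμ, fun g hg h0 => ?_, fun g hg u v => ?_, hω,
    fun g hg v => ?_⟩, rfl⟩
  · have := alt (u + v)
    simp only [map_add, LinearMap.add_apply, alt, zero_add, add_zero] at this
    exact eq_neg_of_add_eq_zero_right this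
  · rw [← hσ' v, s.π_eq_zero _ (hσ v), ← h.zc]
    refine ⟨hσ v, mem_cent.2 fun a ha => commutatorElement_eq_one_iff_mul_comm.1 ?_⟩
    rw [hB a ha _ (hσ v), hσ', hv, pw_zero]
  · have := hμ g hg
    rw [h0, pw_zero] at this
    exact hz1 (by simpa using this)
  · apply pw_inj hzp hz1
    rw [← hσ' u, ← hσ' v, s.ρ_π g hg (h.norm_le hg) _ (hσ u), s.ρ_π g hg (h.norm_le hg) _ (hσ v),
      ← hB _ (H6.conj_mem_of_mem_normalizer hg (hσ u)) _ (H6.conj_mem_of_mem_normalizer hg (hσ v)),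
      ← pw_pw hzp, ← hμ g hg, ← conj_pw, ← hB _ (hσ u) _ (hσ v)]
    simp only [commutatorElement_def]; group
  · apply pw_inj hzp hz1
    rw [← hσ' v, s.ρ_π g hg (h.norm_le hg) _ (hσ v),
      ← hω _ (H6.conj_mem_of_mem_normalizer hg (hσ v)), ← pw_pw hzp, ← hμ g hg, ← conj_pw,
      ← hω _ (hσ v), conj_pow]

namespace Sp

variable {Q Z : Subgroup G} {V : Type u} [AddCommGroup V] [Module (ZMod p) V] (s : Sp p Q Z V)
  {a b g : G}

theorem commute_iff (ha : a ∈ Q) (hb : b ∈ Q) : Commute a b ↔ s.B (s.π a) (s.π b) = 0 := by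
  rw [← commutatorElement_eq_one_iff_commute, s.comm a ha b hb, pw_eq_one_iff s.z_pow s.z_ne]

theorem μ_eq_one (hg : g ∈ 𝒩(Q)) (h : g * s.z * g⁻¹ = s.z) : s.μ g = 1 := by
  exact pw_inj s.z_pow s.z_ne (by rw [← s.μ_z g hg, h, pw_one])

theorem μ_eq (hg : g ∈ 𝒩(Q)) {t : ZMod p} (h : g * s.z * g⁻¹ = pw s.z t) : s.μ g = t := by
  exact pw_inj s.z_pow s.z_ne (by rw [← s.μ_z g hg, h])

theorem ρ_of_mem (ha : a ∈ Q) : s.ρ a = 1 := by
  exact s.ρ_eq_one (le_normalizer ha) (s.normZ (le_normalizer ha)) fun b hb =>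
    (s.mem_Z _).2 ⟨_, s.comm a ha b hb⟩

theorem ρπ (hg : g ∈ 𝒩(Q)) (ha : a ∈ Q) : s.ρ g (s.π a) = s.π (g * a * g⁻¹) :=
  s.ρ_π g hg (s.normZ hg) a ha

theorem πcomm (hg : g ∈ 𝒩(Q)) (ha : a ∈ Q) : s.π ⁅g, a⁆ = s.ρ g (s.π a) - s.π a :=
  s.π_comm hg (s.normZ hg) ha

theorem B_ρ_of_cent (hg : g ∈ 𝒩(Q)) (hZ : g ∈ 𝒞(Z)) (u v : V) :
    s.B (s.ρ g u) (s.ρ g v) = s.B u v := by
  rw [s.B_ρ g hg, s.μ_eq_one hg (by rw [← mem_cent.1 hZ _ s.z_mem]; group), one_mul]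

end Sp

end Cfsg.Agent.EX
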