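import Cfsg.Agent.Lib.EX.Rel
import Cfsg.Agent.Lib.QP.G2B

/-!
# Model `G₂(p)`, `p ≥ 5` (S5177)
-/

set_option autoImplicit false
set_option linter.unusedVariables false
set_option linter.unusedSimpArgs false

namespace Cfsg.Agent.G2A

open Cfsg Cfsg.Lie

variable {K : Type*} [Field K]

/-- The unipotent radical of the long root parabolic. -/
def qF (s t u v w : K) (x : Fin 8 → K) : Fin 8 → K :=
  v8 (x 0 - t * x 1 + u * x 6) (x 1) (x 2 + s * x 1 - t * x 6)
    (x 3 + t * x 5 - u * x 0 + u * x 7 + v * x 2 + (w - t * u) * x 1 - (t * v + u ^ 2) * x 6)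
    (x 4 - s * x 5 + t * x 0 - t * x 7 + u * x 2 + (s * u - t ^ 2) * x 1 +
      (s * v + 2 * t * u - w) * x 6)
    (x 5 - u * x 1 - v * x 6) (x 6) (x 7 + t * x 1 - u * x 6)

theorem qF_qF (s t u v w s' t' u' v' w' : K) (x : Fin 8 → K) : qF s t u v w (qF s' t' u' v' w' x) =
    qF (s + s') (t + t') (u + u') (v + v') (w + w' + s' * v + 3 * t' * u) x := by
  apply vec_ext <;> simp only [qF, v8c] <;> ring

theorem qF_zero (x : Fin 8 → K) : qF 0 0 0 0 0 x = x := by
  apply vec_ext <;> simp [qF, v8c]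

/-- The unipotent radical of the long root parabolic. -/
noncomputable def qq (s t u v w : K) : G2 K :=
  mkA (qF s t u v w)
    ⟨fun x y => by apply vec_ext <;> simp only [qF, v8c, Pi.add_apply] <;> ring,
      fun c x => by apply vec_ext <;> simp only [qF, v8c, Pi.smul_apply, smul_eq_mul] <;> ring⟩
    (Function.LeftInverse.injective (g := qF (-s) (-t) (-u) (-v) (s * v + 3 * t * u - w)) fun x => by
      apply vec_ext <;> simp only [qF, v8c] <;> ring)
    (fun x y => by apply vec_ext <;> simp only [qF, v8c, zm] <;> ring)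

theorem act_qq (s t u v w : K) (x : Fin 8 → K) : act (qq s t u v w) x = qF s t u v w x :=
  act_mkA _ _ _ _ _

theorem qq_mul (s t u v w s' t' u' v' w' : K) : qq s t u v w * qq s' t' u' v' w' =
    qq (s + s') (t + t') (u + u') (v + v') (w + w' + s' * v + 3 * t' * u) :=
  ext_act fun x => by rw [act_mul, act_qq, act_qq, act_qq, qF_qF]

theorem qq_zero : (qq 0 0 0 0 0 : G2 K) = 1 := ext_act fun x => by rw [act_qq, qF_zero, act_one]

theorem qq_pow (s t u v w : K) (n : ℕ) : qq s t u v w ^ n =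
    qq (n * s) (n * t) (n * u) (n * v) (n * w + (n.choose 2 : ℕ) * (s * v + 3 * t * u)) := by
  induction n with
  | zero => simp [qq_zero]
  | succ n ih =>
    rw [pow_succ, ih, qq_mul, Nat.choose_succ_succ' n 1, Nat.choose_one_right]
    push_cast
    congr 1 <;> ring

/-- A short root subgroup. -/
def eF (r : K) (x : Fin 8 → K) : Fin 8 → K :=
  v8 (x 0 - r * x 2) (x 1 + r * x 6) (x 2) (x 3 - r * x 4) (x 4)
    (x 5 + r * x 0 - (r * x 2 + x 7) * r) (x 6) (x 7 + r * x 2)

/-- A short root subgroup. -/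
noncomputable def ee (r : K) : G2 K :=
  mkA (eF r)
    ⟨fun x y => by apply vec_ext <;> simp only [eF, v8c, Pi.add_apply] <;> ring,
      fun c x => by apply vec_ext <;> simp only [eF, v8c, Pi.smul_apply, smul_eq_mul] <;> ring⟩
    (Function.LeftInverse.injective (g := eF (-r)) fun x => by
      apply vec_ext <;> simp only [eF, v8c] <;> ring)
    (fun x y => by apply vec_ext <;> simp only [eF, v8c, zm] <;> ring)

theorem act_ee (r : K) (x : Fin 8 → K) : act (ee r) x = eF r x := act_mkA _ _ _ _ _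

theorem ee_pow (r : K) (n : ℕ) : ee r ^ n = ee (n * r) := by
  induction n with
  | zero =>
    refine ext_act fun x => ?_
    rw [pow_zero, act_one, act_ee]
    apply vec_ext <;> simp [eF, v8c]
  | succ n ih =>
    refine ext_act fun x => ?_
    rw [pow_succ, ih, act_mul, act_ee, act_ee, act_ee]
    apply vec_ext <;> simp only [eF, v8c] <;> push_cast <;> ring

theorem ee_qq (s t u v w : K) : ee 1 * qq s t u v w = qq s (t + s) (u + 2 * t + s)
    (v - 3 * u - 3 * t - s) (w + 3 * t ^ 2 + 3 * s * t + s ^ 2) * ee 1 :=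
  ext_act fun x => by
    simp only [act_mul, act_ee, act_qq]
    apply vec_ext <;> simp only [eF, qF, v8c] <;> ring

theorem sq_zero_iff (x : Fin 8 → K) : zornMul x x = 0 ↔
    x 0 + x 7 = 0 ∧ x 0 * x 0 + (x 1 * x 4 + x 2 * x 5 + x 3 * x 6) = 0 := by
  constructor
  · intro h
    have h0 := congrFun h 0
    have h1 := congrFun h 1
    have h2 := congrFun h 2
    have h3 := congrFun h 3
    have h7 := congrFun h 7
    simp only [zm, Pi.zero_apply] at h0 h1 h2 h3 h7
    refine ⟨?_, h0⟩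
    by_contra hne
    have a1 : x 1 = 0 := (mul_eq_zero.1 (by linear_combination h1)).resolve_left hne
    have a2 : x 2 = 0 := (mul_eq_zero.1 (by linear_combination h2)).resolve_left hne
    have a3 : x 3 = 0 := (mul_eq_zero.1 (by linear_combination h3)).resolve_left hne
    rw [a1, a2, a3] at h0 h7
    have a0 : x 0 = 0 := mul_self_eq_zero.1 (by linear_combination h0)
    have a7 : x 7 = 0 := mul_self_eq_zero.1 (by linear_combination h7)
    exact hne (by rw [a0, a7, add_zero])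
  · rintro ⟨h1, h2⟩
    apply vec_ext <;> simp only [zm, Pi.zero_apply] <;> grind

theorem act_sq_zero (g : G2 K) {x : Fin 8 → K} (h : zornMul x x = 0) :
    zornMul (act g x) (act g x) = 0 := by rw [← act_zorn, h, act_zero]

theorem trans6 {x : Fin 8 → K} (h : zornMul x x = 0) (h6 : x 6 ≠ 0) :
    ∃ g : G2 K, act g x = x 6 • e 6 := by
  have key : ∀ y : Fin 8 → K, zornMul y y = 0 → y 6 ≠ 0 → y 1 = 0 →
      ∃ g : G2 K, act g y = y 6 • e 6 := by
    intro y hy y6 y1
    obtain ⟨a, b⟩ := (sq_zero_iff y).1 hy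
    have y7 : y 7 = -y 0 := by linear_combination a
    have y3 : y 3 = -(y 0 * y 0 + y 2 * y 5) / y 6 := by
      rw [y1] at b; field_simp; linear_combination b
    refine ⟨qq 0 (y 2 / y 6) (-y 0 / y 6) (y 5 / y 6) (y 4 / y 6 - y 0 * y 2 / y 6 ^ 2), ?_⟩
    rw [act_qq]
    apply vec_ext <;> simp only [qF, v8c, e_eq, Pi.smul_apply, smul_eq_mul, y1, y7, y3] <;>
      field_simp <;> ring
  obtain ⟨g, hg⟩ := key (act (ee (-x 1 / x 6)) x) (act_sq_zero _ h) (by rwa [act_ee])
    (by rw [act_ee]; simp only [eF, v8c]; field_simp; ring)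
  exact ⟨g * ee (-x 1 / x 6), by rw [act_mul, hg, act_ee]; rfl⟩

/-- Transitivity on singular points. -/
theorem trans_null {x : Fin 8 → K} (h : zornMul x x = 0) (hx : x ≠ 0) :
    ∃ (g : G2 K) (c : K), c ≠ 0 ∧ act g x = c • e 6 := by
  have key : ∀ g : G2 K, act g x 6 ≠ 0 → ∃ (g : G2 K) (c : K), c ≠ 0 ∧ act g x = c • e 6 :=
    fun g hg => by
      obtain ⟨g', h'⟩ := trans6 (act_sq_zero g h) hg
      exact ⟨g' * g, _, hg, by rw [act_mul, h']⟩
  by_contra hc
  have k : ∀ g : G2 K, act g x 6 = 0 := fun g => by_contra fun hg => hc (key g hg)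
  have k6 := k 1
  have k5 := k ro
  have k4 := k (ro * ro)
  have k3 := k io
  have k2 := k (ro * io)
  have k1 := k (ro * ro * io)
  simp only [act_mul, act_one, act_ro, act_io, rF, iF, v8c, neg_eq_zero] at k1 k2 k3 k4 k5 k6
  obtain ⟨a, b⟩ := (sq_zero_iff x).1 h
  have k0 : x 0 = 0 := mul_self_eq_zero.1 (by rw [k1, k2, k3] at b; linear_combination b)
  exact hx (vec_ext k0 k1 k2 k3 k4 k5 k6 (by rw [k0] at a; simpa using a))

theorem act_unit (g : G2 K) : act g (v8 1 0 0 0 0 0 0 1) = v8 1 0 0 0 0 0 0 1 := by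
  have h1 : ∀ y : Fin 8 → K, zornMul (v8 1 0 0 0 0 0 0 1) y = y := fun y => by
    apply vec_ext <;> simp [zm, v8c]
  have h2 : ∀ y : Fin 8 → K, zornMul y (v8 1 0 0 0 0 0 0 1) = y := fun y => by
    apply vec_ext <;> simp [zm, v8c]
  have := act_zorn g (v8 1 0 0 0 0 0 0 1) (act g⁻¹ (v8 1 0 0 0 0 0 0 1))
  rw [h1, act_act_inv, h2] at this
  exact this.symm

theorem act_e3_three {g : G2 K} (h6 : act g (e 6) = e 6) : act g (e 3) 3 = 1 := by
  have h : zornMul (e 3) (e 6) + zornMul (e 6) (e 3) = (v8 1 0 0 0 0 0 0 1 : Fin 8 → K) := by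
    apply vec_ext <;> simp [zm, v8c, e_eq]
  have h' := congrArg (act g) h
  rw [act_unit, act_add, act_zorn, act_zorn, h6] at h'
  have := congrFun h' 0
  simpa [zm, v8c, e_eq] using this

/-- An element fixing `e₃, e₆` preserves the plane `⟨e₁, e₂⟩`. -/
theorem act_plane {g : G2 K} (h3 : act g (e 3) = e 3) (h6 : act g (e 6) = e 6) (a b : K) :
    act g (v8 0 a b 0 0 0 0 0) =
      v8 0 (act g (v8 0 a b 0 0 0 0 0) 1) (act g (v8 0 a b 0 0 0 0 0) 2) 0 0 0 0 0 := by
  have h0 : act g (e 0) = e 0 := by rw [← e_mul.2.2.2.2.2, act_zorn, h3, h6]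
  have m7 : zornMul (e 6) (e 3) = (e 7 : Fin 8 → K) := by simp only [e_eq, zorn_v8, v8_inj]; simp
  have h7 : act g (e 7) = e 7 := by rw [← m7, act_zorn, h3, h6]
  obtain ⟨a0, a4, a5, a6, a7⟩ := peirce h0 h7 (x := v8 0 a b 0 0 0 0 0)
    (by simp only [e_eq, zorn_v8, v8_inj]; simp) (by simp only [e_eq, zorn_v8, v8_inj]; simp)
  have h : zornMul (v8 0 a b 0 0 0 0 0) (e 6) = (0 : Fin 8 → K) := by
    apply vec_ext <;> simp [zm, v8c, e_eq]
  have h' := congrArg (act g) h
  rw [act_zero, act_zorn, h6] at h'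
  have a3 := congrFun h' 0
  simp only [zm, v8c, e_eq, Pi.zero_apply] at a3
  exact vec_ext a0 rfl rfl (by simp only [v8c]; linear_combination a3) a4 a5 a6 a7

variable [Fintype K] {p : ℕ} [Fact p.Prime]

theorem exists_fixed {H : Subgroup (G2 K)} (hH : IsPGroup p H) (S : Set (Fin 8 → K))
    (hS : ∀ g ∈ H, ∀ v ∈ S, act g v ∈ S) (h0 : 0 ∈ S) (hp : p ∣ Nat.card S) :
    ∃ v ∈ S, v ≠ 0 ∧ ∀ g ∈ H, act g v = v := by
  letI : MulAction H S :=
    { smul := fun g v => ⟨act g v, hS g g.2 v v.2⟩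
      one_smul := fun v => Subtype.ext (act_one _)
      mul_smul := fun g h v => Subtype.ext (act_mul _ _ _) }
  obtain ⟨b, hb, hne⟩ := hH.exists_fixed_point_of_prime_dvd_card_of_fixed_point S hp
    (a := ⟨0, h0⟩) fun g => Subtype.ext (act_zero _)
  exact ⟨b, b.2, fun h => hne (Subtype.ext h.symm), fun g hg => congrArg Subtype.val (hb ⟨g, hg⟩)⟩

theorem card_le_one {H : Subgroup (G2 K)}
    (h : ∀ g ∈ H, act g (e 1) = e 1 ∧ act g (e 3) = e 3 ∧ act g (e 6) = e 6) :
    Nat.card H ≤ Nat.card K := by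
  have key : ∀ g ∈ H, act g (e 2) = v8 0 (act g (e 2) 1) 1 0 0 0 0 0 := fun g hg => by
    obtain ⟨h1, h3, h6⟩ := h g hg
    have a := act_plane h3 h6 0 1
    rw [← e_eq.2.2.1] at a
    have b := congrFun (act_zorn g (e 1) (e 2)) 6
    rw [e_mul.1, h1, h6] at b
    simp only [zm, e_eq, v8c] at b
    simp only [← e_eq] at b
    rw [a, show act g (e 2) 2 = 1 by linear_combination -b]
    rfl
  refine Nat.card_le_card_of_injective (fun g : H => act g (e 2) 1) fun g g' e => Subtype.ext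
    (ext3 ?_ ?_ ?_)
  · rw [(h _ g.2).1, (h _ g'.2).1]
  · rw [key _ g.2, key _ g'.2]; simp only at e; rw [e]
  · rw [(h _ g.2).2.1, (h _ g'.2).2.1]

theorem card_conj (H : Subgroup (G2 K)) (h : G2 K) :
    Nat.card (H.map (MulAut.conj h).toMonoidHom) = Nat.card H :=
  Subgroup.card_map_of_injective (MulAut.conj h).injective

theorem card_le_two [CharP K p] {H : Subgroup (G2 K)} (hH : IsPGroup p H)
    (h : ∀ g ∈ H, act g (e 3) = e 3 ∧ act g (e 6) = e 6) : Nat.card H ≤ Nat.card K := by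
  obtain ⟨v, ⟨⟨a, b⟩, rfl⟩, hv, hfix⟩ := exists_fixed hH
    (Set.range fun x : K × K => v8 0 x.1 x.2 0 0 0 0 0)
    (by
      rintro g hg _ ⟨⟨a, b⟩, rfl⟩
      exact ⟨(_, _), (act_plane (h g hg).1 (h g hg).2 a b).symm⟩)
    ⟨(0, 0), vec_ext rfl rfl rfl rfl rfl rfl rfl rfl⟩
    (by
      rw [Nat.card_range_of_injective fun x y h => Prod.ext (congrFun h 1) (congrFun h 2),
        Nat.card_prod]
      refine Dvd.dvd.mul_right ?_ _
      rw [← CharP.cast_eq_zero_iff K p, Nat.card_eq_fintype_card]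
      exact FiniteField.cast_card_eq_zero K)
  obtain ⟨a', b', hd⟩ : ∃ a' b' : K, a * b' - a' * b = 1 := by
    by_cases ha : a = 0
    · have hb : b ≠ 0 := fun hb => hv (by
        simp only [ha, hb]; exact vec_ext rfl rfl rfl rfl rfl rfl rfl rfl)
      exact ⟨-b⁻¹, 0, by field_simp; ring⟩
    · exact ⟨0, a⁻¹, by field_simp; ring⟩
  have k1' : act (k1 a a' b b' hd) (e 1) = v8 0 a b 0 0 0 0 0 := by
    rw [act_k1]; simp [k1F, e_eq, v8c]
  have k3 : act (k1 a a' b b' hd) (e 3) = e 3 := by rw [act_k1]; simp [k1F, e_eq, v8c]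
  have k6 : act (k1 a a' b b' hd) (e 6) = e 6 := by rw [act_k1]; simp [k1F, e_eq, v8c]
  rw [← card_conj H (k1 a a' b b' hd)⁻¹]
  refine card_le_one ?_
  rintro _ ⟨g, hg, rfl⟩
  simp only [MulEquiv.coe_toMonoidHom, MulAut.conj_apply, inv_inv, act_mul]
  refine ⟨?_, ?_, ?_⟩
  · simp only at hfix
    rw [k1', hfix g hg, ← k1', act_inv_act]
  · rw [k3, (h g hg).1]
    exact act_inj (k1 a a' b b' hd) (by rw [act_act_inv, k3])
  · rw [k6, (h g hg).2]
    exact act_inj (k1 a a' b b' hd) (by rw [act_act_inv, k6])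

theorem card_le_three [CharP K p] {H : Subgroup (G2 K)} (hH : IsPGroup p H)
    (h : ∀ g ∈ H, act g (e 6) = e 6) : Nat.card H ≤ Nat.card K ^ 6 := by
  have h1 : Nat.card (MulAction.stabilizer H (e 3 : Fin 8 → K)) ≤ Nat.card K := by
    rw [← Subgroup.card_map_of_injective (f := H.subtype) H.subtype_injective]
    refine card_le_two (hH.to_subgroup _ |>.map _) ?_
    rintro _ ⟨g, hg, rfl⟩
    exact ⟨hg, h _ g.2⟩
  have h2 : Nat.card (MulAction.orbit H (e 3 : Fin 8 → K)) ≤ Nat.card (K × K × K × K × K) := by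
    have key : ∀ x ∈ MulAction.orbit H (e 3 : Fin 8 → K), x 3 = 1 ∧ x 7 = -x 0 ∧
        x 6 = -(x 0 * x 0 + x 1 * x 4 + x 2 * x 5) := by
      rintro _ ⟨g, rfl⟩
      have a := act_e3_three (h _ g.2)
      obtain ⟨b, c⟩ := (sq_zero_iff _).1 (act_sq_zero (g : G2 K) (x := e 3) (by
        apply vec_ext <;> simp [zm, e_eq, v8c]))
      rw [a] at c
      have d : ∀ x : Fin 8 → K, x 0 * x 0 + (x 1 * x 4 + x 2 * x 5 + 1 * x 6) = 0 →
          x 6 = -(x 0 * x 0 + x 1 * x 4 + x 2 * x 5) := fun x c => by linear_combination c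
      exact ⟨a, eq_neg_of_add_eq_zero_right b, d _ c⟩
    refine Nat.card_le_card_of_injective (fun x => (x.1 0, x.1 1, x.1 2, x.1 4, x.1 5)) fun x y hxy => ?_
    simp only [Prod.mk.injEq] at hxy
    obtain ⟨e0, e1, e2, e4, e5⟩ := hxy
    obtain ⟨a3, a7, a6⟩ := key _ x.2
    obtain ⟨b3, b7, b6⟩ := key _ y.2
    exact Subtype.ext (vec_ext e0 e1 e2 (a3.trans b3.symm) e4 e5 (by rw [a6, b6, e0, e1, e2, e4, e5])
      (by rw [a7, b7, e0]))
  rw [← Nat.card_congr (MulAction.orbitProdStabilizerEquivGroup H (e 3 : Fin 8 → K)), Nat.card_prod]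
  simp only [Nat.card_prod] at h2
  exact (Nat.mul_le_mul h2 h1).trans (le_of_eq (by ring))

/-- The `p`-subgroups of `G₂(q)` have order at most `q⁶`. -/
theorem card_le_of_isPGroup [CharP K p] {H : Subgroup (G2 K)} (hH : IsPGroup p H) :
    Nat.card H ≤ Nat.card K ^ 6 := by
  classical
  obtain ⟨v, hv, hne, hfix⟩ := exists_fixed hH {x | zornMul x x = 0}
    (fun g _ v hv => act_sq_zero g hv) (by apply vec_ext <;> simp [zm]) (by
      open MvPolynomial in
      have := char_dvd_card_solutions_of_add_lt (K := K) (σ := Fin 8) p (f₁ := X 0 + X 7)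
        (f₂ := X 0 * X 0 + (X 1 * X 4 + X 2 * X 5 + X 3 * X 6)) (by
          have d1 : ∀ i : Fin 8, (X i : MvPolynomial (Fin 8) K).totalDegree ≤ 1 := fun i =>
            (totalDegree_X i).le
          have d2 : ∀ i j : Fin 8, (X i * X j : MvPolynomial (Fin 8) K).totalDegree ≤ 2 := fun i j =>
            (totalDegree_mul _ _).trans (Nat.add_le_add (d1 i) (d1 j))
          have a1 := (totalDegree_add (X 0 : MvPolynomial (Fin 8) K) (X 7)).trans
            (max_le (d1 0) (d1 7))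
          have a2 := (totalDegree_add (X 0 * X 0 : MvPolynomial (Fin 8) K) _).trans
            (max_le (d2 0 0) ((totalDegree_add _ _).trans
              (max_le ((totalDegree_add _ _).trans (max_le (d2 1 4) (d2 2 5))) (d2 3 6))))
          rw [Fintype.card_fin]
          omega)
      rw [← Nat.card_eq_fintype_card] at this
      convert this using 3 with x
      simp [sq_zero_iff])
  obtain ⟨g, c, hc, hg⟩ := trans_null hv hne
  rw [← card_conj H g]
  refine card_le_three (hH.map _) ?_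
  rintro _ ⟨x, hx, rfl⟩
  simp only [MulEquiv.coe_toMonoidHom, MulAut.conj_apply, act_mul]
  have : act g⁻¹ (e 6) = c⁻¹ • v := act_inj g (by
    rw [act_act_inv, act_smul, hg, smul_smul, inv_mul_cancel₀ hc, one_smul])
  rw [this, act_smul, hfix x hx, ← this, act_act_inv]

end Cfsg.Agent.G2A

namespace Cfsg.Agent.EX

open G2A

theorem model_G2 (p : ℕ) [Fact p.Prime] (hp : 5 ≤ p) :
    (∃ e x y d w z : Cfsg.Lie.G2 (ZMod p), Rel p 1 0 1 1 1 (-1) e x y d w z ∧ z ≠ 1) ∧
    ∀ P : Sylow p (Cfsg.Lie.G2 (ZMod p)), Nat.card P ≤ p ^ 6 := by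
  refine ⟨?_, fun P => by simpa using card_le_of_isPGroup P.isPGroup'⟩
  have hq : ∀ s t u v w : ZMod p, qq s t u v w ^ p = 1 := fun s t u v w => by
    rw [qq_pow, (ZMod.natCast_eq_zero_iff _ _).2
      ((Fact.out : p.Prime).dvd_choose_self two_ne_zero (by omega))]
    simp [qq_zero]
  have hz : ∀ s t u v w : ZMod p, Commute (qq 0 0 0 0 216) (qq s t u v w) := fun s t u v w => by
    rw [Commute, SemiconjBy, qq_mul, qq_mul]; congr 1 <;> ring
  refine ⟨ee 1, qq 6 0 (-1) 0 0, qq 0 6 6 (-3) 54, qq 0 0 12 (-36) 108, qq 0 0 0 (-36) 0,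
    qq 0 0 0 0 216, ⟨?_, hq .., hq .., hq .., hq .., hq .., ?_, hz .., hz .., hz .., hz .., ?_, ?_,
    ?_, ?_, ?_, ?_, ?_, ?_, ?_, ?_⟩, fun h => ?_⟩
  · rw [ee_pow, ZMod.natCast_self, ← pow_zero (ee (1 : ZMod p)), ee_pow, Nat.cast_zero]
  · rw [Commute, SemiconjBy, ee_qq]; congr 2 <;> ring
  · rw [Commute, SemiconjBy, qq_mul, qq_mul]; congr 1 <;> ring
  · simp only [zpow_one, qq_mul]; congr 1 <;> ring
  · simp only [qq_mul]; congr 1 <;> ring
  · rw [zpow_neg, zpow_one, eq_inv_mul_iff_mul_eq]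
    simp only [qq_mul]; congr 1 <;> ring
  · rw [Commute, SemiconjBy, qq_mul, qq_mul]; congr 1 <;> ring
  · rw [Commute, SemiconjBy, qq_mul, qq_mul]; congr 1 <;> ring
  · simp only [pow_one, pow_zero, mul_one, ee_qq, qq_mul]; congr 2 <;> ring
  · simp only [pow_one, ee_qq, qq_mul]; congr 2 <;> ring
  · simp only [pow_one, ee_qq, qq_mul]; congr 2 <;> ring
  · rw [Commute, SemiconjBy, ee_qq]; congr 2 <;> ring
  · have := congrArg (fun g => act g (e 1) 3) h
    simp only [act_qq, act_one, qF, e_eq, v8c] at this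
    have h216 : ((2 ^ 3 * 3 ^ 3 : ℕ) : ZMod p) = 0 := by push_cast; linear_combination this
    rw [ZMod.natCast_eq_zero_iff] at h216
    have hp' : p.Prime := Fact.out
    rcases (Nat.Prime.dvd_mul hp').1 h216 with h | h <;>
      have := Nat.le_of_dvd (by norm_num) (hp'.dvd_of_dvd_pow h) <;> omega

end Cfsg.Agent.EX
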