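import Mathlib.GroupTheory.Sylow
import Mathlib.GroupTheory.Commutator.Basic

/-!
# The unified presentation of the three Sylow subgroups of order `p ^ 6` (S5177)

`Rel p i1 i2 i3 i4 a b e x y d w z`: `⟨x, y, d, w⟩` is extraspecial with centre `⟨z⟩`, `e` acts on it.
* `SL₄(p)`: `(i1,i2,i3,i4; a,b) = (1,0,0,1; 0,-1)`
* `G₂(p)`:  `(1,0,1,1; 1,-1)`
* `SU₄(p)`: `(0,1,1,0; 0,c)` with `-c` a non-square.
-/

set_option autoImplicit false
set_option linter.unusedVariables false

namespace Cfsg.Agent.EX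

open Subgroup

structure Rel {G : Type*} [Group G] (p : ℕ) (i1 i2 i3 i4 : ℕ) (a b : ℤ) (e x y d w z : G) :
    Prop where
  pe : e ^ p = 1
  px : x ^ p = 1
  py : y ^ p = 1
  pd : d ^ p = 1
  pw : w ^ p = 1
  pz : z ^ p = 1
  ze : Commute z e
  zx : Commute z x
  zy : Commute z y
  zd : Commute z d
  zw : Commute z w
  xy : Commute x y
  xd : x * d = z ^ a * (d * x)
  xw : x * w = z * (w * x)
  yd : y * d = z ^ b * (d * y)
  yw : Commute y w
  dw : Commute d w
  ex : e * x = x * y ^ i1 * w ^ i2 * e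
  ey : e * y = y * d ^ i3 * e
  ed : e * d = d * w ^ i4 * e
  ew : Commute e w

/-- The subgroup generated by the six elements. -/
def gen6 {G : Type*} [Group G] (e x y d w z : G) : Subgroup G := closure {e, x, y, d, w, z}

end Cfsg.Agent.EX
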