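import Cfsg.Agent.Lib.FT.BG02
import Cfsg.Agent.Lib.H9.MaxClass
import Cfsg.Agent.Lib.EX.Rel

/-!
# S5177: the local configuration `Loc` (see notes/EX.md)
-/

set_option autoImplicit false
set_option linter.unusedSectionVars false
set_option linter.unusedVariables false

namespace Cfsg.Agent.EX

open Subgroup Cfsg.Agent.H6 Cfsg.Agent.FT
open scoped commutatorElement

variable {G : Type*} [Group G]

/-- `Q` is extraspecial of order at least `p ^ 5` with centre `Z`. -/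
structure XS (p : ℕ) (Q Z : Subgroup G) : Prop where
  zc : Q ⊓ 𝒞(Q) = Z
  card : Nat.card Z = p
  comm : ∀ a ∈ Q, ∀ b ∈ Q, ⁅a, b⁆ ∈ Z
  pgrp : IsPGroup p Q
  big : p ^ 5 ≤ Nat.card Q

/-- `X` acts on `R` as a `p`-group. -/
def PAct (p : ℕ) (X R : Subgroup G) : Prop := ∀ x ∈ X, ∃ k : ℕ, x ^ p ^ k ∈ 𝒞(R)

/-- The good elements: they act on `R` like an element normalizing `Q`. -/
def Gd (Q R : Subgroup G) : Subgroup G := (𝒩(Q) ⊓ 𝒩(R)) ⊔ 𝒞(R)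

/-- The elements acting on `R` like an element of `N_S(R)`. -/
def NC (S R : Subgroup G) : Subgroup G := (S ⊓ 𝒩(R)) ⊔ 𝒞(R)

/-- `R` is a maximal subgroup with a non-extendable automorphism; `Γ` induces `Aut_F(R)`. -/
structure Loc (p : ℕ) (S Q Z R Γ : Subgroup G) : Prop where
  odd : p ≠ 2
  hS : IsPGroup p S
  xs : XS p Q Z
  QS : Q ≤ S
  idx : Q.relIndex S = p
  RS : R ≤ S
  neS : R ≠ S
  neQ : R ≠ Q
  cen : S ⊓ 𝒞(R) ≤ R
  NΓ : S ⊓ 𝒩(R) ≤ Γ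
  ΓN : Γ ≤ 𝒩(R)
  syl : ∀ X ≤ Γ, PAct p X R → ∃ h ∈ Γ, ∀ x ∈ X, h * x * h⁻¹ ∈ NC S R
  ext : ∀ g ∈ Γ, ∀ x ∈ S ⊓ 𝒩(R), x ∉ R → g * x * g⁻¹ ∈ NC S R → g ∈ Gd Q R
  bad : ¬ Γ ≤ Gd Q R

/-- The conclusion of S5177 in terms of presentations. -/
def Out (p : ℕ) (S : Subgroup G) : Prop :=
  (Nat.card S = p ^ 6 ∧ ∃ e x y d w z : G, gen6 e x y d w z ≤ S ∧ z ≠ 1 ∧
    (Rel p 1 0 0 1 0 (-1) e x y d w z ∨
      (∃ c : ℤ, ¬ IsSquare (-(c : ZMod p)) ∧ Rel p 0 1 1 0 0 c e x y d w z) ∨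
      (5 ≤ p ∧ Rel p 1 0 1 1 1 (-1) e x y d w z))) ∨
  (11 ≤ p ∧ Nat.card S = p ^ (p - 1) ∧ (∀ x ∈ S, x ^ p = 1) ∧ Group.nilpotencyClass S = p - 2)

variable {p : ℕ} {S Q Z R Γ A K X : Subgroup G} {g x x' : G}

theorem mem_sup_cent (hA : A ≤ 𝒩(R)) :
    g ∈ A ⊔ 𝒞(R) ↔ ∃ m ∈ A, ∀ r ∈ R, g * r * g⁻¹ = m * r * m⁻¹ := by
  rw [H9.mem_sup_of_le_normalizer (H1.le_normalizer_centralizer hA)]
  constructor
  · rintro ⟨m, hm, c, hc, rfl⟩
    refine ⟨m, hm, fun r hr => ?_⟩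
    have := mem_cent.1 hc r hr
    calc m * c * r * (m * c)⁻¹ = m * (c * r) * c⁻¹ * m⁻¹ := by group
      _ = m * r * m⁻¹ := by rw [← this]; group
  · rintro ⟨m, hm, h⟩
    refine ⟨m, hm, m⁻¹ * g, mem_cent.2 fun r hr => ?_, by group⟩
    have := h r hr
    calc r * (m⁻¹ * g) = m⁻¹ * (m * r * m⁻¹) * g := by group
      _ = m⁻¹ * g * r := by rw [← this]; group

theorem mem_Gd : g ∈ Gd Q R ↔ ∃ m ∈ 𝒩(Q), m ∈ 𝒩(R) ∧ ∀ r ∈ R, g * r * g⁻¹ = m * r * m⁻¹ := by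
  rw [Gd, mem_sup_cent inf_le_right]
  exact ⟨fun ⟨m, hm, h⟩ => ⟨m, hm.1, hm.2, h⟩, fun ⟨m, h1, h2, h⟩ => ⟨m, ⟨h1, h2⟩, h⟩⟩

theorem mem_NC : g ∈ NC S R ↔ ∃ m ∈ S, m ∈ 𝒩(R) ∧ ∀ r ∈ R, g * r * g⁻¹ = m * r * m⁻¹ := by
  rw [NC, mem_sup_cent inf_le_right]
  exact ⟨fun ⟨m, hm, h⟩ => ⟨m, hm.1, hm.2, h⟩, fun ⟨m, h1, h2, h⟩ => ⟨m, ⟨h1, h2⟩, h⟩⟩

theorem Gd_le_norm : Gd Q R ≤ 𝒩(R) := by
  exact sup_le inf_le_right cent_le_norm

theorem Gd_le_norm_inf : Gd Q R ≤ 𝒩(R ⊓ Q) := by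
  exact sup_le (H1.le_normalizer_inf inf_le_right inf_le_left)
    ((cent_le_cent inf_le_left).trans cent_le_norm)

theorem cj_Gd (hg : g ∈ 𝒩(R)) : cj g (Gd Q R) = Gd (cj g Q) R := by
  rw [Gd, Gd, cj_sup, cj_inf, cj_normalizer, cj_normalizer, cj_centralizer, cj_eq_self_iff.2 hg]

theorem mem_Gd_cj (hg : g ∈ 𝒩(R)) {h : G} : h ∈ Gd (cj g Q) R ↔ g⁻¹ * h * g ∈ Gd Q R := by
  rw [← cj_Gd hg, mem_cj]

/-- One step of a stabilized chain. -/
theorem PAct.step [Fact p.Prime] [Finite G] (h : PAct p X K) (hK : IsPGroup p K) (hn : X ≤ 𝒩(K))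
    (hc : ∀ y ∈ X, ∀ r ∈ R, ⁅y, r⁆ ∈ K) : PAct p X R := by
  intro x hx
  obtain ⟨k, hk⟩ := h x hx
  obtain ⟨j, hj⟩ := H9.exists_card_eq_pow hK
  refine ⟨k + j, mem_cent.2 fun r hr => ?_⟩
  have hc' := hc _ (X.pow_mem hx (p ^ k)) r hr
  have hcomm : Commute (x ^ p ^ k) ⁅x ^ p ^ k, r⁆ := (mem_cent.1 hk _ hc').symm
  have := H9.commutator_pow_left_of_commute hcomm (p ^ j)
  rw [H9.pow_eq_one_of_card_eq hj hc', commutatorElement_eq_one_iff_mul_comm] at this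
  rw [pow_add, pow_mul]
  exact this.symm

theorem mul_pow_mul_inv_mem {k : G} (hg : g ∈ 𝒩(K)) (hk : k ∈ K) (n : ℕ) :
    (k * g) ^ n * (g ^ n)⁻¹ ∈ K := by
  induction n with
  | zero => simp
  | succ n ih =>
    have : (k * g) ^ (n + 1) * (g ^ (n + 1))⁻¹ = k * (g * ((k * g) ^ n * (g ^ n)⁻¹) * g⁻¹) := by
      rw [pow_succ', pow_succ' g]; group
    rw [this]
    exact K.mul_mem hk (H6.conj_mem_of_mem_normalizer hg ih)

theorem pAct_of_le_cent (h : X ≤ 𝒞(R)) : PAct p X R := by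
  exact fun x hx => ⟨0, by simpa using h hx⟩

/-- Commutator conditions pass from two generators normalizing `K` and `A` to the subgroup they
generate. -/
theorem closure_pair_comm {a b : G} (ha : a ∈ 𝒩(K)) (hb : b ∈ 𝒩(K))
    (h1 : ∀ r ∈ A, ⁅a, r⁆ ∈ K) (h2 : ∀ r ∈ A, ⁅b, r⁆ ∈ K) :
    ∀ y ∈ closure ({a, b} : Set G), ∀ r ∈ A, ⁅y, r⁆ ∈ K := by
  have key : ∀ y ∈ closure ({a, b} : Set G), y ∈ 𝒩(K) ∧ ∀ r ∈ A, ⁅y, r⁆ ∈ K := by
    intro y hy
    induction hy using closure_induction with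
    | mem y hy =>
      rcases hy with rfl | rfl
      · exact ⟨ha, h1⟩
      · exact ⟨hb, h2⟩
    | one => exact ⟨one_mem _, fun r _ => by simp⟩
    | mul y z _ _ hy hz =>
      refine ⟨mul_mem hy.1 hz.1, fun r hr => ?_⟩
      have : ⁅y * z, r⁆ = y * ⁅z, r⁆ * y⁻¹ * ⁅y, r⁆ := by simp only [commutatorElement_def]; group
      rw [this]
      exact K.mul_mem (H6.conj_mem_of_mem_normalizer hy.1 (hz.2 r hr)) (hy.2 r hr)
    | inv y _ hy =>
      refine ⟨inv_mem hy.1, fun r hr => ?_⟩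
      have : ⁅y⁻¹, r⁆ = y⁻¹ * ⁅y, r⁆⁻¹ * y := by simp only [commutatorElement_def]; group
      rw [this]
      exact H6.conj_mem_of_mem_normalizer' hy.1 (K.inv_mem (hy.2 r hr))
  exact fun y hy => (key y hy).2

namespace XS

variable [hp : Fact p.Prime] [Finite G]

theorem le (h : XS p Q Z) : Z ≤ Q := by
  rw [← h.zc]; exact inf_le_left

theorem le_cent (h : XS p Q Z) : Z ≤ 𝒞(Q) := by
  rw [← h.zc]; exact inf_le_right

theorem ne_bot (h : XS p Q Z) : Z ≠ ⊥ := by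
  exact ne_bot_of_card_prime (by rw [h.card]; exact hp.out)

theorem pow_eq_one (h : XS p Q Z) {z : G} (hz : z ∈ Z) : z ^ p = 1 := by
  exact H9.pow_eq_one_of_card_eq h.card hz

theorem eq_zpowers (h : XS p Q Z) {z : G} (hz : z ∈ Z) (h1 : z ≠ 1) : Z = zpowers z := by
  exact (H9.zpowers_eq_of_card_prime hp.out h.card hz h1).symm

theorem pow_mem (h : XS p Q Z) {a : G} (ha : a ∈ Q) : a ^ p ∈ Z := by
  rw [← h.zc]
  refine ⟨Q.pow_mem ha _, mem_cent.2 fun b hb => ?_⟩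
  have hc := h.comm a ha b hb
  have := H9.commutator_pow_left_of_commute (x := a) (y := b) (mem_cent.1 (h.le_cent hc) a ha) p
  rw [h.pow_eq_one hc, commutatorElement_eq_one_iff_mul_comm] at this
  exact this.symm

theorem norm_le (h : XS p Q Z) : 𝒩(Q) ≤ 𝒩(Z) := by
  rw [← h.zc]; exact norm_le_norm_Zc Q

theorem cj (h : XS p Q Z) (g : G) : XS p (cj g Q) (cj g Z) := by
  refine ⟨by rw [← h.zc, cj_inf, cj_centralizer], by rw [card_cj, h.card], fun a ha b hb => ?_,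
    isPGroup_cj g h.pgrp, by rw [card_cj]; exact h.big⟩
  have := h.comm _ (mem_cj.1 ha) _ (mem_cj.1 hb)
  rw [mem_cj]
  convert this using 1
  simp only [commutatorElement_def]; group

theorem extraspecial (h : XS p Q Z) : IsExtraspecial p Q := by
  have hZ : Nat.card (Zc Q) = p := by rw [Zc, h.zc, h.card]
  refine extraspecial_of_der_eq_Zc hp.out h.pgrp ?_ hZ
  have h1 : ⁅Q, Q⁆ ≤ Zc Q := by
    rw [Zc, h.zc]; exact commutator_le.2 h.comm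
  refine (H9.eq_bot_or_eq_of_card_prime hp.out hZ h1).resolve_left fun h0 => ?_
  have h2 : Q = Z := by rw [← h.zc]; exact (inf_eq_left.2 (FT.commutator_eq_bot_iff.1 h0)).symm
  have h3 := h.big
  rw [h2, h.card] at h3
  have := Nat.pow_lt_pow_right hp.out.one_lt (show 1 < 5 by norm_num)
  rw [pow_one] at this
  omega

theorem of_extraspecial (h : IsExtraspecial p Q) (h5 : p ^ 5 ≤ Nat.card Q) : XS p Q (Q ⊓ 𝒞(Q)) := by
  obtain ⟨h1, h2, h3, h4⟩ := (extraspecial_iff hp.out).1 h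
  exact ⟨rfl, h4, fun a ha b hb => h3.le (commutator_mem_commutator ha hb), h1, h5⟩

/-- Duality: `|A : A ∩ Z| ≤ |Q : C_Q(A)|`. -/
theorem relIndex_le (h : XS p Q Z) (hA : A ≤ Q) : Z.relIndex A ≤ (𝒞(A)).relIndex Q := by
  have := relIndex_cent_le_of_commutator_mem (P := A) (Z := Z) (B := Q ⊓ 𝒞(A)) (B' := Q) hp.out
    h.card (hA.trans (cent_comm.1 h.le_cent)) h.pgrp (fun g hg e he => h.comm g (hA hg) e he)
    inf_le_left
  rw [inf_eq_left.2 (cent_comm.1 inf_le_right), inf_comm, inf_relIndex_right] at this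
  refine le_trans (le_of_eq ?_) this
  rw [← h.zc, ← inf_relIndex_right, ← inf_relIndex_right (𝒞(Q)), inf_right_comm,
    inf_eq_right.2 hA, inf_comm]

/-- Duality: `|Q : C_Q(A)| ≤ |A : A ∩ Z|`. -/
theorem relIndex_le' (h : XS p Q Z) (hA : A ≤ Q) : (𝒞(A)).relIndex Q ≤ Z.relIndex A := by
  have := relIndex_cent_le_of_commutator_mem (P := Q) (Z := Z) (B := Z ⊓ A) (B' := A) hp.out
    h.card (cent_comm.1 h.le_cent) (h.pgrp.to_le hA) (fun g hg e he => h.comm g hg e (hA he))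
    inf_le_right
  rwa [inf_eq_left.2 ((cent_comm.1 h.le_cent).trans (cent_le_cent inf_le_left)),
    inf_relIndex_right] at this

theorem card_le' (h : XS p Q Z) (hA : A ≤ Q) : Nat.card A ≤ p * (𝒞(A)).relIndex Q := by
  have h1 := H9.card_eq_relIndex_mul' (K := Z) (L := A)
  have h2 : Nat.card (Z ⊓ A : Subgroup G) ≤ p := h.card ▸ H9.card_le_of_le' inf_le_left
  rw [h1, mul_comm]
  exact Nat.mul_le_mul h2 (h.relIndex_le hA)

theorem card_le (h : XS p Q Z) (hA : A ≤ Q) (hab : A ≤ 𝒞(A)) :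
    Nat.card Q ≤ p * (A.relIndex Q * A.relIndex Q) := by
  have h1 := H9.card_eq_relIndex_mul' (K := A) (L := Q)
  rw [inf_eq_left.2 hA] at h1
  have h3 : (𝒞(A)).relIndex Q ≤ A.relIndex Q :=
    relIndex_le_of_le_left hab (relIndex_ne_zero' _ _)
  have h2 := (h.card_le' hA).trans (Nat.mul_le_mul_left p h3)
  calc Nat.card Q = A.relIndex Q * Nat.card A := h1
    _ ≤ A.relIndex Q * (p * A.relIndex Q) := Nat.mul_le_mul_left _ h2
    _ = _ := by ring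

/-- An abelian subgroup has index larger than `p`. -/
theorem lt_relIndex (h : XS p Q Z) (hA : A ≤ Q) (hab : A ≤ 𝒞(A)) : p < A.relIndex Q := by
  have := h.card_le hA hab
  by_contra hle
  push Not at hle
  have h1 : p ^ 5 ≤ p * (p * p) := h.big.trans (this.trans (by gcongr))
  have h2 := Nat.pow_lt_pow_right hp.out.one_lt (show 3 < 5 by norm_num)
  have : p * (p * p) = p ^ 3 := by ring
  omega

/-- An abelian subgroup of index at most `p ^ 2` forces `|Q| = p ^ 5`. -/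
theorem card_eq (h : XS p Q Z) (hA : A ≤ Q) (hab : A ≤ 𝒞(A)) (hi : A.relIndex Q ≤ p ^ 2) :
    Nat.card Q = p ^ 5 ∧ A.relIndex Q = p ^ 2 ∧ Q ⊓ 𝒞(A) = A := by
  have hp1 := hp.out.one_lt
  have h1 := h.card_le hA hab
  have h5 : Nat.card Q = p ^ 5 := le_antisymm (h1.trans (by
    calc p * (A.relIndex Q * A.relIndex Q) ≤ p * (p ^ 2 * p ^ 2) := by gcongr
      _ = p ^ 5 := by ring)) h.big
  have h2 : A.relIndex Q = p ^ 2 := by
    obtain ⟨n, hn⟩ := H9.exists_relIndex_eq_pow (H := A) h.pgrp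
    have h3 := h.lt_relIndex hA hab
    rw [hn] at hi h3 ⊢
    have h4 := (Nat.pow_le_pow_iff_right hp1).1 hi
    have h6 : 1 < n := (Nat.pow_lt_pow_iff_right hp1).1 (by rwa [pow_one])
    congr 1; omega
  refine ⟨h5, h2, ?_⟩
  have h3 : Nat.card A = p ^ 3 := H9.card_eq_of_relIndex hA hp.out.pos (a := 3) (b := 2) h5 h2
  have h4 := h.card_le' hA
  have h6 : p ^ 2 ≤ (𝒞(A)).relIndex Q := by
    rw [h3, show p ^ 3 = p * p ^ 2 by ring] at h4
    exact Nat.le_of_mul_le_mul_left h4 hp.out.pos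
  refine (eq_of_le_of_card_le (le_inf hA hab) ?_).symm
  have h7 := H9.card_eq_relIndex_mul' (K := 𝒞(A)) (L := Q)
  rw [h5, inf_comm, show p ^ 5 = p ^ 2 * p ^ 3 by ring] at h7
  rw [h3]
  refine Nat.le_of_mul_le_mul_left (c := p ^ 2) ?_ (pow_pos hp.out.pos 2)
  rw [h7]
  exact Nat.mul_le_mul_right _ h6

theorem relIndex_cent1 (h : XS p Q Z) {a : G} (ha : a ∈ Q) (hz : a ∉ Z) :
    (𝒞[a]).relIndex Q = p := by
  exact cent1_extraspecial_relIndex hp.out h.extraspecial ha (by rwa [Zc, h.zc])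

end XS

namespace Loc

variable [hp : Fact p.Prime] [Finite G]

theorem S_le_normQ (h : Loc p S Q Z R Γ) : S ≤ 𝒩(Q) := by
  exact H9.le_normalizer_of_relIndex_eq h.hS h.QS h.idx

theorem S_le_centZ (h : Loc p S Q Z R Γ) : S ≤ 𝒞(Z) := by
  exact fun x hx => mem_cent.2 fun z hz =>
    (H9.commute_of_card_prime h.xs.card h.hS (h.S_le_normQ.trans h.xs.norm_le) hx hz).symm

theorem Z_le (h : Loc p S Q Z R Γ) : Z ≤ R := by
  exact (le_inf (h.xs.le.trans h.QS) (cent_comm.1 (h.RS.trans h.S_le_centZ))).trans h.cen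

theorem pR (h : Loc p S Q Z R Γ) : IsPGroup p R := by
  exact h.hS.to_le h.RS

theorem comm_mem_Q (h : Loc p S Q Z R Γ) {a b : G} (ha : a ∈ S) (hb : b ∈ S) : ⁅a, b⁆ ∈ Q := by
  exact H9.Phi_le_of_relIndex_eq h.hS h.QS h.idx (H9.commutator_mem_Phi ha hb)

theorem pow_mem_Q (h : Loc p S Q Z R Γ) {a : G} (ha : a ∈ S) : a ^ p ∈ Q := by
  exact H9.pow_mem_of_relIndex_prime h.hS h.QS h.idx ha

theorem card_S (h : Loc p S Q Z R Γ) : Nat.card S = p * Nat.card Q := by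
  have := H9.card_eq_relIndex_mul' (K := Q) (L := S)
  rwa [h.idx, inf_eq_left.2 h.QS] at this

theorem sup_zpowers (h : Loc p S Q Z R Γ) {w : G} (hw : w ∈ S) (hw' : w ∉ Q) :
    Q ⊔ zpowers w = S := by
  exact H9.sup_zpowers_eq_of_relIndex_prime hp.out h.idx h.QS hw hw'

theorem not_Q_le (h : Loc p S Q Z R Γ) : ¬ Q ≤ R := by
  intro hle
  rcases H9.eq_or_eq_of_relIndex_prime hp.out h.idx hle h.RS with h1 | h1
  · exact h.neQ h1
  · exact h.neS h1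

theorem NC_le_Gd (h : Loc p S Q Z R Γ) : NC S R ≤ Gd Q R := by
  exact sup_le_sup_right (inf_le_inf_right _ h.S_le_normQ) _

theorem N_le_Gd (h : Loc p S Q Z R Γ) : S ⊓ 𝒩(R) ≤ Gd Q R := by
  exact le_sup_left.trans h.NC_le_Gd

theorem Gd_le_normZ (h : Loc p S Q Z R Γ) : Gd Q R ≤ 𝒩(Z) := by
  exact sup_le (inf_le_left.trans h.xs.norm_le) ((cent_le_cent h.Z_le).trans cent_le_norm)

/-- `N_Q(R) ≰ R`. -/
theorem exists_N0 (h : Loc p S Q Z R Γ) : ∃ x ∈ Q, x ∈ 𝒩(R) ∧ x ∉ R := by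
  obtain ⟨x, h1, h2, h3, -⟩ := H9.exists_mem_normalizer_of_not_le h.hS h.QS h.RS
    (h.RS.trans h.S_le_normQ) h.not_Q_le
  exact ⟨x, h1, h3, h2⟩

/-- The TI lemma. -/
theorem ti (h : Loc p S Q Z R Γ) (hg : g ∈ Γ) (hx : x ∈ S ⊓ 𝒩(R)) (hxR : x ∉ R)
    (hx' : x' ∈ S ⊓ 𝒩(R)) (hxR' : x' ∉ R)
    (hX : PAct p (closure ({x, g * x' * g⁻¹} : Set G)) R) : g ∈ Gd Q R := by
  have hle : closure ({x, g * x' * g⁻¹} : Set G) ≤ Γ := by
    rw [closure_le]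
    rintro y (rfl | rfl)
    · exact h.NΓ hx
    · exact Γ.mul_mem (Γ.mul_mem hg (h.NΓ hx')) (Γ.inv_mem hg)
  obtain ⟨k, hk, hk'⟩ := h.syl _ hle hX
  have h1 := h.ext k hk x hx hxR (hk' _ (subset_closure (Or.inl rfl)))
  have h2 := h.ext (k * g) (Γ.mul_mem hk hg) x' hx' hxR' (by
    have := hk' _ (subset_closure (Or.inr rfl))
    convert this using 1
    group)
  simpa using (Gd Q R).mul_mem ((Gd Q R).inv_mem h1) h2

/-- The configuration conjugated by an element of `Γ` (the primed configuration). -/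
theorem conj (h : Loc p S Q Z R Γ) (hg : g ∈ Γ) : Loc p (cj g S) (cj g Q) (cj g Z) R Γ := by
  have hR : cj g R = R := cj_eq_self_iff.2 (h.ΓN hg)
  have hΓ : cj g Γ = Γ := cj_eq_self_of_mem hg
  have hN : cj g (S ⊓ 𝒩(R)) = cj g S ⊓ 𝒩(R) := by rw [cj_inf, cj_normalizer, hR]
  have hNC : cj g (NC S R) = NC (cj g S) R := by rw [NC, NC, cj_sup, hN, cj_centralizer, hR]
  refine ⟨h.odd, isPGroup_cj g h.hS, h.xs.cj g, cj_mono g h.QS, by rw [relIndex_cj, h.idx],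
    hR ▸ cj_mono g h.RS, fun e => h.neS (cj_injective g (hR.trans e)),
    fun e => h.neQ (cj_injective g (hR.trans e)), ?_, ?_, h.ΓN, fun X hX hP => ?_,
    fun k hk x hx hxR hc => ?_, fun hle => h.bad ?_⟩
  · have := cj_mono g h.cen
    rwa [cj_inf, cj_centralizer, hR] at this
  · rw [← hN, ← hΓ]; exact cj_mono g h.NΓ
  · obtain ⟨k, hk, hk'⟩ := h.syl X hX hP
    refine ⟨g * k, Γ.mul_mem hg hk, fun x hx => ?_⟩
    rw [← hNC, mem_cj]
    convert hk' x hx using 1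
    group
  · rw [mem_Gd_cj (h.ΓN hg)]
    rw [← hN, mem_cj] at hx
    rw [← hNC, mem_cj] at hc
    refine h.ext _ (Γ.mul_mem (Γ.mul_mem (Γ.inv_mem hg) hk) hg) _ hx (fun hh => hxR ?_) ?_
    · rw [← hR, mem_cj]; exact hh
    · convert hc using 1
      group
  · rw [← cj_Gd (h.ΓN hg)] at hle
    rw [← cj_le_cj_iff (g := g), hΓ]
    exact hle

theorem inv_not_mem_cj (h : Loc p S Q Z R Γ) (hg : g ∈ Γ) (hb : g ∉ Gd Q R) :
    g⁻¹ ∉ Gd (cj g Q) R := by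
  rw [mem_Gd_cj (h.ΓN hg)]
  intro h1
  exact hb (by simpa using (Gd Q R).inv_mem h1)

/-- Case 0. -/
theorem not_le (h : Loc p S Q Z R Γ) : ¬ R ≤ Q := by
  intro hRQ
  obtain ⟨g, hg, hb⟩ := SetLike.not_le_iff_exists.1 h.bad
  have hQN : Q ≤ 𝒩(R) := fun q hq => H6.mem_normalizer_of_conj_mem fun r hr => by
    have : q * r * q⁻¹ = ⁅q, r⁆ * r := by simp [commutatorElement_def]
    rw [this]; exact R.mul_mem (h.Z_le (h.xs.comm q hq r (hRQ hr))) hr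
  have hR : cj g R = R := cj_eq_self_iff.2 (h.ΓN hg)
  have h' := h.conj hg
  have hRQ' : R ≤ cj g Q := hR ▸ cj_mono g hRQ
  -- the general step
  have key : ∀ x ∈ Q, x ∉ R → ∀ x' ∈ Q, x' ∉ R → x ∈ 𝒞(cj g Z) → g * x' * g⁻¹ ∈ 𝒞(Z) → False := by
    intro x hx hxR x' hx' hxR' h1 h2
    have hW : Z ⊔ cj g Z ≤ R := sup_le h.Z_le h'.Z_le
    have hx2 : g * x' * g⁻¹ ∈ cj g Q := conj_mem_cj hx'
    have hc : closure ({x, g * x' * g⁻¹} : Set G) ≤ 𝒞(Z ⊔ cj g Z) := by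
      rw [closure_le, FT.cent_sup]
      rintro y (rfl | rfl)
      · exact ⟨cent_comm.1 h.xs.le_cent hx, h1⟩
      · exact ⟨h2, cent_comm.1 h'.xs.le_cent hx2⟩
    refine hb (h.ti hg ⟨h.QS hx, hQN hx⟩ hxR ⟨h.QS hx', hQN hx'⟩ hxR' ?_)
    refine (pAct_of_le_cent hc).step (h.pR.to_le hW) (hc.trans cent_le_norm) ?_
    refine closure_pair_comm (cent_le_norm (hc (subset_closure (Or.inl rfl))))
      (cent_le_norm (hc (subset_closure (Or.inr rfl)))) (fun r hr => ?_) (fun r hr => ?_)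
    · exact mem_sup_left (h.xs.comm x hx r (hRQ hr))
    · exact mem_sup_right (h'.xs.comm _ hx2 r (hRQ' hr))
  by_cases hZ : Z ≤ cj g Z
  · have hZ' : Z = cj g Z := eq_of_le_of_card_le hZ (card_cj g Z).le
    obtain ⟨x, hx, hxR⟩ := SetLike.not_le_iff_exists.1 h.not_Q_le
    refine key x hx hxR x hx hxR (hZ' ▸ cent_comm.1 h.xs.le_cent hx) ?_
    rw [hZ']; exact cent_comm.1 h'.xs.le_cent (conj_mem_cj hx)
  · have hi := H9.inf_eq_bot_of_card_prime hp.out h.xs.card hZ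
    have hab : R ≤ 𝒞(R) := fun a ha => mem_cent.2 fun b hb => by
      have : ⁅b, a⁆ ∈ Z ⊓ cj g Z :=
        ⟨h.xs.comm b (hRQ hb) a (hRQ ha), h'.xs.comm b (hRQ' hb) a (hRQ' ha)⟩
      rw [hi, mem_bot] at this
      exact commutatorElement_eq_one_iff_mul_comm.1 this
    have aux : ∀ {Q Z Y : Subgroup G}, XS p Q Z → R ≤ Q → Y ≤ R → Nat.card Y = p →
        ∃ x ∈ Q, x ∉ R ∧ x ∈ 𝒞(Y) := by
      intro Q Z Y hx h1 h2 h3
      by_contra hcon
      push Not at hcon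
      have h4 : Q ⊓ 𝒞(Y) ≤ R := fun x hx => by_contra fun hh => hcon x hx.1 hh hx.2
      have h5 := hx.lt_relIndex h1 hab
      have h6 := hx.relIndex_le' (h2.trans h1)
      have h7 : R.relIndex Q ≤ (Q ⊓ 𝒞(Y)).relIndex Q :=
        relIndex_le_of_le_left h4 (relIndex_ne_zero' _ _)
      rw [inf_comm, inf_relIndex_right] at h7
      have h8 : Z.relIndex Y ≤ Nat.card Y :=
        Nat.le_of_dvd (H9.card_pos' Y) (relIndex_dvd_card _ _)
      omega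
    obtain ⟨x, hx, hxR, hxc⟩ := aux h.xs hRQ h'.Z_le h'.xs.card
    obtain ⟨y, hy, hyR, hyc⟩ := aux h'.xs hRQ' h.Z_le h.xs.card
    refine key x hx hxR (g⁻¹ * y * g) (mem_cj.1 hy) (fun hh => hyR ?_) hxc (by simpa [mul_assoc] using hyc)
    rw [← hR, mem_cj]; exact hh

theorem sup_eq (h : Loc p S Q Z R Γ) : Q ⊔ R = S :=
  (H9.eq_or_eq_of_relIndex_prime hp.out h.idx le_sup_left (sup_le h.QS h.RS)).resolve_left
    fun e => h.not_le (e ▸ le_sup_right)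

theorem relIndex_R (h : Loc p S Q Z R Γ) : Q.relIndex R = p := by
  rw [← relIndex_sup_of_norm (K := Q) (H := R) (h.RS.trans h.S_le_normQ), h.sup_eq, h.idx]

theorem norm_S (h : Loc p S Q Z R Γ) : 𝒩(Q) ⊓ 𝒩(R) ≤ 𝒩(S) := by
  rw [← h.sup_eq]; exact H1.le_normalizer_sup inf_le_left inf_le_right

theorem Gd_le_normNC (h : Loc p S Q Z R Γ) : Gd Q R ≤ 𝒩(NC S R) := by
  refine sup_le (H1.le_normalizer_sup (H1.le_normalizer_inf h.norm_S
    (inf_le_right.trans le_normalizer)) (H1.le_normalizer_centralizer inf_le_right)) ?_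
  exact le_sup_right.trans le_normalizer

theorem pAct_NC (h : Loc p S Q Z R Γ) : PAct p (NC S R) R := by
  intro x hx
  rw [NC, sup_comm, H9.mem_sup_of_le_normalizer' (H1.le_normalizer_centralizer inf_le_right)] at hx
  obtain ⟨c, hc, n, hn, rfl⟩ := hx
  obtain ⟨k, hk⟩ := H9.exists_pow_eq_one h.hS hn.1
  have := mul_pow_mul_inv_mem (H1.normalizer_le_normalizer_centralizer R hn.2) hc (p ^ k)
  rw [hk, inv_one, mul_one] at this
  exact ⟨k, this⟩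

/-- A good element of `Γ` acting on `R` as a `p`-element acts like an element of `N_S(R)`. -/
theorem mem_NC_of_Gd (h : Loc p S Q Z R Γ) {y : G} (hy : y ∈ Γ) (hy' : y ∈ Gd Q R) {k : ℕ}
    (hk : y ^ p ^ k ∈ 𝒞(R)) : y ∈ NC S R := by
  have hn : y ∈ 𝒩(NC S R ⊓ Γ) := H1.le_normalizer_inf (A := zpowers y)
    (zpowers_le.2 (h.Gd_le_normNC hy')) (zpowers_le.2 (le_normalizer hy)) (mem_zpowers y)
  have hP : PAct p (NC S R ⊓ Γ ⊔ zpowers y) R := by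
    intro x hx
    obtain ⟨a, ha, i, rfl⟩ := (H9.mem_sup_zpowers hn).1 hx
    have h1 := (mul_pow_mul_inv_mem (zpow_mem hn i) ha (p ^ k)).1
    have h2 : (y ^ i) ^ p ^ k ∈ NC S R := by
      rw [← zpow_natCast, ← zpow_mul, mul_comm, zpow_mul, zpow_natCast]
      exact zpow_mem (mem_sup_right hk) i
    have h3 : (a * y ^ i) ^ p ^ k ∈ NC S R := by simpa using mul_mem h1 h2
    obtain ⟨j, hj⟩ := h.pAct_NC _ h3
    exact ⟨k + j, by rwa [pow_add, pow_mul]⟩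
  obtain ⟨c, hc, hc'⟩ := h.syl _ (sup_le inf_le_right (zpowers_le.2 hy)) hP
  obtain ⟨x, hx, hxn, hxR⟩ := h.exists_N0
  have hxN : x ∈ S ⊓ 𝒩(R) := ⟨h.QS hx, hxn⟩
  have h1 := h.ext c hc x hxN hxR (hc' x (mem_sup_left ⟨mem_sup_left hxN, h.NΓ hxN⟩))
  exact (mem_normalizer_iff.1 (h.Gd_le_normNC h1) y).2 (hc' y (mem_sup_right (mem_zpowers y)))

end Loc

end Cfsg.Agent.EX
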