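import Cfsg.Agent.Lib.EX.CII2
import Cfsg.Agent.Lib.EX.Crit
import Cfsg.Agent.Lib.H9.MaxClass

/-!
# S5177: the pearl (see notes/EX.md)
-/

set_option autoImplicit false
set_option linter.unusedSectionVars false
set_option linter.unusedVariables false

namespace Cfsg.Agent.EX

open Subgroup Cfsg.Agent.H6 Cfsg.Agent.FT
open scoped commutatorElement

universe u

variable {G : Type u} [Group G] [Finite G] {p : ℕ} [hp : Fact p.Prime] {S Q Z R Γ : Subgroup G}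
  {g : G}

theorem card_eq_of_jordan {V : Type*} [AddCommGroup V] [Module (ZMod p) V] [Finite V]
    {δ : Module.End (ZMod p) V} {a v : V} {j : ℕ} (ha : a ≠ 0) (ha1 : δ a = 0)
    (hker : ∀ u, δ u = 0 → ∃ c : ZMod p, u = c • a) (hj : δ ^ (j + 1) = 0) (hv : (δ ^ j) v = a) :
    Nat.card V = p ^ (j + 1) := by
  have step : ∀ k ≤ j, Nat.card (LinearMap.range (δ ^ k)) =
      p * Nat.card (LinearMap.range (δ ^ (k + 1))) := fun k hk => by
    have h1 := Submodule.card_eq_card_quotient_mul_card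
      (LinearMap.ker (δ.domRestrict (LinearMap.range (δ ^ k))))
    rw [Nat.card_congr (δ.domRestrict (LinearMap.range (δ ^ k))).quotKerEquivRange.toEquiv,
      LinearMap.range_domRestrict, ← LinearMap.range_comp] at h1
    have h2 : Submodule.span (ZMod p) {a} ≤ LinearMap.range (δ ^ k) := by
      rw [Submodule.span_singleton_le_iff_mem]
      refine ⟨(δ ^ (j - k)) v, ?_⟩
      rw [← Module.End.mul_apply, ← pow_add, Nat.add_sub_cancel' hk, hv]
    have h3 : LinearMap.ker (δ.domRestrict (LinearMap.range (δ ^ k))) =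
        (Submodule.span (ZMod p) {a}).comap (LinearMap.range (δ ^ k)).subtype := by
      ext u
      rw [LinearMap.mem_ker, Submodule.mem_comap, Submodule.mem_span_singleton]
      refine ⟨fun h => (hker u h).imp fun c hc => hc.symm, fun ⟨c, hc⟩ => ?_⟩
      change δ ((LinearMap.range (δ ^ k)).subtype u) = 0
      rw [← hc, map_smul, ha1, smul_zero]
    rw [h3, Nat.card_congr (Submodule.comapSubtypeEquivOfLe h2).toEquiv,
      ← Nat.card_congr (LinearEquiv.toSpanNonzeroSingleton (ZMod p) V a ha).toEquiv, Nat.card_zmod] at h1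
    rw [h1, pow_succ']
    rfl
  have all : ∀ k ≤ j + 1, Nat.card V = p ^ k * Nat.card (LinearMap.range (δ ^ k)) := fun k hk => by
    induction k with
    | zero =>
      rw [pow_zero, pow_zero, one_mul, Module.End.one_eq_id, LinearMap.range_id,
        Nat.card_congr Submodule.topEquiv.toEquiv]
    | succ k ih => rw [ih (by omega), step k (by omega), pow_succ p, mul_assoc]
  rw [all (j + 1) le_rfl, hj, LinearMap.range_zero]
  simp

/-- The torus of the pearl. -/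
theorem II2.torus (h : II2 p S Q Z R Γ) (hR : R ⊓ Q = Z) (hg : g ∈ Γ) (hb : g ∉ Gd Q R) {z w t : G}
    (hz : z ∈ Z) (hz1 : z ≠ 1) (hw : w ∈ cj g Z) (hw1 : w ≠ 1) (ht : t ∈ Q) (htn : t ∈ 𝒩(R))
    (htR : t ∉ R) {l : ZMod p} (hl : l ≠ 0) :
    ∃ m ∈ 𝒩(Q), m ∈ 𝒩(R) ∧ m * z * m⁻¹ = pw z l⁻¹ ∧ m * w * m⁻¹ = pw w l := by
  have h' := h.conj hg
  have hR' : R ⊓ cj g Q = cj g Z := by
    rw [← hR, cj_inf, cj_eq_self_iff.2 (h.ΓN hg)]
  obtain ⟨t', ht', htn', htR'⟩ := h'.exists_N0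
  obtain ⟨E, _, _, _, ⟨e⟩⟩ := h.exists_E
  have hbot : ∀ t : G, t ∈ 𝒩((⊥ : Subgroup G)) := fun t => by rw [norm_bot]; trivial
  have hwR := (h.cj_le_cent hg hw).1
  have hzR := h.Z_le hz
  have aux : ∀ {Q Z : Subgroup G} {z w t : G}, XS p Q Z → R ⊓ Q = Z → z ∈ Z → z ≠ 1 → w ∈ R → t ∈ Q →
      t ∈ 𝒩(R) → ⁅t, w⁆ ∈ Q → ⁅t, w⁆ ≠ 1 → e.ρ t (e.π z) = e.π z ∧
        ∃ c : ZMod p, c ≠ 0 ∧ e.ρ t (e.π w) = e.π w + c • e.π z := by
    intro Q Z z w t hx hR hz hz1 hwR ht htn h1 h2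
    have hzR : z ∈ R := (hR.ge hz).1
    have h3 : ⁅t, w⁆ ∈ Z := hR.le ⟨R.mul_mem (H6.conj_mem_of_mem_normalizer htn hwR) (R.inv_mem hwR), h1⟩
    rw [hx.eq_zpowers hz hz1, mem_zpowers_iff_pw (hx.pow_eq_one hz)] at h3
    obtain ⟨c, hc⟩ := h3
    refine ⟨by rw [e.ρ_π t htn (hbot t) _ hzR, mem_cent.1 (hx.le_cent hz) t ht, mul_inv_cancel_right],
      c, fun h0 => h2 (by rw [hc, h0, pw_zero]), ?_⟩
    rw [← e.π_pw hzR, ← hc, e.π_comm htn (hbot t) hwR]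
    abel
  obtain ⟨e1, c, hc, e2⟩ := aux h.xs hR hz hz1 hwR ht htn (h.comm_mem_Q (h.QS ht) (h.RS hwR))
    fun h0 => h.comm_not_mem hg hb hw hw1 ht htn htR (h0 ▸ one_mem _)
  obtain ⟨e3, c', hc', e4⟩ := aux h'.xs hR' hw hw1 hzR ht' htn' (h'.comm_mem_Q (h'.QS ht') (h'.RS hzR))
    fun h0 => h'.comm_not_mem (Γ.inv_mem hg) (h.inv_not_mem_cj hg hb) (by rwa [cj_inv_cj]) hz1 ht'
      htn' htR' (h0 ▸ one_mem _)
  obtain ⟨τ, hτ, e5, e6⟩ := e.sl2 htn (hbot _) htn' (hbot _) hc hc' e1 e2 e3 e4 hl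
  have hτΓ : τ ∈ Γ := (closure_le Γ).2 (by
    rintro y (rfl | rfl)
    · exact h.NΓ ⟨h.QS ht, htn⟩
    · exact h'.NΓ ⟨h'.QS ht', htn'⟩) hτ
  have hτn := h.ΓN hτΓ
  rw [e.ρ_π _ hτn (hbot _) _ hzR, ← e.π_pw hzR, e.π_eq_iff (H6.conj_mem_of_mem_normalizer hτn hzR)
    (pw_mem hzR _), mem_bot, mul_inv_eq_one] at e5
  rw [e.ρ_π _ hτn (hbot _) _ hwR, ← e.π_pw hwR, e.π_eq_iff (H6.conj_mem_of_mem_normalizer hτn hwR)
    (pw_mem hwR _), mem_bot, mul_inv_eq_one] at e6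
  obtain ⟨m, h1, h2, h3⟩ := mem_Gd.1 (h.caseI hτΓ (mem_normalizer_of_cj_le (by
    conv_lhs => rw [h.xs.eq_zpowers hz hz1]
    rw [cj_zpowers, e5]
    exact zpowers_le.2 (pw_mem hz _))))
  exact ⟨m, h1, h2, by rw [← h3 z hzR, e5], by rw [← h3 w hwR, e6]⟩

theorem II2.pearl (h : II2 p S Q Z R Γ) (hR : R ⊓ Q = Z) : Out p S := by
  obtain ⟨g, hg, hb⟩ := SetLike.not_le_iff_exists.1 h.bad
  obtain ⟨w, hw, hw1⟩ := h.exists_w g
  obtain ⟨z, hz, hz1⟩ := (bot_or_exists_ne_one _).resolve_left h.xs.ne_bot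
  obtain ⟨V, _, _, _, s, rfl⟩ := h.xs.exists_sp h.odd hz hz1
  obtain ⟨t, ht, htn, htR⟩ := h.exists_N0
  have hwR := (h.cj_le_cent hg hw).1
  have hwS := h.RS hwR
  have hSQ := h.S_le_normQ
  have hwQ : w ∈ 𝒩(Q) := hSQ hwS
  have hwp : w ^ p = 1 := h.pow hwR
  have hwnQ := h.not_mem hg hb hw hw1
  have hcen : ∀ y ∈ Z, ∀ x ∈ S, Commute x y := fun y hy x hx => (mem_cent.1 (h.S_le_centZ hx) y hy).symm
  have hcZ : ∀ q ∈ Q, q ∈ 𝒩(R) → ⁅q, w⁆ ∈ Z := fun q hq hqn => hR.le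
    ⟨R.mul_mem (H6.conj_mem_of_mem_normalizer hqn hwR) (R.inv_mem hwR), h.comm_mem_Q (h.QS hq) hwS⟩
  have hc1 : ⁅t, w⁆ ≠ 1 := fun h0 => h.comm_not_mem hg hb hw hw1 ht htn htR (h0 ▸ one_mem _)
  obtain ⟨c1, hc1'⟩ := (s.mem_Z _).1 (hcZ t ht htn)
  have hc10 : c1 ≠ 0 := fun h0 => hc1 (by rw [hc1', h0, pw_zero])
  have ha : s.π t ≠ 0 := fun h0 => htR (h.Z_le ((s.π_eq_zero t ht).1 h0))
  have hfixN : ∀ q ∈ Q, q ∈ 𝒩(R) → s.ρ w (s.π q) = s.π q := fun q hq hqn => by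
    rw [← sub_eq_zero, ← s.πcomm hwQ hq, s.π_eq_zero _ (h.comm_mem_Q hwS (h.QS hq)),
      ← commutatorElement_inv]
    exact Z.inv_mem (hcZ q hq hqn)
  have ha1 := hfixN t ht htn
  -- commutators of `N_Q(R)` with `w`
  have hlin : ∀ q ∈ Q, ∀ k : ZMod p, s.π q = k • s.π t → ⁅q, w⁆ = pw s.z (k * c1) := fun q hq k hk => by
    rw [← s.π_pw ht, s.π_eq_iff hq (pw_mem ht k)] at hk
    have e1 : ⁅pw t k, w⁆ = pw s.z (k * c1) := by
      rw [pw, H9.commutator_pow_left_of_commute (hcen _ (hcZ t ht htn) t (h.QS ht)), hc1',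
        pw_pow s.z_pow, ZMod.natCast_zmod_val]
    rw [show q = q * (pw t k)⁻¹ * pw t k by group, H9.commutator_mul_left_of_commute
      (by rw [e1]; exact hcen _ (pw_mem hz _) _ (h.QS (h.xs.le hk))), e1,
      commutatorElement_eq_one_iff_commute.2 (hcen _ hk w hwS).symm, mul_one]
  have hker : ∀ u, s.ρ w u = u → ∃ k : ZMod p, u = k • s.π t := fun u hu => by
    obtain ⟨q, hq, rfl⟩ := s.surj u
    have h1 : ⁅w, q⁆ ∈ Z := by
      rw [← s.π_eq_zero _ (h.comm_mem_Q hwS (h.QS hq)), s.πcomm hwQ hq, hu, sub_self]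
    obtain ⟨c, hc⟩ := (s.mem_Z _).1 (hcZ q hq (h.mem_norm_of_comm hg hb hw hw1 hq (h.Z_le h1)))
    have hq' := Q.mul_mem hq (pw_mem ht (-(c / c1)))
    have h2 : q * pw t (-(c / c1)) ∈ S ⊓ 𝒞[w] := ⟨h.QS hq', mem_cent1.2 (by
      have e1 := hlin _ (pw_mem ht (-(c / c1))) _ (s.π_pw ht _)
      rw [← commutatorElement_eq_one_iff_mul_comm, H9.commutator_mul_left_of_commute
        (by rw [e1]; exact hcen _ (pw_mem hz _) _ (h.QS hq)), e1, hc, ← pw_add s.z_pow,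
        neg_mul, div_mul_cancel₀ _ hc10, neg_add_cancel, pw_zero])⟩
    rw [h.cent1_eq hg hb hw hw1] at h2
    have h3 := (s.π_eq_zero _ hq').2 (hR.le ⟨h2, hq'⟩)
    rw [s.π_mul _ hq _ (pw_mem ht _), s.π_pw ht] at h3
    exact ⟨c / c1, by linear_combination (norm := module) h3⟩
  have hiso : ∀ y ∈ S, ∀ u v, s.B (s.ρ y u) (s.ρ y v) = s.B u v := fun y hy =>
    s.B_ρ_of_cent (hSQ hy) (h.S_le_centZ hy)
  -- elements outside `Q`
  have hρ : ∀ y ∈ S, ∃ q ∈ Q, ∃ i : ℕ, y = q * w ^ i ∧ s.ρ y = s.ρ w ^ i := fun y hy => by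
    rw [← h.sup_zpowers hwS hwnQ] at hy
    obtain ⟨q, hq, i, rfl⟩ := (H9.mem_sup_zpowers hwQ).1 hy
    refine ⟨q, hq, (i : ZMod p).val, by rw [← pw_intCast hwp]; rfl, ?_⟩
    rw [s.ρ_mul (le_normalizer hq) (s.normZ (le_normalizer hq)) (zpow_mem hwQ i)
      (s.normZ (zpow_mem hwQ i)), s.ρ_of_mem hq, one_mul, ← pw_intCast hwp, pw,
      s.ρ_pow hwQ (s.normZ hwQ)]
  have hfixk : ∀ (f : Module.End (ZMod p) V) (k : ℕ) u, f u = u → (f ^ k) u = u := fun f k u hu => by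
    induction k with
    | zero => simp
    | succ k ih => rw [pow_succ, Module.End.mul_apply, hu, ih]
  have hfixS : ∀ y ∈ S, s.ρ y (s.π t) = s.π t := fun y hy => by
    obtain ⟨q, -, i, -, e⟩ := hρ y hy
    rw [e, hfixk _ _ _ ha1]
  have hkerS : ∀ y ∈ S, y ∉ Q → ∀ u, s.ρ y u = u → ∃ k : ZMod p, u = k • s.π t := fun y hy hyQ u hu => by
    have hw' := hwS
    rw [← h.sup_zpowers hy hyQ] at hw'
    obtain ⟨q, hq, i, e⟩ := (H9.mem_sup_zpowers (hSQ hy)).1 hw'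
    obtain ⟨n, hn⟩ := (mem_powers_iff_mem_zpowers.2 (zpow_mem (mem_zpowers y) i) : y ^ i ∈ Submonoid.powers y)
    refine hker u ?_
    rw [e, ← hn, s.ρ_mul (le_normalizer hq) (s.normZ (le_normalizer hq)) (pow_mem (hSQ hy) n)
      (s.normZ (pow_mem (hSQ hy) n)), s.ρ_of_mem hq, one_mul, s.ρ_pow (hSQ hy) (s.normZ (hSQ hy)),
      hfixk _ _ _ hu]
  have hrange : ∀ y ∈ S, y ∉ Q → ∀ u, s.B (s.π t) u = 0 → ∃ u', s.ρ y u' - u' = u :=
    fun y hy hyQ u hu => (mem_range_iff s.skew s.nondeg (hiso y hy)).2 fun a' ha' => by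
      obtain ⟨k, rfl⟩ := hkerS y hy hyQ a' ha'
      rw [map_smul, LinearMap.smul_apply, hu, smul_zero]
  have hρp : s.ρ w ^ p = 1 := by rw [← s.ρ_pow hwQ (s.normZ hwQ), hwp, s.ρ_one]
  obtain ⟨j, -, hj, v, hv, hva, hkj, hσ⟩ := lemW h.odd s.skew s.nondeg (hiso w hwS)
    ⟨p, sub_one_pow_eq_zero hρp⟩ ha ha1 (hrange w hwS hwnQ _ (s.alt _)) fun u hu => hker _ hu
  have hav : s.B (s.π t) v ≠ 0 := by rw [s.skew]; exact neg_ne_zero.2 hva
  -- weights
  have htor : ∀ l : ZMod p, l ≠ 0 → ∃ m ∈ 𝒩(Q), m * w * m⁻¹ = pw w l ∧ s.μ m = l⁻¹ ∧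
      s.ρ m (s.π t) = (l⁻¹ * l⁻¹) • s.π t ∧ l ^ (j + 3) = 1 ∧
      ∀ u, s.B (s.π t) (s.ρ m u) = l * s.B (s.π t) u := fun l hl => by
    obtain ⟨m, hmQ, hmR, e1, e2⟩ := h.torus hR hg hb hz hz1 hw hw1 ht htn htR hl
    have hμ := s.μ_eq hmQ e1
    have hmt := H6.conj_mem_of_mem_normalizer hmQ ht
    obtain ⟨β, hβ⟩ := hker _ (hfixN _ hmt (mul_mem (mul_mem hmR htn) (inv_mem hmR)))
    have e3 : β = l⁻¹ * l⁻¹ := by
      have f1 := hlin _ hmt β hβ
      have f2 : ⁅m * t * m⁻¹, pw w l⁆ = pw s.z (l * (β * c1)) := by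
        rw [pw, H9.commutator_pow_right_of_commute (by rw [f1]; exact hcen _ (pw_mem hz _) _ hwS), f1,
          pw_pow s.z_pow, ZMod.natCast_zmod_val]
      have f3 : ⁅m * t * m⁻¹, m * w * m⁻¹⁆ = m * ⁅t, w⁆ * m⁻¹ := by
        simp only [commutatorElement_def]; group
      rw [e2, f2, hc1', conj_pw, e1, pw_pw s.z_pow] at f3
      have f4 := pw_inj s.z_pow s.z_ne f3
      field_simp at f4 ⊢
      linear_combination f4
    rw [← s.ρπ hmQ ht, e3] at hβ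
    obtain ⟨γ, -, g2, g3⟩ := hσ (s.ρ m) (s.μ m) _ l.val (s.B_ρ m hmQ) (by
      rw [← s.ρ_mul hmQ (s.normZ hmQ) hwQ (s.normZ hwQ), ← s.ρ_pow hwQ (s.normZ hwQ),
        ← s.ρ_mul (pow_mem hwQ _) (s.normZ (pow_mem hwQ _)) hmQ (s.normZ hmQ)]
      congr 1
      rw [← mul_inv_eq_iff_eq_mul]
      exact e2) hβ
    rw [ZMod.natCast_zmod_val] at g2
    rw [hμ] at g3
    refine ⟨m, hmQ, e2, hμ, hβ, ?_, fun u => ?_⟩
    · field_simp at g2 g3
      rw [← g3] at g2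
      linear_combination -g2
    · have := s.B_ρ m hmQ (s.π t) u
      rw [hβ, hμ, map_smul, LinearMap.smul_apply, smul_eq_mul] at this
      field_simp at this
      linear_combination this
  -- orders
  have hV := card_eq_of_jordan (δ := s.ρ w - 1) ha (sub_eq_zero.2 ha1)
    (fun u hu => hker u (sub_eq_zero.1 hu)) hj hv
  have hQ : Nat.card Q = p ^ (j + 2) := by
    rw [H9.card_eq_relIndex_mul' (K := Z) (L := Q), ← s.card, hV, inf_eq_left.2 h.xs.le, h.xs.card,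
      ← pow_succ]
  have hj3 : 3 ≤ j := by
    have := h.xs.big
    rw [hQ] at this
    have := (Nat.pow_le_pow_iff_right hp.out.one_lt).1 this
    omega
  have hjp : j < p := by
    by_contra hle
    exact ha (by rw [← hv, pow_eq_zero_of_le (not_lt.1 hle) (sub_one_pow_eq_zero hρp)]; rfl)
  have hpj : p = j + 4 := by
    obtain ⟨u, hu⟩ := IsCyclic.exists_ofOrder_eq_natCard (α := (ZMod p)ˣ)
    rw [Nat.card_eq_fintype_card, ZMod.card_units] at hu
    obtain ⟨-, -, -, -, -, h1, -⟩ := htor u u.ne_zero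
    obtain ⟨k, hk⟩ : p - 1 ∣ j + 3 := hu ▸ orderOf_dvd_of_pow_eq_one (Units.ext (by simpa using h1))
    have h4 : p ≠ 4 := by rintro rfl; exact absurd hp.out (by decide)
    obtain ⟨r, rfl⟩ : ∃ r, p = r + 1 := ⟨p - 1, by omega⟩
    rw [Nat.add_sub_cancel] at hk
    rcases k with _ | _ | k
    · omega
    · omega
    · have : r * (k + 1 + 1) ≥ r * 2 := Nat.mul_le_mul_left r (by omega)
      omega
  have hS : Nat.card S = p ^ (p - 1) := by
    rw [h.card_S, hQ, ← pow_succ', show j + 2 + 1 = p - 1 by omega]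
  have h2 := two_ne_zero' h.odd
  have h3 : (3 : ZMod p) ≠ 0 := fun h0 => by
    have : ((3 : ℕ) : ZMod p) = 0 := by exact_mod_cast h0
    rw [ZMod.natCast_eq_zero_iff] at this
    have := Nat.le_of_dvd (by norm_num) this
    omega
  -- exponent
  have hω : ∀ u, s.ω u = 0 := by
    have k1 : ∀ u, s.B (s.π t) u = 0 → s.ω u = 0 := fun u hu => by
      obtain ⟨u', rfl⟩ := hrange w hwS hwnQ u hu
      rw [map_sub, s.ω_ρ w hwQ, s.μ_eq_one hwQ (by rw [(hcen _ hz w hwS).eq]; group), one_mul, sub_self]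
    intro u
    obtain ⟨m, hmQ, -, e1, -, -, e2⟩ := htor 2 h2
    have k2 := k1 (s.ρ m u - (2 : ZMod p) • u) (by rw [map_sub, map_smul, e2, smul_eq_mul, sub_self])
    rw [map_sub, map_smul, s.ω_ρ m hmQ, e1, smul_eq_mul] at k2
    field_simp at k2
    exact (mul_eq_zero.1 (by linear_combination -k2 : 3 * s.ω u = 0)).resolve_left h3
  have hexpQ : ∀ q ∈ Q, q ^ p = 1 := fun q hq => by rw [s.pow q hq, hω, pw_zero]
  have hcoset : ∀ y ∈ S, y ∉ Q → ∀ c ∈ Q, s.B (s.π t) (s.π c) = 0 →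
      ∃ q ∈ Q, (c * y) ^ p = q * y ^ p * q⁻¹ := fun y hy hyQ c hc h0 => by
    obtain ⟨u, hu⟩ := hrange y hy hyQ (-s.π c) (by rw [map_neg, h0, neg_zero])
    obtain ⟨q, hq, rfl⟩ := s.surj u
    have hcq := h.comm_mem_Q hy (h.QS hq)
    rw [← s.πcomm (hSQ hy) hq, eq_neg_iff_add_eq_zero, add_comm, ← s.π_mul _ hc _ hcq,
      s.π_eq_zero _ (Q.mul_mem hc hcq)] at hu
    refine ⟨q, hq, ?_⟩
    rw [show c * y = c * ⁅y, q⁆ * (q * y * q⁻¹) by simp only [commutatorElement_def]; group,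
      (hcen _ hu _ (S.mul_mem (S.mul_mem (h.QS hq) hy) (S.inv_mem (h.QS hq)))).symm.mul_pow,
      h.xs.pow_eq_one hu, one_mul, conj_pow]
  have hexp : ∀ y ∈ S, y ^ p = 1 := fun y hy => by
    by_cases hyQ : y ∈ Q
    · exact hexpQ y hyQ
    obtain ⟨q, hq, i, e, -⟩ := hρ y hy
    have hpw : ∀ n : ℕ, y ^ n * ((w ^ i) ^ n)⁻¹ ∈ Q ∧
        s.B (s.π t) (s.π (y ^ n * ((w ^ i) ^ n)⁻¹)) = n * s.B (s.π t) (s.π q) := fun n => by
      induction n with
      | zero => simp [s.π_one]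
      | succ n ih =>
        have e1 : y ^ (n + 1) * ((w ^ i) ^ (n + 1))⁻¹ =
            q * (w ^ i * (y ^ n * ((w ^ i) ^ n)⁻¹) * (w ^ i)⁻¹) := by
          rw [pow_succ' y, pow_succ' (w ^ i)]
          conv_lhs => rw [show y * y ^ n = q * w ^ i * y ^ n by rw [← e]]
          group
        have hm := H6.conj_mem_of_mem_normalizer (pow_mem hwQ i) ih.1
        rw [e1, s.π_mul _ hq _ hm, ← s.ρπ (pow_mem hwQ i) ih.1, map_add]
        refine ⟨Q.mul_mem hq hm, ?_⟩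
        have := hiso _ (S.pow_mem hwS i) (s.π t) (s.π (y ^ n * ((w ^ i) ^ n)⁻¹))
        rw [hfixS _ (S.pow_mem hwS i)] at this
        rw [this, ih.2]
        push_cast
        ring
    have hyp := h.pow_mem_Q hy
    have key : ∀ l : ZMod p, l ≠ 0 → ∃ m ∈ 𝒩(Q), s.μ m = l⁻¹ ∧ s.ρ m (s.π t) = (l⁻¹ * l⁻¹) • s.π t ∧
        ∃ q1 ∈ Q, m * y ^ p * m⁻¹ = q1 * pw (y ^ p) l * q1⁻¹ := fun l hl => by
      obtain ⟨m, hmQ, e1, e2, e3, -, e4⟩ := htor l hl
      have hmq := H6.conj_mem_of_mem_normalizer hmQ hq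
      obtain ⟨f1, f2⟩ := hpw l.val
      obtain ⟨q1, hq1, f3⟩ := hcoset (y ^ l.val) (S.pow_mem hy _) (fun hh => hyQ
        (H9.mem_of_zpow_mem_of_not_dvd (p := p) (k := 1) (i := l.val) (by rwa [pow_one])
          (fun hd => hl (by
            rw [← ZMod.natCast_zmod_val l, ZMod.natCast_eq_zero_iff]; exact_mod_cast hd))
          (by rwa [zpow_natCast]))) _ (Q.mul_mem hmq (Q.inv_mem f1)) (by
        rw [s.π_mul _ hmq _ (Q.inv_mem f1), s.π_inv f1, map_add, map_neg, f2, ← s.ρπ hmQ hq, e4,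
          ZMod.natCast_zmod_val, add_neg_cancel])
      refine ⟨m, hmQ, e2, e3, q1, hq1, ?_⟩
      rw [pw, ← pow_mul, mul_comm p, pow_mul, ← f3, ← conj_pow]
      congr 1
      rw [← pow_mul, mul_comm i, pow_mul]
      change _ = _ * (_ * (pw w l ^ i)⁻¹)⁻¹ * _
      rw [← e1, conj_pow]
      conv_lhs => rw [e]
      group
    obtain ⟨f, hf⟩ := hkerS y hy hyQ (s.π (y ^ p)) (by
      rw [s.ρπ (hSQ hy) hyp]; congr 1; group)
    have hZ : y ^ p ∈ Z := by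
      obtain ⟨m, hmQ, -, e1, q1, hq1, e2⟩ := key (-1) (neg_ne_zero.2 one_ne_zero)
      have e3 := congrArg s.π e2
      rw [← s.ρπ hmQ hyp, ← s.ρπ (le_normalizer hq1) (pw_mem hyp _), s.ρ_of_mem hq1, s.π_pw hyp, hf,
        map_smul, e1] at e3
      have e4 : (2 * f) • s.π t = 0 := by
        simp only [inv_neg, inv_one, Module.End.one_apply] at e3
        linear_combination (norm := module) e3
      rw [← s.π_eq_zero _ hyp, hf, (mul_eq_zero.1 ((smul_eq_zero.1 e4).resolve_right ha)).resolve_left h2,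
        zero_smul]
    obtain ⟨r, hr⟩ := (s.mem_Z _).1 hZ
    obtain ⟨m, hmQ, e1, -, q1, hq1, e2⟩ := key 2 h2
    rw [(hcen _ (pw_mem hZ _) q1 (h.QS hq1)).eq, mul_inv_cancel_right, hr, conj_pw, s.μ_z m hmQ, e1,
      pw_pw s.z_pow, pw_pw s.z_pow] at e2
    have e3 := pw_inj s.z_pow s.z_ne e2
    field_simp at e3
    rw [hr, (mul_eq_zero.1 (by linear_combination -e3 : 3 * r = 0)).resolve_left h3, pw_zero]
  by_cases h7 : p = 7
  · have hj' : j = 3 := by omega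
    subst hj'
    obtain ⟨x, hx, rfl⟩ := s.surj v
    have hq := pw_mem hx (-(c1 / s.B (s.π t) (s.π x)))
    generalize hqe : pw x (-(c1 / s.B (s.π t) (s.π x))) = q at hq
    have heS := S.mul_mem hwS (h.QS hq)
    have he := hSQ heS
    have het : Commute (w * q) t := by
      rw [Commute.symm_iff, ← commutatorElement_eq_one_iff_commute, H9.commutator_mul_right_of_commute
        (hcen _ (h.xs.comm t ht q hq) w hwS), hc1', s.comm t ht q hq, ← pw_add s.z_pow, ← hqe,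
        s.π_pw hx, map_smul, smul_eq_mul, neg_mul, div_mul_cancel₀ _ hav, add_neg_cancel, pw_zero]
    have hρe : s.ρ (w * q) = s.ρ w := by
      rw [s.ρ_mul hwQ (s.normZ hwQ) (le_normalizer hq) (s.normZ (le_normalizer hq)), s.ρ_of_mem hq,
        mul_one]
    obtain ⟨a1, b1⟩ := s.π_c he hx
    obtain ⟨a2, b2⟩ := s.π_c he a1
    obtain ⟨a3, b3⟩ := s.π_c he a2
    rw [b2, b1, hρe, show (s.ρ w - 1) ((s.ρ w - 1) ((s.ρ w - 1) (s.π x))) = s.π t from hv] at b3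
    obtain ⟨e', x', y', d', w', z', k1, k2, k3⟩ := crit_G2 h.odd h.xs h.QS hexpQ heS he
      (h.S_le_centZ heS) (hexp _ heS) hx (s.commute_of_π (h.S_le_centZ heS) a3 ht b3 het)
      (by rw [s.commute_iff hx a3, b3]; exact hva)
    exact Or.inl ⟨by rw [hS, h7], e', x', y', d', w', z', k1, k2, Or.inr (Or.inr ⟨by omega, k3⟩)⟩
  · have h11 : 11 ≤ p := by
      by_contra hlt
      have : p = 8 ∨ p = 9 ∨ p = 10 := by omega
      rcases this with rfl | rfl | rfl <;> exact absurd hp.out (by decide)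
    have hRc : Nat.card R = p ^ 2 := by
      rw [H9.card_eq_relIndex_mul' (K := Q) (L := R), h.relIndex_R, inf_comm, hR, h.xs.card, sq]
    have hM : H9.MaxCl p S (p - 1) := ⟨h.hS, hS, by omega, H9.lcs_ne_bot_of_card_centralizer h.hS hS
      (by omega) hwS (by rw [h.cent1_eq hg hb hw hw1, hRc])⟩
    refine Or.inr ⟨h11, hS, hexp, ?_⟩
    have := h.hS.isNilpotent
    have k : ∀ n, Group.nilpotencyClass S ≤ n ↔ S.lowerCentralSeries n = ⊥ := fun n => by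
      rw [← Subgroup.lowerCentralSeries_eq_bot_iff_nilpotencyClass_le,
        ← Subgroup.top_subtype_lowerCentralSeries S,
        map_eq_bot_iff_of_injective _ S.subtype_injective]
    have k1 := (k (p - 2)).2 (hM.eq_bot (by omega))
    have k2 := (k (p - 3)).not.2 (hM.ne_bot (by omega))
    omega

end Cfsg.Agent.EX
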