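import Cfsg.Agent.Lib.EX.CII1
import Cfsg.Agent.Lib.EX.CA
import Cfsg.Agent.Lib.EX.Pearl

/-!
# S5177: the local theorem (see notes/EX.md)
-/

set_option autoImplicit false
set_option linter.unusedSectionVars false
set_option linter.unusedVariables false

namespace Cfsg.Agent.EX

open Subgroup Cfsg.Agent.H6 Cfsg.Agent.FT
open scoped commutatorElement

variable {G : Type*} [Group G] [Finite G] {p : ℕ} [hp : Fact p.Prime] {S Q Z R Γ : Subgroup G}
  {g : G}

theorem Loc.out (h : Loc p S Q Z R Γ) : Out p S := by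
  by_cases h1 : ∃ g ∈ Γ, g ∉ Gd Q R ∧ cj g Z ≤ Q
  · obtain ⟨g, hg, hb, hZ⟩ := h1
    exact h.caseII1 hg hb hZ
  · have h2 : II2 p S Q Z R Γ := ⟨h, fun g hg hb hZ => h1 ⟨g, hg, hb, hZ⟩⟩
    by_cases hB : R.relIndex (Q ⊓ 𝒩(R)) = p
    · exact h2.pearl (h2.pearl_of hB)
    · exact h2.caseA hB

end Cfsg.Agent.EX
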