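import Cfsg.Agent.Lib.EX.Step0
import Cfsg.Agent.Lib.H7.Saturation
import Cfsg.Agent.Lib.H7.Transport
import Cfsg.Agent.Lib.H7.Tree
import Cfsg.Agent.Lib.H9.Present

/-!
# S5177: from the fusion system to the local configuration (see notes/EX.md)
-/

set_option autoImplicit false
set_option linter.unusedSectionVars false
set_option linter.unusedVariables false

namespace Cfsg.Agent.EX

open Subgroup Cfsg.Agent.H6 Cfsg.Agent.FT Cfsg.FusionSystem

universe u

section Good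

variable {G : Type*} [Group G] {S Q P P' R : Subgroup G} {F : FusionSystem S} {f f' : G → G}

/-- `f` extends to a map of the system on `P ⊔ Q` which normalizes `Q`. -/
def Good (F : FusionSystem S) (Q P : Subgroup G) (f : G → G) : Prop :=
  ∃ g, F.IsMor (P ⊔ Q) g ∧ (∀ x ∈ P, g x = f x) ∧ F.IsIso Q Q g

theorem Good.of_ext (h : Good F Q P f) (hP : P' ≤ P) (e : ∀ x ∈ P', f x = f' x) :
    Good F Q P' f' := by
  obtain ⟨g, h1, h2, h3⟩ := h
  exact ⟨g, h1.mono (sup_le_sup_right hP _), fun x hx => (h2 x (hP hx)).trans (e x hx), h3⟩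

theorem Good.comp (h' : Good F Q P' f') (h : Good F Q P f) (hm : ∀ x ∈ P, f x ∈ P') :
    Good F Q P (fun x => f' (f x)) := by
  obtain ⟨g, h1, h2, h3⟩ := h
  obtain ⟨g', k1, k2, k3⟩ := h'
  refine ⟨fun x => g' (g x), k1.comp' h1 (h1.isHomOn.mapsTo_sup (fun x hx => ?_) fun x hx => ?_),
    fun x hx => by simp only [h2 x hx, k2 _ (hm x hx)], k3.comp' h3⟩
  · rw [h2 x hx]; exact mem_sup_left (hm x hx)
  · exact mem_sup_right (h3.mapsTo x hx)

theorem Good.inv (h : Good F Q P f) (hi : F.IsIso P P' f) (e : ∀ x ∈ P, f' (f x) = x) :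
    Good F Q P' f' := by
  obtain ⟨g, h1, h2, h3⟩ := h
  have h4 : F.IsIso P P' g := hi.congr fun x hx => (h2 x hx).symm
  obtain ⟨g', k1, k2, -⟩ := (IsIso.sup h1 h4 h3).exists_symm
  refine ⟨g', k1.mor, fun y hy => ?_, h3.symm_of_left_inv fun x hx => k2 x (mem_sup_right hx)⟩
  obtain ⟨x, hx, rfl⟩ := hi.surj y hy
  rw [e x hx, ← h2 x hx, k2 x (mem_sup_left hx)]

/-- The elements of the ambient group which induce an automorphism of `R` in the system. -/
def indAut (F : FusionSystem S) (R : Subgroup G) (hR : R ≤ S) : Subgroup G where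
  carrier := {γ | F.IsIso R R (fun x => γ * x * γ⁻¹)}
  mul_mem' := fun {a b} ha hb => (IsIso.comp' ha hb).congr fun x _ => by group
  one_mem' := (F.isIso_id hR).congr fun x _ => by simp
  inv_mem' := fun {a} ha => IsIso.symm_of_left_inv ha fun x _ => by group

theorem mem_indAut {hR : R ≤ S} {γ : G} :
    γ ∈ indAut F R hR ↔ F.IsIso R R (fun x => γ * x * γ⁻¹) := Iff.rfl

theorem indAut_le_norm (hR : R ≤ S) : indAut F R hR ≤ 𝒩(R) := fun γ h =>
  mem_normalizer_of_conj (mem_indAut.1 h).mapsTo fun x hx => by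
    simpa using (mem_indAut.1 (inv_mem h)).mapsTo x hx

theorem norm_le_indAut (hR : R ≤ S) : S ⊓ 𝒩(R) ≤ indAut F R hR := fun γ h =>
  F.isIso_conj_of_mem_normalizer hR h.1 h.2

end Good

section Main

variable {G : Type*} [Group G] [Finite G] {p : ℕ} [hp : Fact p.Prime] {S Q Z R : Subgroup G}
  {F : FusionSystem S}

/-- The automorphisms of `S` act as a `p'`-group modulo inner automorphisms. -/
theorem indAut_pow (hS : IsPGroup p S) (hF : F.IsSaturated p) :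
    ∀ a ∈ indAut F S le_rfl, ∃ m : ℕ, ¬ p ∣ m ∧ a ^ m ∈ S ⊔ 𝒞(S) := by
  intro a ha
  have haN := indAut_le_norm le_rfl ha
  obtain ⟨m, hm, k, hk⟩ := H7.exists_coprime_pow_pElt (p := p)
    (isOfFinOrder_of_finite (conjAut S haN))
  have h1 : conjAut S haN ∈ F.autGroup S :=
    (mem_indAut.1 ha).mor.mem_autGroup fun x => rfl
  have h2 := (hF.sylowIn_top hS).mem_of_mem_normalizer (pow_mem h1 m)
    (le_normalizer_inn ⊤ (mem_top _)) hk
  obtain ⟨s, hs, e⟩ := mem_inn_iff.1 h2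
  refine ⟨m, (Nat.Prime.coprime_iff_not_dvd hp.out).1 hm.symm,
    (mem_sup_cent le_normalizer).2 ⟨s, hs, fun r hr => ?_⟩⟩
  rw [← e ⟨r, hr⟩]
  have : conjAut S haN ^ m = conjAut S (pow_mem haN m) := by
    rw [conjAut, conjAut, ← map_pow]; rfl
  rw [this]; rfl

variable (hre : ∀ P f, F.IsMor P f → ∃ g : G, ∀ x ∈ P, f x = g * x * g⁻¹)
include hre

theorem Good.mem_Gd {γ : G} (hγ : γ ∈ 𝒩(R)) (h : Good F Q R (fun x => γ * x * γ⁻¹)) :
    γ ∈ Gd Q R := by
  obtain ⟨g, h1, h2, h3⟩ := h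
  obtain ⟨m, hm⟩ := hre _ _ h1
  have e : ∀ r ∈ R, γ * r * γ⁻¹ = m * r * m⁻¹ := fun r hr => by
    rw [← hm r (mem_sup_left hr), h2 r hr]
  refine EX.mem_Gd.2 ⟨m, mem_normalizer_of_finite fun x hx => ?_,
    mem_normalizer_of_finite fun x hx => ?_, e⟩
  · rw [← hm x (mem_sup_right hx)]; exact h3.mapsTo x hx
  · rw [← e x hx]; exact FusionSystem.conj_mem_of_mem_normalizer hγ hx

theorem exists_indAut (hR : R ≤ S) {f : G → G} (hf : F.IsIso R R f) :
    ∃ γ ∈ indAut F R hR, ∀ x ∈ R, f x = γ * x * γ⁻¹ := by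
  obtain ⟨γ, h⟩ := hre _ _ hf.mor
  exact ⟨γ, mem_indAut.2 (hf.congr h), h⟩

theorem good_top (hQS : Q ≤ S) (hA : indAut F S le_rfl ≤ 𝒩(Q)) {f : G → G} (hf : F.IsMor S f) :
    Good F Q S f := by
  obtain ⟨γ, h1, h2⟩ := exists_indAut hre le_rfl hf.isIso_top
  refine ⟨f, by rwa [sup_eq_left.2 hQS], fun _ _ => rfl, (hf.mono hQS).isIso_self fun x hx => ?_⟩
  rw [h2 x (hQS hx)]
  exact FusionSystem.conj_mem_of_mem_normalizer (hA h1) hx

theorem good_or_loc (hp2 : p ≠ 2) (hS : IsPGroup p S) (hF : F.IsSaturated p) (hX : XS p Q Z)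
    (hQS : Q ≤ S) (hi : Q.relIndex S = p) (hA : indAut F S le_rfl ≤ 𝒩(Q))
    (hR : F.IsFullyNormalized R)
    (ih : ∀ P, P ≤ S → Nat.card R < Nat.card P → ∀ f, F.IsMor P f → Good F Q P f)
    {f : G → G} (hf : F.IsIso R R f) :
    Good F Q R f ∨ Loc p S Q Z R (indAut F R hR.le) := by
  by_cases hg : Good F Q R f
  · exact Or.inl hg
  right
  obtain ⟨γ₀, hγ₀, e₀⟩ := exists_indAut hre hR.le hf
  have hg₀ : ¬ Good F Q R (fun x => γ₀ * x * γ₀⁻¹) := fun h =>
    hg (h.of_ext le_rfl fun x hx => (e₀ x hx).symm)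
  have hRS : R ≠ S := by
    rintro rfl
    exact hg (good_top hre hQS hA hf.mor)
  have hRQ : R ≠ Q := by
    rintro rfl
    exact hg ⟨f, by rw [sup_idem]; exact hf.mor, fun _ _ => rfl, hf⟩
  -- extension
  have fext : ∀ γ ∈ indAut F R hR.le, ∀ x ∈ S ⊓ 𝒩(R), x ∉ R → γ * x * γ⁻¹ ∈ NC S R →
      Good F Q R (fun x => γ * x * γ⁻¹) := by
    intro γ hγ x hx hxR hm
    obtain ⟨m, hmS, -, e⟩ := mem_NC.1 hm
    have hγN := indAut_le_norm hR.le hγ
    have h1 : zpowers x ≤ extSub S R (fun x => γ * x * γ⁻¹) := by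
      refine (zpowers_le).2 (mem_extSub.2 ⟨hx.1, hx.2, m, hmS, fun r hr => ?_⟩)
      rw [← e _ (FusionSystem.conj_mem_of_mem_normalizer hγN hr)]
      group
    obtain ⟨g, k1, k2⟩ := (hF.isReceptive hS hR).exists_ext_of_le (mem_indAut.1 hγ) h1
    have hlt : R < R ⊔ zpowers x :=
      lt_of_le_of_ne le_sup_left fun h => hxR (h ▸ mem_sup_right (mem_zpowers x))
    exact (ih _ k1.le (card_lt_of_lt hlt) g k1).of_ext le_sup_left k2
  have hSQ : S ≤ 𝒩(Q) := fun s hs => hA (norm_le_indAut le_rfl ⟨hs, le_normalizer hs⟩)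
  refine ⟨hp2, hS, hX, hQS, hi, hR.le, hRS, hRQ, fun x hx => ?_, norm_le_indAut hR.le,
    indAut_le_norm hR.le, fun X hX' hP => ?_, fun γ hγ x hx hxR hm => ?_, fun hb => ?_⟩
  · by_contra hxR
    refine hg₀ (fext γ₀ hγ₀ x ⟨hx.1, cent_le_norm hx.2⟩ hxR (mem_sup_right ?_))
    exact H6.conj_mem_of_mem_normalizer
      (H1.le_normalizer_centralizer (indAut_le_norm hR.le) hγ₀) hx.2
  · have hK : IsPGroup p (autInducedBy X R) := by
      rintro ⟨α, hα⟩
      obtain ⟨a, ha, haN, e⟩ := mem_autInducedBy_iff'.1 hα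
      obtain ⟨k, hk⟩ := hP a ha
      refine ⟨k, Subtype.ext ?_⟩
      have e1 : α = conjAut R haN :=
        mulEquiv_ext_equivFun fun x hx => by rw [e x hx, equivFun_conjAut haN hx]
      have e2 : conjAut R haN ^ p ^ k = conjAut R (pow_mem haN (p ^ k)) := by
        rw [conjAut, conjAut, ← map_pow]; rfl
      change α ^ p ^ k = 1
      rw [e1, e2]
      refine mulEquiv_ext_equivFun fun x hx => ?_
      rw [equivFun_conjAut _ hx, equivFun_one hx, conj_eq_of_mem_centralizer hk hx]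
    have hKF : autInducedBy X R ≤ F.autGroup R := by
      intro α hα
      obtain ⟨a, ha, e⟩ := mem_autInducedBy_iff.1 hα
      exact (mem_indAut.1 (hX' ha)).mor.mem_autGroup e
    obtain ⟨g, k1, k2⟩ := (hF.isFullyAutomized hS hR).exists_isIso_conj (F.isConj_refl hR.le) hK hKF
    obtain ⟨h, hh, e⟩ := exists_indAut hre hR.le k1
    refine ⟨h, hh, fun x hx => ?_⟩
    have hxN := indAut_le_norm hR.le (hX' hx)
    obtain ⟨b, hb, eb⟩ := k2 _ (conjAut_mem_autInducedBy hx hxN)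
    refine mem_NC.2 ⟨b, hb.1, hb.2, fun r hr => ?_⟩
    have hr' := inv_conj_mem_of_mem_normalizer (indAut_le_norm hR.le hh) hr
    have := eb _ hr'
    rw [equivFun_conjAut hxN hr', e _ (FusionSystem.conj_mem_of_mem_normalizer hxN hr'),
      e _ hr'] at this
    calc h * x * h⁻¹ * r * (h * x * h⁻¹)⁻¹ = h * (x * (h⁻¹ * r * h) * x⁻¹) * h⁻¹ := by group
      _ = b * r * b⁻¹ := by rw [this]; group
  · exact (fext γ hγ x hx hxR hm).mem_Gd hre (indAut_le_norm hR.le hγ)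
  · obtain ⟨m, hmQ, hmR, e⟩ := EX.mem_Gd.1 (hb hγ₀)
    have hQR : ¬ Q ≤ R := fun h => by
      rcases H9.eq_or_eq_of_relIndex_prime hp.out hi h hR.le with h | h
      · exact hRQ h
      · exact hRS h
    have hlt : R < R ⊔ Q := lt_of_le_of_ne le_sup_left fun h => hQR (h ▸ le_sup_right)
    obtain ⟨y, hy, hyR⟩ := SetLike.exists_of_lt
      (lt_normalizerIn (hS.to_le (sup_le hR.le hQS)) hlt)
    obtain ⟨r, hr, x, hx, rfl⟩ := (mem_sup_of_le_normalizer (hR.le.trans hSQ)).1 hy.1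
    have hxN : x ∈ 𝒩(R) := (mul_mem_cancel_left (le_normalizer hr)).1 hy.2
    have hxR : x ∉ R := fun h => hyR (mul_mem hr h)
    refine hg₀ (fext γ₀ hγ₀ x ⟨hQS hx, hxN⟩ hxR (mem_NC.2 ⟨m * x * m⁻¹,
      hQS (FusionSystem.conj_mem_of_mem_normalizer hmQ hx),
      mul_mem (mul_mem hmR hxN) (inv_mem hmR), fun s hs => ?_⟩))
    have hs' := inv_conj_mem_of_mem_normalizer hmR hs
    have e1 := e _ hs'
    have e2 := e _ (FusionSystem.conj_mem_of_mem_normalizer hxN hs')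
    have e3 : γ₀⁻¹ * s * γ₀ = m⁻¹ * s * m := by
      calc γ₀⁻¹ * s * γ₀ = γ₀⁻¹ * (m * (m⁻¹ * s * m) * m⁻¹) * γ₀ := by group
        _ = m⁻¹ * s * m := by rw [← e1]; group
    calc γ₀ * x * γ₀⁻¹ * s * (γ₀ * x * γ₀⁻¹)⁻¹ = γ₀ * (x * (γ₀⁻¹ * s * γ₀) * x⁻¹) * γ₀⁻¹ := by group
      _ = m * x * m⁻¹ * s * (m * x * m⁻¹)⁻¹ := by rw [e3, e2]; group

theorem exists_loc_of_realized (hp2 : p ≠ 2) (hS : IsPGroup p S) (hF : F.IsSaturated p)
    (hX : XS p Q Z) (hQS : Q ≤ S) (hi : Q.relIndex S = p) (hO : F.core = ⊥) :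
    ∃ Q' R Γ : Subgroup G, Loc p S Q' Z R Γ := by
  obtain ⟨Q', hX', hQS', hi', hA⟩ := exists_invariant hS hX hQS hi (indAut_le_norm le_rfl)
    (indAut_pow hS hF)
  by_contra hno
  have key : ∀ P, P ≤ S → ∀ f, F.IsMor P f → Good F Q' P f := by
    refine card_induction_down fun P hP ih f hf => ?_
    by_cases hPS : P = S
    · subst hPS; exact good_top hre hQS' hA hf
    have hi1 := hf.isIso_img
    have hPS' : img P f ≠ S := fun h => hPS (eq_of_le_of_card_ge hP (by rw [hi1.card_eq, h]))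
    obtain ⟨R, χ, hR, k1, k2⟩ := hF.exists_isFullyNormalized hS hP
    obtain ⟨χ', l1, l2⟩ := hF.exists_isMor_normalizerIn hS hR (hi1.isConj.symm.trans k2.isConj)
    have g1 : Good F Q' P χ := (ih _ k1.le (card_lt_of_lt (lt_normalizerIn hS
      (lt_of_le_of_ne hP hPS))) χ k1).of_ext (le_normalizerIn hP) fun _ _ => rfl
    have g2 : Good F Q' (img P f) χ' := (ih _ l1.le (hi1.card_eq ▸ card_lt_of_lt (lt_normalizerIn hS
      (lt_of_le_of_ne hf.img_le hPS'))) χ' l1).of_ext (le_normalizerIn hf.img_le) fun _ _ => rfl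
    obtain ⟨ψ, m1, m2, -⟩ := k2.exists_symm
    obtain ⟨ψ', n1, n2, -⟩ := l2.exists_symm
    have hg := l2.comp' (hi1.comp' m1)
    rcases good_or_loc hre hp2 hS hF hX' hQS' hi' hA hR
      (fun P' h1 h2 => ih P' h1 (k2.card_eq ▸ h2)) hg with h | h
    · refine ((g2.inv l2 n2).comp (h.comp g1 k2.mapsTo) fun x hx =>
        hg.mapsTo _ (k2.mapsTo x hx)).of_ext le_rfl fun x hx => ?_
      rw [m2 x hx, n2 _ (hi1.mapsTo x hx)]
    · exact absurd ⟨Q', R, _, h⟩ hno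
  have hN : F.IsNormal Q' := isNormal_iff.2 ⟨hQS', fun P f hf => key P hf.le f hf⟩
  exact hX'.ne_bot (le_bot_iff.1 (hX'.le.trans (hO ▸ hN.le_core)))

end Main

theorem exists_loc {Ω : Type u} [Group Ω] {S : Subgroup Ω} [Finite S] {p : ℕ} [Fact p.Prime]
    (hp2 : p ≠ 2) (hS : IsPGroup p S) {Q : Subgroup Ω} (hQS : Q ≤ S) (hQ : IsExtraspecial p Q)
    (hQi : Q.relIndex S = p) (h6 : p ^ 6 ≤ Nat.card S) (F : FusionSystem S)
    (hF : F.IsSaturated p) (hO : F.core = ⊥) :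
    ∃ (G : Type u) (_ : Group G) (_ : Finite G) (S' Q' Z R Γ : Subgroup G),
      Nonempty (S ≃* S') ∧ Loc p S' Q' Z R Γ := by
  let ι : S →* Equiv.Perm S := MulAction.toPermHom S S
  have hι : Function.Injective ι := MulAction.toPerm_injective
  obtain ⟨s, hs⟩ := GrpIso.exists_of_inj (isHomOn_homFun ι) fun x hx y hy e => by
    rw [homFun_of_mem _ hx, homFun_of_mem _ hy] at e
    exact congrArg Subtype.val (hι e)
  obtain ⟨E, hE⟩ := F.exists_isoVia hs
  have hre : ∀ P f, E.IsMor P f → ∃ g : Equiv.Perm S, ∀ x ∈ P, f x = g * x * g⁻¹ := by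
    intro P' f' hf'
    obtain ⟨P, hP, rfl⟩ := hs.exists_img hf'.le
    have hf := hE.isMor_symm hP hf'
    let φ : P.subgroupOf S →* S := MonoidHom.mk' (fun x => ⟨_, hf.mem (mem_subgroupOf.1 x.2)⟩)
      fun x y => Subtype.ext (hf.map_mul (mem_subgroupOf.1 x.2) (mem_subgroupOf.1 y.2))
    obtain ⟨σ, hσ⟩ := H7.Tree.exists_perm _ φ fun x y e => Subtype.ext (Subtype.ext
      (hf.inj (mem_subgroupOf.1 x.2) (mem_subgroupOf.1 y.2) (congrArg Subtype.val e)))
    refine ⟨σ, fun y hy => ?_⟩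
    obtain ⟨x, hx, rfl⟩ := (hs.mem_img hP).1 hy
    have e1 : ι (φ ⟨⟨x, hP hx⟩, hx⟩) = f' (homFun ι x) := by
      rw [← hs.right _ (hf'.mem hy), homFun_of_mem _ (hf.mem hx)]; rfl
    rw [← e1, homFun_of_mem _ (hP hx), eq_mul_inv_iff_mul_eq]
    exact Equiv.ext fun y => (hσ ⟨⟨x, hP hx⟩, hx⟩ y).symm
  have c1 := H1.card_mul_relIndex hQS
  have c2 := H1.card_mul_relIndex (hs.img_le hQS)
  have hc := hs.card_img hQS
  have hi : (img Q (homFun ι)).relIndex (img S (homFun ι)) = p := by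
    have := finite_of_le hQS
    rw [hc, ← hs.card_eq, ← c1, hQi] at c2
    exact Nat.eq_of_mul_eq_mul_left Nat.card_pos c2
  have h5 : p ^ 5 ≤ Nat.card (img Q (homFun ι)) := by
    rw [hc]
    rw [← c1, hQi, pow_succ] at h6
    exact Nat.le_of_mul_le_mul_right h6 (Fact.out : p.Prime).pos
  obtain ⟨Q', R, Γ, h⟩ := exists_loc_of_realized hre hp2 (hs.isPGroup hS) (hE.isSaturated hF)
    (XS.of_extraspecial (H9.isExtraspecial_of_equiv (hs.restrict hQS).toEquiv hQ) h5)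
    (hs.img_le hQS) hi (by rw [← hE.img_core, hO, hs.img_bot])
  exact ⟨_, inferInstance, inferInstance, _, Q', _, R, Γ, ⟨hs.toEquiv⟩, h⟩

end Cfsg.Agent.EX
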