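import Cfsg.Agent.Lib.EX.Rel

/-!
# `Rel` determines the group (S5177)
-/

set_option autoImplicit false
set_option linter.unusedVariables false

namespace Cfsg.Agent.EX

open Subgroup

theorem card_step {G : Type*} [Group G] {p : ℕ} [hp : Fact p.Prime] {H : Subgroup G} {g : G}
    (hg : g ^ p = 1) (hn : H ≤ H.comap (MulAut.conj g).toMonoidHom) (hH : g ∉ H) :
    Nat.card (H ⊔ zpowers g : Subgroup G) = Nat.card H * p := by
  have h1 : g ≠ 1 := fun h => hH (h ▸ one_mem H)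
  have ho : orderOf g = p := orderOf_eq_prime hg h1
  have hk : ∀ k : ℕ, ∀ h ∈ H, g ^ k * h * (g ^ k)⁻¹ ∈ H := fun k => by
    induction k with
    | zero => simp
    | succ k ih =>
      intro h hh
      have := hn (ih h hh)
      rw [mem_comap, MulEquiv.coe_toMonoidHom, MulAut.conj_apply] at this
      convert this using 1
      rw [pow_succ']; group
  have hN : g ∈ normalizer (H : Set G) := by
    refine mem_normalizer_iff.2 fun h => ⟨fun hh => by simpa using hk 1 h hh, fun hh => ?_⟩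
    have e : g ^ (p - 1) * g = 1 := by rw [← pow_succ, Nat.sub_add_cancel hp.out.one_le, hg]
    have := hk (p - 1) _ hh
    rwa [eq_inv_of_mul_eq_one_left e, show g⁻¹ * (g * h * g⁻¹) * g⁻¹⁻¹ = h by group] at this
  have hd : ∀ k ∈ zpowers g, k ∈ H → k = 1 := fun k hk hkH => by
    by_contra hne
    haveI : Fact (Nat.card (zpowers g)).Prime := ⟨by rw [Nat.card_zpowers, ho]; exact hp.out⟩
    have := mem_zpowers_of_prime_card (G := zpowers g) rfl (g := ⟨k, hk⟩)
      (g' := ⟨g, mem_zpowers g⟩) fun h => hne (congrArg Subtype.val h)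
    obtain ⟨n, hn⟩ := this
    exact hH (by rw [← show k ^ n = g from congrArg Subtype.val hn]; exact zpow_mem hkH n)
  rw [← ho, ← Nat.card_zpowers, ← Nat.card_prod]
  refine (Nat.card_congr (Equiv.ofBijective (fun x : H × zpowers g =>
    (⟨x.1 * x.2, mul_mem_sup x.1.2 x.2.2⟩ : (H ⊔ zpowers g : Subgroup G))) ⟨?_, ?_⟩)).symm
  · rintro ⟨a, b⟩ ⟨a', b'⟩ h
    have h' : (a : G) * b = a' * b' := congrArg Subtype.val h
    have e : (b : G) * (b' : G)⁻¹ = 1 := hd _ (mul_mem b.2 (inv_mem b'.2)) (by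
      rw [show (b : G) * (b' : G)⁻¹ = (a : G)⁻¹ * (a * b) * (b' : G)⁻¹ by group, h',
        show (a : G)⁻¹ * (a' * b') * (b' : G)⁻¹ = (a : G)⁻¹ * a' by group]
      exact mul_mem (inv_mem a.2) a'.2)
    obtain rfl : b = b' := Subtype.ext (mul_inv_eq_one.1 e)
    rw [Subtype.ext (mul_right_cancel h')]
  · rintro ⟨x, hx⟩
    have : x ∈ ((H ⊔ zpowers g : Subgroup G) : Set G) := hx
    rw [coe_mul_of_right_le_normalizer_left _ _ (zpowers_le.2 hN)] at this
    obtain ⟨a, ha, b, hb, rfl⟩ := this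
    exact ⟨(⟨a, ha⟩, ⟨b, hb⟩), rfl⟩

theorem zpowers_le_comap {G : Type*} [Group G] {H : Subgroup G} {g x : G} (y : G) (hy : y ∈ H)
    (h : g * x = y * g) : zpowers x ≤ H.comap (MulAut.conj g).toMonoidHom := by
  rw [zpowers_le, mem_comap, MulEquiv.coe_toMonoidHom, MulAut.conj_apply, h, mul_inv_cancel_right]
  exact hy

theorem gen6_eq {G : Type*} [Group G] (e x y d w z : G) : gen6 e x y d w z =
    zpowers z ⊔ zpowers w ⊔ zpowers d ⊔ zpowers y ⊔ zpowers x ⊔ zpowers e := by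
  simp only [gen6, zpowers_eq_closure, ← closure_union]
  congr 1
  ext a
  simp only [Set.mem_insert_iff, Set.mem_singleton_iff, Set.mem_union]
  tauto

/-- `Rel` with `z ≠ 1`, `p ∤ b` and `e` acting non-trivially on `x` gives a group of order `p ^ 6`.
(chain `⟨z⟩ < ⟨z,w⟩ < ⟨z,w,d⟩ < ⟨z,w,d,y⟩ < ⟨z,w,d,y,x⟩ < ⟨z,w,d,y,x,e⟩`, each step of index `p`) -/
theorem Rel.card {G : Type*} [Group G] {p : ℕ} [Fact p.Prime] {i1 i2 i3 i4 : ℕ} {a b : ℤ}
    {e x y d w z : G} (h : Rel p i1 i2 i3 i4 a b e x y d w z) (hz : z ≠ 1) (hb : ¬ (p : ℤ) ∣ b)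
    (hi : (i1 = 1 ∧ i2 = 0) ∨ (i1 = 0 ∧ i2 = 1)) : Nat.card (gen6 e x y d w z) = p ^ 6 := by
  have hp : p.Prime := Fact.out
  have ho : orderOf z = p := orderOf_eq_prime h.pz hz
  have hzb : z ^ b ≠ 1 := by rwa [Ne, ← orderOf_dvd_iff_zpow_eq_one, ho]
  have cen : ∀ {g u : G}, Commute g u → zpowers u ≤ centralizer {g} := fun hc =>
    zpowers_le.2 (mem_centralizer_singleton_iff.2 hc.symm)
  have n2 : w ∉ zpowers z := fun hw => by
    have := mem_centralizer_singleton_iff.1 (cen h.zx.symm hw)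
    exact hz (by rw [h.xw] at this; simpa using this)
  have n3 : d ∉ zpowers z ⊔ zpowers w := fun hd => by
    have := mem_centralizer_singleton_iff.1 (sup_le (cen h.zy.symm) (cen h.yw) hd)
    exact hzb (by rw [h.yd] at this; simpa using this)
  have n4 : y ∉ zpowers z ⊔ zpowers w ⊔ zpowers d := fun hy => by
    have := mem_centralizer_singleton_iff.1
      (sup_le (sup_le (cen h.zd.symm) (cen h.dw)) (cen (Commute.refl d)) hy)
    exact hzb (by rw [h.yd] at this; simpa using this)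
  have n5 : x ∉ zpowers z ⊔ zpowers w ⊔ zpowers d ⊔ zpowers y := fun hx => by
    have := mem_centralizer_singleton_iff.1 (sup_le (sup_le (sup_le (cen h.zw.symm)
      (cen (Commute.refl w))) (cen h.dw.symm)) (cen h.yw.symm) hx)
    exact hz (by rw [h.xw] at this; simpa using this)
  have n6 : e ∉ zpowers z ⊔ zpowers w ⊔ zpowers d ⊔ zpowers y ⊔ zpowers x := fun he => by
    let X : Subgroup G :=
      { carrier := {q | Commute z q ∧ ∃ k : ℤ, x * q = z ^ k * (q * x)}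
        one_mem' := ⟨Commute.one_right _, 0, by simp⟩
        mul_mem' := by
          rintro q r ⟨hq, k, hk⟩ ⟨hr, l, hl⟩
          refine ⟨hq.mul_right hr, k + l, ?_⟩
          rw [← mul_assoc, hk, mul_assoc, mul_assoc, hl, ← mul_assoc q, ← (hq.zpow_left l).eq,
            zpow_add]
          group
        inv_mem' := by
          rintro q ⟨hq, k, hk⟩
          refine ⟨hq.inv_right, -k, ?_⟩
          rw [zpow_neg, eq_inv_mul_iff_mul_eq, show q⁻¹ * x = q⁻¹ * (x * q) * q⁻¹ by group, hk,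
            ← mul_assoc q⁻¹, ← (hq.inv_right.zpow_left k).eq]
          group }
    have hX : zpowers z ⊔ zpowers w ⊔ zpowers d ⊔ zpowers y ⊔ zpowers x ≤ X :=
      sup_le (sup_le (sup_le (sup_le
        (zpowers_le.2 ⟨Commute.refl _, 0, by rw [zpow_zero, one_mul, h.zx.eq]⟩)
        (zpowers_le.2 ⟨h.zw, 1, by rw [zpow_one, h.xw]⟩)) (zpowers_le.2 ⟨h.zd, a, h.xd⟩))
        (zpowers_le.2 ⟨h.zy, 0, by rw [zpow_zero, one_mul, h.xy.eq]⟩))
        (zpowers_le.2 ⟨h.zx, 0, by simp⟩)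
    obtain ⟨-, k, hk⟩ := hX he
    rw [h.ex, ← mul_assoc, mul_left_inj, ← mul_assoc, ← mul_assoc, (h.zx.zpow_left k).eq, mul_assoc,
      mul_assoc, left_eq_mul, ← eq_inv_iff_mul_eq_one] at hk
    have hm : y ^ i1 * w ^ i2 ∈ zpowers z := inv_mem_iff.1 ⟨k, hk⟩
    rcases hi with ⟨rfl, rfl⟩ | ⟨rfl, rfl⟩
    · exact n4 (mem_sup_left (mem_sup_left (by simpa using hm)))
    · exact n2 (by simpa using hm)
  have m := fun {H K : Subgroup G} {g : G} (hg : g ∈ H) => (le_sup_left : H ≤ H ⊔ K) hg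
  have m' := fun {H : Subgroup G} (g : G) => (le_sup_right : zpowers g ≤ H ⊔ zpowers g) (mem_zpowers g)
  have mz := mem_zpowers z
  rw [gen6_eq, card_step h.pe _ n6, card_step h.px _ n5, card_step h.py _ n4, card_step h.pd _ n3,
    card_step h.pw _ n2, Nat.card_zpowers, ho]
  · ring
  · exact zpowers_le_comap z mz h.zw.symm
  · exact sup_le (zpowers_le_comap z (m mz) h.zd.symm) (zpowers_le_comap w (m' w) h.dw)
  · exact sup_le (sup_le (zpowers_le_comap z (m (m mz)) h.zy.symm)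
      (zpowers_le_comap w (m (m' w)) h.yw))
      (zpowers_le_comap (z ^ b * d) (mul_mem (zpow_mem (m (m mz)) _) (m' d)) (by rw [h.yd, mul_assoc]))
  · exact sup_le (sup_le (sup_le (zpowers_le_comap z (m (m (m mz))) h.zx.symm)
      (zpowers_le_comap (z * w) (mul_mem (m (m (m mz))) (m (m (m' w)))) (by rw [h.xw, mul_assoc])))
      (zpowers_le_comap (z ^ a * d) (mul_mem (zpow_mem (m (m (m mz))) _) (m (m' d)))
        (by rw [h.xd, mul_assoc]))) (zpowers_le_comap y (m' y) h.xy)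
  · exact sup_le (sup_le (sup_le (sup_le (zpowers_le_comap z (m (m (m (m mz)))) h.ze.symm)
      (zpowers_le_comap w (m (m (m (m' w)))) h.ew))
      (zpowers_le_comap _ (mul_mem (m (m (m' d))) (pow_mem (m (m (m (m' w)))) _)) h.ed))
      (zpowers_le_comap _ (mul_mem (m (m' y)) (pow_mem (m (m (m' d))) _)) h.ey))
      (zpowers_le_comap _ (mul_mem (mul_mem (m' x) (pow_mem (m (m' y)) _))
        (pow_mem (m (m (m (m' w)))) _)) h.ex)

/-- Two models of the same relations generate isomorphic groups (graph in `A × B`). -/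
theorem Rel.iso {A B : Type*} [Group A] [Group B] {p : ℕ} [Fact p.Prime] {i1 i2 i3 i4 : ℕ} {a b : ℤ}
    {e x y d w z : A} {e' x' y' d' w' z' : B} (h : Rel p i1 i2 i3 i4 a b e x y d w z) (hz : z ≠ 1)
    (h' : Rel p i1 i2 i3 i4 a b e' x' y' d' w' z') (hz' : z' ≠ 1) (hb : ¬ (p : ℤ) ∣ b)
    (hi : (i1 = 1 ∧ i2 = 0) ∨ (i1 = 0 ∧ i2 = 1)) :
    Nonempty (gen6 e x y d w z ≃* gen6 e' x' y' d' w' z') := by
  have hr : Rel p i1 i2 i3 i4 a b (e, e') (x, x') (y, y') (d, d') (w, w') (z, z') :=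
    ⟨Prod.ext h.pe h'.pe, Prod.ext h.px h'.px, Prod.ext h.py h'.py, Prod.ext h.pd h'.pd,
      Prod.ext h.pw h'.pw, Prod.ext h.pz h'.pz, Prod.ext h.ze h'.ze, Prod.ext h.zx h'.zx,
      Prod.ext h.zy h'.zy, Prod.ext h.zd h'.zd, Prod.ext h.zw h'.zw, Prod.ext h.xy h'.xy,
      Prod.ext h.xd h'.xd, Prod.ext h.xw h'.xw, Prod.ext h.yd h'.yd, Prod.ext h.yw h'.yw,
      Prod.ext h.dw h'.dw, Prod.ext h.ex h'.ex, Prod.ext h.ey h'.ey, Prod.ext h.ed h'.ed,
      Prod.ext h.ew h'.ew⟩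
  have c0 := hr.card (fun e => hz (congrArg Prod.fst e)) hb hi
  have c1 := h.card hz hb hi
  have c2 := h'.card hz' hb hi
  have hpos : 0 < p ^ 6 := pow_pos (Fact.out : p.Prime).pos _
  haveI : Finite (gen6 (e, e') (x, x') (y, y') (d, d') (w, w') (z, z')) :=
    Nat.finite_of_card_ne_zero (c0 ▸ hpos.ne')
  have m1 : (gen6 (e, e') (x, x') (y, y') (d, d') (w, w') (z, z')).map (MonoidHom.fst A B) =
      gen6 e x y d w z := by simp [gen6, MonoidHom.map_closure, Set.image_insert_eq]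
  have m2 : (gen6 (e, e') (x, x') (y, y') (d, d') (w, w') (z, z')).map (MonoidHom.snd A B) =
      gen6 e' x' y' d' w' z' := by simp [gen6, MonoidHom.map_closure, Set.image_insert_eq]
  rw [← m1, ← m2]
  exact ⟨(MulEquiv.ofBijective _ ((Nat.bijective_iff_surjective_and_card _).2
    ⟨MonoidHom.subgroupMap_surjective (MonoidHom.fst A B) _, by rw [c0, m1, c1]⟩)).symm.trans
    (MulEquiv.ofBijective _ ((Nat.bijective_iff_surjective_and_card _).2
    ⟨MonoidHom.subgroupMap_surjective (MonoidHom.snd A B) _, by rw [c0, m2, c2]⟩))⟩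

/-- The form used at the end: `S` of order `p ^ 6` containing a model, `H` a finite group with a model
whose Sylow `p`-subgroups have order at most `p ^ 6`. -/
theorem Rel.iso_sylow {A B : Type*} [Group A] [Group B] [Finite B] {p : ℕ} [Fact p.Prime]
    {i1 i2 i3 i4 : ℕ} {a b : ℤ} {e x y d w z : A} {e' x' y' d' w' z' : B}
    (h : Rel p i1 i2 i3 i4 a b e x y d w z) (hz : z ≠ 1)
    (h' : Rel p i1 i2 i3 i4 a b e' x' y' d' w' z') (hz' : z' ≠ 1) (hb : ¬ (p : ℤ) ∣ b)
    (hi : (i1 = 1 ∧ i2 = 0) ∨ (i1 = 0 ∧ i2 = 1)) {S : Subgroup A} (hS : Nat.card S = p ^ 6)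
    (hle : gen6 e x y d w z ≤ S) (hB : ∀ P : Sylow p B, Nat.card P ≤ p ^ 6) :
    ∃ P : Sylow p B, Nonempty (S ≃* (P : Subgroup B)) := by
  have c1 := h.card hz hb hi
  have c2 := h'.card hz' hb hi
  haveI : Finite S := Nat.finite_of_card_ne_zero (hS ▸ (pow_pos (Fact.out : p.Prime).pos _).ne')
  obtain ⟨P, hP⟩ := (IsPGroup.of_card c2).exists_le_sylow
  rw [← eq_of_le_of_card_ge hle (by rw [hS, c1])]
  refine ⟨P, ?_⟩
  rw [← eq_of_le_of_card_ge hP (by rw [c2]; exact hB P)]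
  exact h.iso hz h' hz' hb hi

end Cfsg.Agent.EX
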