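import Cfsg.Agent.Lib.EX.Rel
import Mathlib

/-!
# Model `SL₄(p)` (S5177): `e = 1+E₂₃, x = 1+E₁₂, y = 1-E₁₃, d = 1+E₃₄, w = 1+E₂₄, z = 1+E₁₄`
-/

set_option autoImplicit false
set_option linter.unusedVariables false

namespace Cfsg.Agent.EX

open Matrix

variable {R : Type*} [CommRing R]

/-- A unitriangular matrix. -/
def ut4 (a b c d e f : R) : SpecialLinearGroup (Fin 4) R :=
  ⟨!![1, a, b, c; 0, 1, d, e; 0, 0, 1, f; 0, 0, 0, 1], by
    rw [det_of_upperTriangular]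
    · simp [Fin.prod_univ_four]
    · intro i j h
      fin_cases i <;> fin_cases j <;> simp_all⟩

theorem ut4_mul (a b c d e f a' b' c' d' e' f' : R) : ut4 a b c d e f * ut4 a' b' c' d' e' f' =
    ut4 (a + a') (b + b' + a * d') (c + c' + a * e' + b * f') (d + d') (e + e' + d * f') (f + f') := by
  apply Subtype.ext
  change !![1, a, b, c; 0, 1, d, e; 0, 0, 1, f; 0, 0, 0, 1] *
    !![1, a', b', c'; 0, 1, d', e'; 0, 0, 1, f'; 0, 0, 0, 1] = !![1, _, _, _; 0, 1, _, _; 0, 0, 1, _; 0, 0, 0, 1]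
  ext i j
  fin_cases i <;> fin_cases j <;> simp [Matrix.mul_apply, Fin.sum_univ_four] <;> ring

theorem ut4_zero : (ut4 0 0 0 0 0 0 : SpecialLinearGroup (Fin 4) R) = 1 := by
  apply Subtype.ext
  change !![1, 0, 0, 0; 0, 1, 0, 0; 0, 0, 1, 0; 0, 0, 0, 1] = (1 : Matrix (Fin 4) (Fin 4) R)
  ext i j
  fin_cases i <;> fin_cases j <;> simp

theorem ut4_pow {a b c d e f : R} (h1 : a * d = 0) (h2 : a * e + b * f = 0) (h3 : d * f = 0)
    (n : ℕ) : ut4 a b c d e f ^ n = ut4 (n * a) (n * b) (n * c) (n * d) (n * e) (n * f) := by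
  induction n with
  | zero => simp [ut4_zero]
  | succ n ih =>
    rw [pow_succ, ih, ut4_mul]
    push_cast
    congr 1
    · ring
    · linear_combination n * h1
    · linear_combination n * h2
    · ring
    · linear_combination n * h3
    · ring

theorem model_SL4 (p : ℕ) [Fact p.Prime] :
    (∃ e x y d w z : Matrix.SpecialLinearGroup (Fin 4) (ZMod p),
      Rel p 1 0 0 1 0 (-1) e x y d w z ∧ z ≠ 1) ∧
    ∀ P : Sylow p (Matrix.SpecialLinearGroup (Fin 4) (ZMod p)), Nat.card P ≤ p ^ 6 := by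
  have hp : p.Prime := Fact.out
  constructor
  · have hq : ∀ a b c d e f : ZMod p, a * d = 0 → a * e + b * f = 0 → d * f = 0 →
        ut4 a b c d e f ^ p = 1 := fun a b c d e f h1 h2 h3 => by
      rw [ut4_pow h1 h2 h3]; simp [ut4_zero]
    refine ⟨ut4 0 0 0 1 0 0, ut4 1 0 0 0 0 0, ut4 0 (-1) 0 0 0 0, ut4 0 0 0 0 0 1, ut4 0 0 0 0 1 0,
      ut4 0 0 1 0 0 0, ⟨?_, ?_, ?_, ?_, ?_, ?_, ?_, ?_, ?_, ?_, ?_, ?_, ?_, ?_, ?_, ?_, ?_, ?_, ?_,
      ?_, ?_⟩, fun h => ?_⟩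
    iterate 6 exact hq _ _ _ _ _ _ (by simp) (by simp) (by simp)
    iterate 6 (rw [Commute, SemiconjBy, ut4_mul, ut4_mul]; simp)
    · simp [ut4_mul]
    · simp [ut4_mul]
    · rw [_root_.zpow_neg, zpow_one, eq_inv_mul_iff_mul_eq]; simp [ut4_mul]
    iterate 2 (rw [Commute, SemiconjBy, ut4_mul, ut4_mul]; simp)
    · simp [ut4_mul]
    · simp [ut4_mul]
    · simp [ut4_mul]
    · rw [Commute, SemiconjBy, ut4_mul, ut4_mul]; simp
    · have := congrArg (fun g : SpecialLinearGroup (Fin 4) (ZMod p) => g.1 0 3) h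
      simp [ut4] at this
  · intro P
    obtain ⟨k, hk⟩ := IsPGroup.iff_card.1 P.isPGroup'
    have h1 : Nat.card P ∣ Nat.card (GL (Fin 4) (ZMod p)) :=
      (Subgroup.card_subgroup_dvd_card _).trans
        (Subgroup.card_dvd_of_injective SpecialLinearGroup.toGL SpecialLinearGroup.toGL_injective)
    have h2 : ∀ i, 0 < i → Nat.Coprime p (p ^ i - 1) := fun i hi =>
      (Nat.coprime_pow_left_iff hi _ _).1 ((Nat.coprime_self_sub_right
        (Nat.one_le_pow _ _ hp.pos)).2 (Nat.coprime_one_right _))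
    have h3 : Nat.card (GL (Fin 4) (ZMod p)) =
        p ^ 6 * ((p ^ 4 - 1) * (p ^ 3 - 1) * (p ^ 2 - 1) * (p ^ 1 - 1)) := by
      rw [card_GL_field, Fin.prod_univ_four, ZMod.card]
      have e : ∀ i j : ℕ, p ^ (i + j) - p ^ i = p ^ i * (p ^ j - 1) := fun i j => by
        rw [Nat.mul_sub, mul_one, pow_add]
      have e1 := e 1 3
      have e2 := e 2 2
      have e3 := e 3 1
      norm_num at e1 e2 e3 ⊢
      rw [e1, e2, e3]
      ring
    rw [h3, hk] at h1
    rw [hk]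
    exact Nat.le_of_dvd (pow_pos hp.pos _) (Nat.Coprime.dvd_of_dvd_mul_right
      (Nat.Coprime.pow_left _ ((((h2 4 (by norm_num)).mul_right (h2 3 (by norm_num))).mul_right
        (h2 2 (by norm_num))).mul_right (h2 1 (by norm_num)))) h1)

end Cfsg.Agent.EX
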