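import Cfsg.Agent.Lib.EX.Rel
import Cfsg.Agent.Lib.H2.Herm4
import Cfsg.Prelude.Def_Classical

/-!
# Model `SU₄(p)` (S5177)
-/

set_option autoImplicit false
set_option linter.unusedVariables false
set_option linter.unusedSectionVars false

namespace Cfsg.Agent.EX

open Cfsg.Agent.H2 Cfsg.Agent.H7 Subgroup
open scoped Matrix

theorem Rel.of_map {A B : Type*} [Group A] [Group B] {φ : A →* B} (hφ : Function.Injective φ)
    {p i1 i2 i3 i4 : ℕ} {a b : ℤ} {e x y d w z : A}
    (h : Rel p i1 i2 i3 i4 a b (φ e) (φ x) (φ y) (φ d) (φ w) (φ z)) :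
    Rel p i1 i2 i3 i4 a b e x y d w z := by
  have c : ∀ {u v : A}, Commute (φ u) (φ v) → Commute u v := fun h => Commute.of_map hφ h
  have q : ∀ {u : A}, φ u ^ p = 1 → u ^ p = 1 := fun h => hφ (by rw [map_pow, h, map_one])
  exact ⟨q h.pe, q h.px, q h.py, q h.pd, q h.pw, q h.pz, c h.ze, c h.zx, c h.zy, c h.zd, c h.zw,
    c h.xy, hφ (by simpa using h.xd), hφ (by simpa using h.xw), hφ (by simpa using h.yd), c h.yw,
    c h.dw, hφ (by simpa using h.ex), hφ (by simpa using h.ey), hφ (by simpa using h.ed), c h.ew⟩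

section Herm

variable {K V : Type*} [Field K] [AddCommGroup V] [Module K V] {H : Herm K V} {p : ℕ}
  [hp : Fact p.Prime] [CharP K p] [Finite K] [Finite V] {S : Subgroup (V ≃ₗ[K] V)} {v f e g : V}

theorem eich_zpow {z u : V} (hz : H.B z z = 0) (hu : H.B u z = 0) (huu : H.B u u = 0) (c : K)
    (n : ℤ) : H.eich z u c ^ n = H.eich z ((n : K) • u) (n * c) := by
  let ψ : Multiplicative K →* (V ≃ₗ[K] V) := MonoidHom.mk'
    (fun a => H.eich z (a.toAdd • u) (a.toAdd * c)) fun a b => by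
      rw [Herm.eich_mul hz (by simp [hu]) (by simp [hu])]
      simp [huu, add_smul, add_mul]
  have := map_zpow ψ (Multiplicative.ofAdd 1) n
  simpa [ψ] using this.symm

theorem eich_pow_p {z u : V} (hz : H.B z z = 0) (hu : H.B u z = 0) (huu : H.B u u = 0) (c : K) :
    H.eich z u c ^ p = 1 := by
  rw [← zpow_natCast, eich_zpow hz hu huu]; simp [Herm.eich_zero hz]

theorem conf_decomp (C : H.Conf p S v f e g) (h4 : Module.finrank K V = 4) (x : V) :
    x = H.B x f • v - H.B x v • f + H.B x g • e - H.B x e • g := by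
  obtain ⟨-, ev, ef⟩ := Herm.mem_pp.1 C.e_mem
  obtain ⟨-, gv, gf⟩ := Herm.mem_pp.1 C.g_mem
  have hs := And.intro C.vv <| And.intro C.ff <| And.intro C.vf <| And.intro C.ee <|
    And.intro C.gg <| And.intro C.eg <| And.intro (Herm.symm1 C.vf) <| And.intro (Herm.symm1 C.eg) <|
    And.intro ev <| And.intro ef <| And.intro gv <| And.intro gf <| And.intro (Herm.symm0 ev) <|
    And.intro (Herm.symm0 ef) <| And.intro (Herm.symm0 gv) (Herm.symm0 gf)
  have hl : LinearIndependent K ![v, f, e, g] := Fintype.linearIndependent_iff.2 fun a ha i => by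
    have h1 := fun y => congrArg (H.B · y) ha
    have h2 := h1 v; have h3 := h1 f; have h4 := h1 e; have h5 := h1 g
    simp [Fin.sum_univ_four, hs] at h2 h3 h4 h5
    fin_cases i <;> assumption
  obtain ⟨a, rfl⟩ := (Submodule.mem_span_range_iff_exists_fun K).1
    ((hl.span_eq_top_of_card_eq_finrank (by simp [h4])).ge (Submodule.mem_top (x := x)))
  simp [Fin.sum_univ_four, hs]

theorem conf_card (C : H.Conf p S v f e g) (h4 : Module.finrank K V = 4) (h2 : (2 : K) ≠ 0) :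
    Nat.card S ≤ Nat.card (K × K × {t // H.σ t = t} × {t // H.σ t = t}) := by
  obtain ⟨-, ev, ef⟩ := Herm.mem_pp.1 C.e_mem
  obtain ⟨-, gv, gf⟩ := Herm.mem_pp.1 C.g_mem
  have hs := And.intro C.vv <| And.intro C.ff <| And.intro C.vf <| And.intro C.ee <|
    And.intro C.gg <| And.intro C.eg <| And.intro (Herm.symm1 C.vf) <| And.intro (Herm.symm1 C.eg) <|
    And.intro ev <| And.intro ef <| And.intro gv <| And.intro gf <| And.intro (Herm.symm0 ev) <|
    And.intro (Herm.symm0 ef) <| And.intro (Herm.symm0 gv) (Herm.symm0 gf)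
  have key : ∀ s : S, ∃ a b c d : K, s.1 e = e + H.σ a • v ∧ s.1 f = c • v + f + b • e - a • g ∧
      s.1 g = (d * H.σ a + H.σ b) • v + d • e + g ∧ H.σ c = c - b * H.σ a + a * H.σ b ∧
      H.σ d = d := by
    rintro ⟨s, hs'⟩
    have hB := (C.syl.le hs').1
    have hv := C.fix s hs'
    obtain ⟨t, ht⟩ := Submodule.mem_span_singleton.1 (C.fix2 s hs')
    rw [eq_sub_iff_add_eq'] at ht
    have hf := conf_decomp C h4 (s f)
    have hg := conf_decomp C h4 (s g)
    have e1 := hB f v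
    have e2 := hB g v
    have e3 := hB g e
    rw [hv, hs.2.2.2.2.2.2.1] at e1
    rw [hv, gv] at e2
    rw [← ht] at e3
    simp only [Herm.add_right, Herm.smul_right, e2, hs, mul_zero, add_zero] at e3
    rw [e1] at hf
    rw [e2, e3] at hg
    generalize H.B (s f) f = c, H.B (s f) g = b, H.B (s f) e = a at hf
    generalize H.B (s g) f = k, H.B (s g) g = d at hg
    have e4 := hB e f
    have e5 := hB f f
    have e6 := hB g f
    have e7 := hB g g
    rw [← ht, hf] at e4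
    rw [hf] at e5
    rw [hg, hf] at e6
    rw [hg] at e7
    simp [hs] at e4 e5 e6 e7
    refine ⟨a, b, c, d, ?_, ?_, ?_, by linear_combination -e5, by linear_combination -e7⟩
    · rw [← ht, show t = H.σ a by linear_combination e4]
    · rw [hf]; module
    · rw [hg, show k = d * H.σ a + H.σ b by linear_combination e6]; module
  choose a b c d h1 h3 h5 h6 h7 using key
  refine Nat.card_le_card_of_injective (fun s => (a s, b s, ⟨c s + H.σ (c s), by simp [add_comm]⟩,
    ⟨d s, h7 s⟩)) fun s s' e => ?_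
  simp only [Prod.mk.injEq, Subtype.mk.injEq] at e
  obtain ⟨e1, e2, e3, e4⟩ := e
  have e5 : c s = c s' := mul_left_cancel₀ h2 (by
    rw [h6, h6, e1, e2] at e3; linear_combination e3)
  refine Subtype.ext (LinearEquiv.ext fun x => ?_)
  rw [conf_decomp C h4 x]
  simp only [map_add, map_sub, map_smul, h1, h3, h5, C.fix _ s.2, C.fix _ s'.2, e1, e2, e4, e5]

theorem conf_rel (C : H.Conf p S v f e g) (h2 : (2 : K) ≠ 0) {θ : K} (hθ : H.σ θ = -θ) {c : ℤ}
    (hc : θ * θ = -c) : ∃ E ∈ H.G, ∃ x ∈ H.G, ∃ y ∈ H.G, ∃ d ∈ H.G, ∃ w ∈ H.G, ∃ z ∈ H.G,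
      Rel p 0 1 1 0 0 c E x y d w z ∧ z ≠ 1 := by
  obtain ⟨-, ev, ef⟩ := Herm.mem_pp.1 C.e_mem
  obtain ⟨-, gv, gf⟩ := Herm.mem_pp.1 C.g_mem
  have hs := And.intro C.vv <| And.intro C.ee <| And.intro C.gg <| And.intro C.eg <|
    And.intro (Herm.symm1 C.eg) <| And.intro ev <| And.intro gv <| And.intro (Herm.symm0 ev) <|
    And.intro (Herm.symm0 gv) hθ
  have hE := (Herm.eich_mem_R (p := p) (u := 0) (c := -1) C.ee (by simp) (by simp)).1
  have hm : ∀ (a b c a' b' c' : K), H.eich v (a • e + b • g) c * H.eich v (a' • e + b' • g) c' =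
      H.eich v ((a + a') • e + (b + b') • g) (c + c' + (a' * H.σ b - b' * H.σ a)) :=
    fun a b c a' b' c' => by
      rw [Herm.eich_mul C.vv (by simp [hs]) (by simp [hs])]
      congr 1
      · module
      · simp [hs]; ring
  have hj : ∀ a b c : K, H.eich e 0 (-1) * H.eich v (a • e + b • g) c =
      H.eich v ((a + b) • e + b • g) c * H.eich e 0 (-1) := fun a b c => by
    rw [← mul_inv_eq_iff_eq_mul, Herm.eich_conj hE C.vv (by simp [hs])]
    congr 1
    · rw [Herm.eich_apply C.ee (by simp)]; simp [hs]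
    · rw [Herm.eich_apply C.ee (by simp)]; simp [hs]; module
  have hG : ∀ a b c : K, H.σ c = c → a * H.σ b = b * H.σ a → H.eich v (a • e + b • g) c ∈ H.G :=
    fun a b c h1 h3 => (Herm.eich_mem_R (p := p) C.vv (by simp [hs])
      (by simp [hs, h1]; linear_combination -h3)).1
  have hq : ∀ a b c : K, a * H.σ b = b * H.σ a → H.eich v (a • e + b • g) c ^ p = 1 :=
    fun a b c h3 => eich_pow_p C.vv (by simp [hs]) (by simp [hs]; linear_combination h3) c
  have hz : H.eich v ((0 : K) • e + (0 : K) • g) 2 ^ c = H.eich v ((0 : K) • e + (0 : K) • g) (c * 2) := by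
    rw [eich_zpow C.vv (by simp) (by simp)]; simp
  have h22 : H.σ 2 = 2 := map_ofNat _ 2
  refine ⟨_, hE, _, hG 0 1 0 (by simp) (by simp), _, hG 0 θ 0 (by simp) (by simp), _,
    hG θ 0 (-c) (by simp) (by simp), _, hG 1 0 (-1) (by simp) (by simp), _, hG 0 0 2 h22 (by simp),
    ⟨eich_pow_p C.ee (by simp) (by simp) _, hq _ _ _ (by simp), hq _ _ _ (by simp),
      hq _ _ _ (by simp), hq _ _ _ (by simp), hq _ _ _ (by simp), ?_, ?_, ?_, ?_, ?_, ?_, ?_, ?_, ?_,
      ?_, ?_, ?_, ?_, ?_, ?_⟩, fun h => h2 ?_⟩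
  rotate_right
  · have := congrArg (fun s : V ≃ₗ[K] V => H.B (s f) f) h
    simp only [Herm.eich_apply C.vv (u := (0 : K) • e + (0 : K) • g) (by simp)] at this
    simpa [C.ff, C.vf, Herm.symm1 C.vf] using this
  all_goals
    simp only [Commute, SemiconjBy, hz, hm, hj, pow_zero, pow_one, zpow_zero, mul_one, one_mul,
      add_zero, zero_add, map_zero, map_one, hθ, mul_left_inj]
  all_goals
    congr 1 <;> first | linear_combination (-2 : K) * hc | linear_combination hc | ring1 | module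

end Herm

theorem model_SU4_aux (p : ℕ) [Fact p.Prime] (hp : Odd p) (c : ℤ) (hc : ¬ IsSquare (-(c : ZMod p)))
    {K : Type} [Field K] [Fintype K] [CharP K p] (hK : Fintype.card K = p ^ 2) :
    (∃ e x y d w z : Cfsg.SU 4 K p, Rel p 0 1 1 0 0 c e x y d w z ∧ z ≠ 1) ∧
      ∀ P : Sylow p (Cfsg.SU 4 K p), Nat.card P ≤ p ^ 6 := by
  classical
  have hp' := (Fact.out : p.Prime)
  let _ : Algebra (ZMod p) K := ZMod.algebra K p
  let σ := frobenius K p
  have hσ : ∀ x, σ x = x ^ p := fun _ => rfl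
  have hσσ : ∀ x, σ (σ x) = x := fun x => by
    rw [hσ, hσ, ← pow_mul, ← pow_two, ← hK, FiniteField.pow_card]
  have hp2 : p ≠ 2 := by rintro rfl; exact absurd hp (by decide)
  have h2 : (2 : K) ≠ 0 := Ring.two_ne_zero ((ringChar.eq K p).symm ▸ hp2)
  have hc0 : (-(c : ZMod p)) ≠ 0 := fun e => hc (e ▸ IsSquare.zero)
  obtain ⟨θ, hθ⟩ : IsSquare (algebraMap (ZMod p) K (-c)) := by
    obtain ⟨k, rfl⟩ := hp
    rw [FiniteField.isSquare_iff ((ringChar.eq K _).symm ▸ hp2) ((map_ne_zero _).2 hc0), hK,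
      show (2 * k + 1) ^ 2 / 2 = (2 * k + 1 - 1) * (k + 1) by
        rw [show (2 * k + 1) ^ 2 = 2 * (2 * k * (k + 1)) + 1 by ring, Nat.add_sub_cancel]; omega,
      pow_mul, ← map_pow, ZMod.pow_card_sub_one_eq_one hc0]
    simp
  have hθ1 : σ θ ≠ θ := fun e => by
    obtain ⟨t, rfl⟩ := (mem_bot_iff_intCast p K).1
      ((Subfield.mem_bot_iff_pow_eq_self K p).2 e)
    exact hc ⟨t, (algebraMap (ZMod p) K).injective (by simpa using hθ)⟩
  have hθ2 : θ * θ = -c := by simpa using hθ.symm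
  have hθ3 : σ θ = -θ := (mul_self_eq_mul_self_iff.1 (by rw [← map_mul, hθ2]; simp)).resolve_left hθ1
  have hN : ∀ r, σ r = r → ∃ t, t * σ t = r := fun r hr => by
    by_cases h : r = 0
    · exact ⟨0, by simp [h]⟩
    obtain ⟨t, ht⟩ := (Nat.card_pos_iff.1 (p.succ_pos.trans_eq (card_norm_fiber hK h hr).symm)).1
    exact ⟨t, by rw [hσ, ← pow_succ', ht]⟩
  let H := uHerm 4 σ hσ hσσ θ hθ1 hN
  let φ := matRep ((slToMat 4 K).comp (SU 4 K p).subtype)
  have hφ : Function.Injective φ := matRep_injective fun x y e => Subtype.ext (Subtype.ext e)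
  have hr : φ.range = H.G := by
    refine le_antisymm ?_ fun g hg => ?_
    · rintro _ ⟨A, rfl⟩
      exact ⟨fun x y => congrArg _ (A.2 x y), Or.inl (Units.ext ((det_matRep _ _).trans A.1.2))⟩
    · have h1 : ∀ x, LinearMap.toMatrix' g.toLinearMap *ᵥ x = g x := fun x => by
        rw [← Matrix.toLin'_apply, Matrix.toLin'_toMatrix']; rfl
      refine ⟨⟨⟨LinearMap.toMatrix' g.toLinearMap, ?_⟩, fun x y => ?_⟩, LinearEquiv.ext h1⟩
      · rw [LinearMap.det_toMatrix', ← LinearEquiv.coe_det,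
          hg.2.resolve_right fun h => hθ1 (h θ)]; rfl
      · have h2 := hg.1 x y
        rw [← h1, ← h1] at h2
        exact mul_left_cancel₀ (sub_ne_zero.2 hθ1.symm) h2
  refine ⟨?_, fun P => ?_⟩
  · obtain ⟨S, hS⟩ := exists_sylowIn p H.G
    obtain ⟨v, f, e, g, C⟩ := Herm.exists_conf (by simp) hS
    have := conf_rel C h2 hθ3 hθ2
    rw [← hr] at this
    obtain ⟨_, ⟨e, rfl⟩, _, ⟨x, rfl⟩, _, ⟨y, rfl⟩, _, ⟨d, rfl⟩, _, ⟨w, rfl⟩, _, ⟨z, rfl⟩, h, hz⟩ := this
    exact ⟨e, x, y, d, w, z, h.of_map hφ, fun e => hz (e ▸ map_one φ)⟩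
  · obtain ⟨S, hS, hle⟩ := exists_sylowIn_ge (P.isPGroup'.map φ) (hr ▸ map_le_range φ _)
    obtain ⟨v, f, e, g, C⟩ := Herm.exists_conf (by simp) hS
    have h3 : Nat.card {t // H.σ t = t} = p := (Nat.card_congr (Equiv.subtypeEquivRight fun t =>
      (Subfield.mem_bot_iff_pow_eq_self K p).symm)).trans (Subfield.card_bot K p)
    have h4 := (card_le_of_le hle).trans (conf_card C (by simp) h2)
    rw [card_map_of_injective hφ, Nat.card_prod, Nat.card_prod, Nat.card_prod, h3,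
      Nat.card_eq_fintype_card (α := K), hK] at h4
    exact h4.trans_eq (by ring)

theorem model_SU4 (p : ℕ) [Fact p.Prime] (hp : Odd p) (c : ℤ) (hc : ¬ IsSquare (-(c : ZMod p))) :
    ∃ (K : Type) (_ : Field K) (_ : Fintype K), Fintype.card K = p ^ 2 ∧
      (∃ e x y d w z : Cfsg.SU 4 K p, Rel p 0 1 1 0 0 c e x y d w z ∧ z ≠ 1) ∧
      ∀ P : Sylow p (Cfsg.SU 4 K p), Nat.card P ≤ p ^ 6 := by
  let _ : Fintype (GaloisField p 2) := Fintype.ofFinite _
  have hK : Fintype.card (GaloisField p 2) = p ^ 2 := by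
    rw [← Nat.card_eq_fintype_card]; exact GaloisField.card p 2 two_ne_zero
  exact ⟨_, inferInstance, inferInstance, hK, model_SU4_aux p hp c hc hK⟩

end Cfsg.Agent.EX
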