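import Cfsg.Agent.Lib.EX.Loc

/-!
# S5177: step 0, an invariant extraspecial subgroup (see notes/EX.md)
-/

set_option autoImplicit false
set_option linter.unusedSectionVars false
set_option linter.unusedVariables false

namespace Cfsg.Agent.EX

open Subgroup Cfsg.Agent.H6 Cfsg.Agent.FT
open scoped commutatorElement

variable {G : Type*} [Group G] [Finite G] {p : ℕ} [hp : Fact p.Prime] {S Q Z R Γ : Subgroup G}
  {g : G}

/-- Maschke's theorem for an elementary abelian quotient `S / K`. -/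
theorem maschke_sec {A K U : Subgroup G} (hK : K ≤ U) (hU : U ≤ S) (hc : ⁅S, S⁆ ≤ K)
    (hpow : ∀ a ∈ S, a ^ p ∈ K) (hA : A ≤ 𝒩(S)) (hAK : A ≤ 𝒩(K)) (hAU : A ≤ 𝒩(U))
    (hA' : ∀ a ∈ A, ∃ m : ℕ, ¬ p ∣ m ∧ a ^ m ∈ S ⊔ 𝒞(S)) :
    ∃ H : Subgroup G, K ≤ H ∧ H ≤ S ∧ U ⊓ H = K ∧ U ⊔ H = S ∧ A ≤ 𝒩(H) := by
  have hn := NormalIn.of_der_le hc (hK.trans hU)
  have hCK : 𝒞(S) ≤ 𝒩(K) := (cent_le_cent (hK.trans hU)).trans cent_le_norm
  have hAC : quo K A ≤ 𝒩(𝒞(quo K S)) := H1.le_normalizer_centralizer (quo_le_norm hA)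
  have hnd : ¬ p ∣ (𝒞(quo K S)).relIndex (quo K A) := by
    intro hd
    rw [← card_quo hAC] at hd
    obtain ⟨⟨x, hx⟩, ho⟩ := exists_prime_orderOf_dvd_card' p hd
    obtain ⟨b, hb, hbN, rfl⟩ := mem_quo.1 hx
    obtain ⟨a, ha, haN, rfl⟩ := mem_quo.1 hb
    rw [orderOf_mk] at ho
    obtain ⟨m, hm, ham⟩ := hA' a ha
    have h1 : quo K (S ⊔ 𝒞(S)) ≤ 𝒞(quo K S) := by
      rw [quo_sup hn.norm hCK]
      exact sup_le ((quo_le_cent_iff hn.norm hn.norm).2 hc) (quo_le_cent le_rfl)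
    have h2 := h1 (coset_mem_quo ham)
    rw [coset_pow haN, ← coset_eq_one_iff (pow_mem hbN m), coset_pow hbN] at h2
    exact hm (ho ▸ orderOf_dvd_of_pow_eq_one h2)
  obtain ⟨W, hW, hn'⟩ := Maschke_abelem_of_relIndex hp.out ((quo_elem_iff hn.norm).2 ⟨hc, hpow⟩)
    hnd (quo_mono K hU) (quo_le_norm hA) (quo_le_norm hAU)
  have hWS := coquo_le_of_le_quo hn hW.right_le
  refine ⟨coquo K W, le_coquo W, hWS, le_antisymm ?_ (le_inf hK (le_coquo W)),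
    le_antisymm (sup_le hU hWS) ?_, (le_norm_coquo hAK).2 hn'⟩
  · rw [← quo_eq_bot_iff ((inf_le_left.trans hU).trans hn.norm), quo_inf_of_le hK, quo_coquo,
      hW.inf_eq]
  · rw [← quo_le_quo_iff' hn.norm (hK.trans le_sup_left), quo_sup (hU.trans hn.norm)
      (coquo_le_norm W), quo_coquo, hW.sup_eq]

theorem der_sup_zpowers {K : Subgroup G} {c : G} (hK : K ≤ 𝒩(Z)) (hc : c ∈ 𝒩(Z))
    (h1 : ⁅K, K⁆ ≤ Z) (h2 : ⁅K, zpowers c⁆ ≤ Z) : ⁅K ⊔ zpowers c, K ⊔ zpowers c⁆ ≤ Z := by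
  have hc' := zpowers_le.2 hc
  rw [← quo_comm_iff (sup_le hK hc'), quo_sup hK hc']
  exact comm_sup ((quo_comm_iff hK).2 h1) (quo_comm inferInstance) ((quo_le_cent_iff hK hc').2 h2)

theorem relIndex_eq_of_not_le {K L : Subgroup G} (hS : IsPGroup p S) (hK : K ≤ S)
    (hi : K.relIndex S = p) (hL : L ≤ S) (h : ¬ L ≤ K) : K.relIndex L = p := by
  have h1 := (H9.eq_or_eq_of_relIndex_prime hp.out hi le_sup_left (sup_le hK hL)).resolve_left
    fun e => h (e ▸ le_sup_right)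
  rw [← relIndex_sup_of_norm (hL.trans (H9.le_normalizer_of_relIndex_eq hS hK hi)), h1, hi]

theorem card_eq_of_relIndex_eq {K L : Subgroup G} (hK : K ≤ S) (hL : L ≤ S)
    (h1 : K.relIndex S = p) (h2 : L.relIndex S = p) : Nat.card K = Nat.card L := by
  have e1 := H1.card_mul_relIndex hK
  have e2 := H1.card_mul_relIndex hL
  rw [h1, ← e2, h2] at e1
  exact Nat.eq_of_mul_eq_mul_right hp.out.pos e1

theorem XS.eq_of_two {Q' Z' : Subgroup G} (hS : IsPGroup p S) (h : XS p Q Z) (h' : XS p Q' Z')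
    (hQS : Q ≤ S) (hQS' : Q' ≤ S) (hi' : Q'.relIndex S = p) (hne : ¬ Q ≤ Q') : Z = Z' := by
  by_contra hZ
  have h1 : Z ⊓ Z' = ⊥ := H9.inf_eq_bot_of_card_prime hp.out h.card fun hle =>
    hZ (eq_of_le_of_card_ge hle (by rw [h.card, h'.card]))
  have h2 := h.lt_relIndex (A := Q' ⊓ Q) inf_le_right fun a ha => mem_cent.2 fun b hb => by
    rw [← commutatorElement_eq_one_iff_mul_comm, ← mem_bot, ← h1]
    exact ⟨h.comm b hb.2 a ha.2, h'.comm b hb.1 a ha.1⟩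
  rw [inf_relIndex_right, relIndex_eq_of_not_le hS hQS' hi' hQS hne] at h2
  exact lt_irrefl _ h2

/-- If `A` acts on `S` as a `p'`-group modulo inner automorphisms, some extraspecial subgroup of
index `p` is `A`-invariant. -/
theorem exists_invariant {A : Subgroup G} (hS : IsPGroup p S) (h : XS p Q Z) (hQS : Q ≤ S)
    (hi : Q.relIndex S = p) (hA : A ≤ 𝒩(S))
    (hA' : ∀ a ∈ A, ∃ m : ℕ, ¬ p ∣ m ∧ a ^ m ∈ S ⊔ 𝒞(S)) :
    ∃ Q' : Subgroup G, XS p Q' Z ∧ Q' ≤ S ∧ Q'.relIndex S = p ∧ A ≤ 𝒩(Q') := by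
  by_cases hAQ : A ≤ 𝒩(Q)
  · exact ⟨Q, h, hQS, hi, hAQ⟩
  have key : ∀ a ∈ A, cj a Q ≤ S ∧ (cj a Q).relIndex S = p ∧ (a ∉ 𝒩(Q) → ¬ Q ≤ cj a Q) := by
    intro a ha
    have e := cj_eq_self_iff.2 (hA ha)
    refine ⟨e ▸ cj_mono a hQS, by rw [← hi, ← relIndex_cj a Q S, e], fun hn hle => hn ?_⟩
    exact cj_eq_self_iff.1 (eq_of_le_of_card_ge hle (by rw [card_cj])).symm
  have hAZ : A ≤ 𝒩(Z) := fun a ha => by
    by_cases hn : a ∈ 𝒩(Q)
    · exact h.norm_le hn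
    · obtain ⟨k1, k2, k3⟩ := key a ha
      exact cj_eq_self_iff.1 (h.eq_of_two hS (h.cj a) hQS k1 k2 (k3 hn)).symm
  obtain ⟨a, ha, hn⟩ := SetLike.not_le_iff_exists.1 hAQ
  obtain ⟨hQS', hi', hne⟩ := key a ha
  replace hne := hne hn
  have h' := h.cj a
  rw [cj_eq_self_iff.2 (hAZ ha)] at h'
  generalize cj a Q = Q' at hQS' hi' hne h'
  have hSQ := H9.le_normalizer_of_relIndex_eq hS hQS hi
  have hSZ : S ≤ 𝒩(Z) := hSQ.trans h.norm_le
  have hZS : S ≤ 𝒞(Z) := fun x hx => mem_cent.2 fun z hz =>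
    (H9.commute_of_card_prime h.card hS hSZ hx hz).symm
  have hZ : Z ≤ S := h.le.trans hQS
  have hsup : Q' ⊔ Q = S :=
    (H9.eq_or_eq_of_relIndex_prime hp.out hi' le_sup_left (sup_le hQS' hQS)).resolve_left
      fun e => hne (e ▸ le_sup_right)
  have hd : ⁅Q, Q⁆ ≤ Z := commutator_le.2 h.comm
  have hd' : ⁅Q', Q'⁆ ≤ Z := commutator_le.2 h'.comm
  have hcS : S ⊓ 𝒞(S) ⊓ Q ≤ Z := h.zc ▸ le_inf inf_le_right
    (inf_le_left.trans (inf_le_right.trans (cent_le_cent hQS)))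
  -- it suffices to find `H` of index `p`
  suffices ∃ H : Subgroup G, Z ≤ H ∧ H ≤ S ∧ H.relIndex S = p ∧ A ≤ 𝒩(H) ∧ ⁅H, H⁆ ≤ Z ∧
      H ⊓ 𝒞(H) ≤ Z by
    obtain ⟨H, k1, k2, k3, k4, k5, k6⟩ := this
    exact ⟨H, ⟨le_antisymm k6 (le_inf k1 (cent_comm.1 (k2.trans hZS))), h.card,
      commutator_le.1 k5, hS.to_le k2, card_eq_of_relIndex_eq hQS k2 hi k3 ▸ h.big⟩, k2, k3, k4⟩
  by_cases hab : ⁅S, S⁆ ≤ Z
  · have hel : IsElementaryAbelian p (quo Z S) := by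
      have e := quo_sup (K := Z) (hQS'.trans hSZ) (hQS.trans hSZ)
      rw [hsup] at e
      rw [e]
      exact elem_sup ((quo_elem_iff (hQS'.trans hSZ)).2 ⟨hd', fun _ => h'.pow_mem⟩)
        ((quo_elem_iff (hQS.trans hSZ)).2 ⟨hd, fun _ => h.pow_mem⟩)
        ((quo_le_cent_iff (hQS'.trans hSZ) (hQS.trans hSZ)).2
          ((commutator_mono hQS' hQS).trans hab))
    have hZU : Z ≤ S ⊓ 𝒞(S) := le_inf hZ (cent_comm.1 hZS)
    obtain ⟨H, k1, k2, k3, k4, k5⟩ := maschke_sec hZU inf_le_left hab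
      ((quo_elem_iff hSZ).1 hel).2 hA hAZ (hA.trans (norm_le_norm_Zc S)) hA'
    have hU : ¬ S ⊓ 𝒞(S) ≤ Q := by
      intro hle
      have h1 := (critical_extraspecial hp.out h.extraspecial hS hQS (by
        rw [((extraspecial_iff hp.out).1 h.extraspecial).2.2.1, Zc, h.zc]
        exact (commutator_mono hQS le_rfl).trans hab)).sup_eq
      have h2 : ¬ S ⊓ 𝒞(Q) ≤ Q := fun h2 => by
        rw [sup_eq_left.2 h2] at h1
        rw [h1, relIndex_self] at hi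
        exact hp.out.one_lt.ne hi
      obtain ⟨c, hc, hcQ⟩ := SetLike.not_le_iff_exists.1 h2
      refine hcQ (hle ⟨hc.1, ?_⟩)
      rw [← H9.sup_zpowers_eq_of_relIndex_prime hp.out hi hQS hc.1 hcQ, cent_sup, cent_zpowers]
      exact ⟨hc.2, mem_cent1.2 rfl⟩
    refine ⟨H, k1, k2, ?_, k5, (commutator_mono k2 k2).trans hab, fun u hu => ?_⟩
    · rw [← k4, sup_comm, relIndex_sup_of_norm ((inf_le_right.trans (cent_le_cent k2)).trans
        cent_le_norm), ← inf_relIndex_left, k3, ← relIndex_eq_of_not_le hS hQS hi inf_le_left hU,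
        ← inf_relIndex_left _ Q, le_antisymm hcS (le_inf hZU h.le)]
    · rw [← k3]
      refine ⟨⟨k2 hu.1, ?_⟩, hu.1⟩
      rw [← k4, cent_sup]
      exact ⟨cent_comm.1 inf_le_right (k2 hu.1), hu.2⟩
  · -- `K / Z` is the centre of `S / Z`
    have hnZ : NormalIn Z S := ⟨hZ, hSZ⟩
    have hC : ∀ B, B ≤ S → (B ≤ coquo Z (Zc (quo Z S)) ↔ ⁅B, S⁆ ≤ Z) := fun B hB => by
      rw [← quo_le_iff (hB.trans hSZ), Zc, le_inf_iff, and_iff_right (quo_mono Z hB),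
        quo_le_cent_iff (hB.trans hSZ) hSZ]
    have hCS : coquo Z (Zc (quo Z S)) ≤ S := coquo_le_of_le_quo hnZ inf_le_left
    have hCQ : ∀ Q₁, XS p Q₁ Z → Q₁ ≤ S → Q₁.relIndex S = p → coquo Z (Zc (quo Z S)) ≤ Q₁ := by
      intro Q₁ h₁ hle hi₁ c hc
      by_contra hcQ
      refine hab ?_
      rw [← H9.sup_zpowers_eq_of_relIndex_prime hp.out hi₁ hle (hCS hc) hcQ]
      refine der_sup_zpowers (hle.trans hSZ) (hSZ (hCS hc)) (commutator_le.2 h₁.comm) ?_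
      rw [commutator_comm]
      exact (commutator_mono le_rfl hle).trans
        ((hC _ (zpowers_le.2 (hCS hc))).1 (zpowers_le.2 hc))
    have hKQ : Q' ⊓ Q ≤ Q := inf_le_right
    have hKS := hKQ.trans hQS
    have hKc : ⁅Q' ⊓ Q, S⁆ ≤ Z := by
      rw [← quo_le_cent_iff (hKS.trans hSZ) hSZ, ← hsup, quo_sup (hQS'.trans hSZ) (hQS.trans hSZ),
        cent_sup, le_inf_iff, quo_le_cent_iff (inf_le_left.trans (hQS'.trans hSZ)) (hQS'.trans hSZ),
        quo_le_cent_iff (inf_le_left.trans (hQS'.trans hSZ)) (hQS.trans hSZ)]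
      exact ⟨(commutator_mono inf_le_left le_rfl).trans hd',
        (commutator_mono inf_le_right le_rfl).trans hd⟩
    have hAK : A ≤ 𝒩(Q' ⊓ Q) := by
      rw [le_antisymm ((hC _ hKS).2 hKc) (le_inf (hCQ _ h' hQS' hi') (hCQ _ h hQS hi))]
      exact (le_norm_coquo hAZ).2 ((quo_le_norm hA).trans (norm_le_norm_Zc _))
    have hKi : (Q' ⊓ Q).relIndex Q = p := by
      rw [inf_relIndex_right, relIndex_eq_of_not_le hS hQS' hi' hQS hne]
    have hZK : Z ≤ Q' ⊓ Q := le_inf h'.le h.le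
    have hSS : ⁅S, S⁆ ≤ Q' ⊓ Q := commutator_le.2 fun a ha b hb =>
      ⟨H9.Phi_le_of_relIndex_eq hS hQS' hi' (H9.commutator_mem_Phi ha hb),
        H9.Phi_le_of_relIndex_eq hS hQS hi (H9.commutator_mem_Phi ha hb)⟩
    have hSp : ∀ a ∈ S, a ^ p ∈ Q' ⊓ Q := fun a ha =>
      ⟨H9.pow_mem_of_relIndex_prime hS hQS' hi' ha, H9.pow_mem_of_relIndex_prime hS hQS hi ha⟩
    generalize Q' ⊓ Q = K at hKQ hKS hKc hAK hKi hZK hSS hSp
    have hSK : S ≤ 𝒩(K) := (NormalIn.of_der_le hSS hKS).norm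
    have hY : Nat.card (Q ⊓ 𝒞(K) : Subgroup G) = p ^ 2 := by
      have e1 := card_eq_relIndex_mul_inf 𝒞(K) Q
      have e2 := H1.card_mul_relIndex hKQ
      have e3 := H1.card_mul_relIndex hZK
      rw [le_antisymm (h.relIndex_le' hKQ) (h.relIndex_le hKQ), ← e2, ← e3, hKi, h.card,
        inf_comm] at e1
      refine Nat.eq_of_mul_eq_mul_left (Nat.pos_of_ne_zero (relIndex_ne_zero' Z K)) ?_
      rw [← e1]; ring
    have hYK : Q ⊓ 𝒞(K) = K ⊓ 𝒞(K) := by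
      refine le_antisymm (le_inf (fun y hy => ?_) inf_le_right) (inf_le_inf_right _ hKQ)
      by_contra hyK
      refine hyK (hZK (h.zc ▸ ⟨hy.1, ?_⟩))
      rw [← H9.sup_zpowers_eq_of_relIndex_prime hp.out hKi hKQ hy.1 hyK, cent_sup, cent_zpowers]
      exact ⟨hy.2, mem_cent1.2 rfl⟩
    rw [hYK] at hY
    have hU : (S ⊓ 𝒞(K ⊓ 𝒞(K))).relIndex S = p := by
      rw [inf_relIndex_left]
      refine ((Nat.dvd_prime hp.out).1 (H9.relIndex_centralizer_dvd_of_card_sq hS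
        (inf_le_left.trans hKS) (hSK.trans (norm_le_norm_Zc K)) hY)).resolve_left fun h1 => ?_
      have h2 : K ⊓ 𝒞(K) ≤ Z := (le_inf (le_inf (inf_le_left.trans hKS)
        (cent_comm.1 (relIndex_eq_one.1 h1))) (inf_le_left.trans hKQ)).trans hcS
      have h3 := H9.card_le_of_le' h2
      rw [hY, h.card] at h3
      have := hp.out.one_lt
      nlinarith
    have hKU : K ≤ S ⊓ 𝒞(K ⊓ 𝒞(K)) := le_inf hKS (cent_comm.1 inf_le_right)
    obtain ⟨H, k1, k2, k3, k4, k5⟩ := maschke_sec hKU inf_le_left hSS hSp hA hAK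
      (H1.le_normalizer_inf hA (H1.le_normalizer_centralizer (hAK.trans (norm_le_norm_Zc K)))) hA'
    have hHU : ¬ H ≤ S ⊓ 𝒞(K ⊓ 𝒞(K)) := fun hle => by
      rw [sup_eq_left.2 hle] at k4
      rw [k4, relIndex_self] at hU
      exact hp.out.one_lt.ne hU
    have hKH : K.relIndex H = p := by
      rw [← k3, inf_relIndex_right, relIndex_eq_of_not_le hS inf_le_left hU k2 hHU]
    obtain ⟨w, hw, hwU⟩ := SetLike.not_le_iff_exists.1 hHU
    refine ⟨H, hZK.trans k1, k2, ?_, k5, ?_, fun u hu => ?_⟩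
    · have e1 := relIndex_mul_relIndex K H S k1 k2
      rw [← relIndex_mul_relIndex K Q S hKQ hQS, hKH, hKi, hi] at e1
      exact Nat.eq_of_mul_eq_mul_left hp.out.pos e1
    · rw [← H9.sup_zpowers_eq_of_relIndex_prime hp.out hKH k1 hw fun h => hwU (hKU h)]
      exact der_sup_zpowers (hKS.trans hSZ) (hSZ (k2 hw)) ((commutator_mono le_rfl hKS).trans hKc)
        ((commutator_mono le_rfl (zpowers_le.2 (k2 hw))).trans hKc)
    · have huK : u ∈ K := by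
        by_contra huK
        refine hHU ?_
        rw [← H9.sup_zpowers_eq_of_relIndex_prime hp.out hKH k1 hu.1 huK]
        exact sup_le hKU (zpowers_le.2 ⟨k2 hu.1, cent_le_cent (inf_le_left.trans k1) hu.2⟩)
      refine hcS ⟨⟨hKS huK, ?_⟩, hKQ huK⟩
      rw [← k4, cent_sup]
      exact ⟨cent_comm.1 inf_le_right ⟨huK, cent_le_cent k1 hu.2⟩, hu.2⟩

end Cfsg.Agent.EX
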